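import Cfsg.Agent.Lib.Geom.ReflThreeIndex
import Mathlib.LinearAlgebra.QuadraticForm.Basic

/-!
The standard dot product in six dimensions over the field with three elements: extending a path of
five vectors of norm one.
-/

set_option autoImplicit false
set_option maxRecDepth 100000

namespace CfsgLib.Trans3.FiConf.Dots

open CfsgLib.Geom.ReflThree

local instance factPrimeThreeDots : Fact (Nat.Prime 3) := ⟨Nat.prime_three⟩

/-- The vectors. -/
abbrev V := Fin 6 → ZMod 3

/-- The dot product. -/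
def dot (x y : V) : ZMod 3 :=
  x 0 * y 0 + x 1 * y 1 + x 2 * y 2 + x 3 * y 3 + x 4 * y 4 + x 5 * y 5

theorem dot_comm (x y : V) : dot x y = dot y x := by simp only [dot]; ring

theorem dot_add (x y z : V) : dot x (y + z) = dot x y + dot x z := by
  simp only [dot, Pi.add_apply]; ring

theorem dot_smul (x y : V) (c : ZMod 3) : dot x (c • y) = c * dot x y := by
  simp only [dot, Pi.smul_apply, smul_eq_mul]; ring

theorem dot_zero (x : V) : dot x 0 = 0 := by simp [dot]

theorem dot_sum {n : ℕ} (x : V) (k : Fin n → ZMod 3) (v : Fin n → V) :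
    dot x (∑ i, k i • v i) = ∑ i, k i * dot x (v i) := by
  induction n with
  | zero => simp [dot_zero]
  | succ n ih => rw [Fin.sum_univ_succ, Fin.sum_univ_succ, dot_add, dot_smul, ih]

theorem exists_dot {S : Submodule (ZMod 3) V} {r : V} (hr : r ∉ S) :
    ∃ x, (∀ s ∈ S, dot x s = 0) ∧ dot x r = 1 := by
  obtain ⟨φ, h1, h2⟩ := Submodule.exists_dual_map_eq_bot_of_notMem hr inferInstance
  let x : V := fun i => φ (Pi.single i 1)
  have key : ∀ v, dot x v = φ v := by
    intro v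
    conv_rhs => rw [pi_eq_sum_univ' v, map_sum]
    simp only [Fin.sum_univ_six, map_smul, smul_eq_mul, dot, x]
    ring
  refine ⟨(φ r)⁻¹ • x, fun s hs => ?_, ?_⟩
  · have : φ s = 0 := by
      have : φ s ∈ S.map φ := Submodule.mem_map_of_mem hs
      rwa [h2, Submodule.mem_bot] at this
    rw [dot_comm, dot_smul, dot_comm, key, this, mul_zero]
  · rw [dot_comm, dot_smul, dot_comm, key, inv_mul_cancel₀ h1]

set_option synthInstance.maxSize 4000 in
set_option synthInstance.maxHeartbeats 400000 in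
theorem five_null : ∀ s₁ s₂ s₃ s₄ : ZMod 3, s₁ ≠ 0 → s₂ ≠ 0 → s₃ ≠ 0 → s₄ ≠ 0 →
    ∀ a b c d e : ZMod 3, a + b * s₁ = 0 → a * s₁ + b + c * s₂ = 0 → b * s₂ + c + d * s₃ = 0 →
      c * s₃ + d + e * s₄ = 0 → d * s₄ + e = 0 →
      b = a * -s₁ ∧ c = 0 ∧ d = a * (s₁ * s₂ * s₃) ∧ e = a * -(s₁ * s₂ * s₃ * s₄) := by
  decide +kernel

set_option synthInstance.maxSize 4000 in
set_option synthInstance.maxHeartbeats 400000 in
theorem four_null : ∀ s₁ s₂ s₃ : ZMod 3, s₁ ≠ 0 → s₂ ≠ 0 → s₃ ≠ 0 →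
    ∀ a b c d : ZMod 3, a + b * s₁ = 0 → a * s₁ + b + c * s₂ = 0 → b * s₂ + c + d * s₃ = 0 →
      c * s₃ + d = 0 → a = 0 ∧ b = 0 ∧ c = 0 ∧ d = 0 := by
  decide +kernel

set_option synthInstance.maxSize 4000 in
set_option synthInstance.maxHeartbeats 400000 in
theorem six_null : ∀ s₁ s₂ s₃ s₄ : ZMod 3, s₁ ≠ 0 → s₂ ≠ 0 → s₃ ≠ 0 → s₄ ≠ 0 →
    ∀ z a b c d e : ZMod 3, z + a = 0 → z + a + b * s₁ = 0 → a * s₁ + b + c * s₂ = 0 →
      b * s₂ + c + d * s₃ = 0 → c * s₃ + d + e * s₄ = 0 → d * s₄ + e = 0 →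
      z = 0 ∧ a = 0 ∧ b = 0 ∧ c = 0 ∧ d = 0 ∧ e = 0 := by
  decide +kernel

set_option synthInstance.maxSize 4000 in
set_option synthInstance.maxHeartbeats 400000 in
theorem six_end : ∀ s₁ s₂ s₃ s₄ : ZMod 3, s₁ ≠ 0 → s₂ ≠ 0 → s₃ ≠ 0 → s₄ ≠ 0 →
    ∀ z a b c d e : ZMod 3, z + a + b * s₁ = 0 → a * s₁ + b + c * s₂ = 0 →
      b * s₂ + c + d * s₃ = 0 → c * s₃ + d + e * s₄ = 0 → d * s₄ + e ≠ 0 →
      z * (z + a) + e * (d * s₄ + e) = 1 → z + a ≠ 0 := by
  decide +kernel

theorem unit_cases : ∀ x : ZMod 3, x ≠ 0 → x * x = 1 := by decide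

/-- The vectors of a path of five. -/
structure Path where
  /-- the vectors -/
  f : V
  /-- second -/
  e : V
  /-- middle -/
  d : V
  /-- fourth -/
  h : V
  /-- fifth -/
  i : V
  ff : dot f f = 1
  ee : dot e e = 1
  dd : dot d d = 1
  hh : dot h h = 1
  ii : dot i i = 1
  fe : dot f e ≠ 0
  ed : dot e d ≠ 0
  dh : dot d h ≠ 0
  hi : dot h i ≠ 0
  fd : dot f d = 0
  fh : dot f h = 0
  fi : dot f i = 0
  eh : dot e h = 0
  ei : dot e i = 0
  di : dot d i = 0

/-- The reversed path. -/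
def Path.rev (P : Path) : Path where
  f := P.i
  e := P.h
  d := P.d
  h := P.e
  i := P.f
  ff := P.ii
  ee := P.hh
  dd := P.dd
  hh := P.ee
  ii := P.ff
  fe := by rw [dot_comm]; exact P.hi
  ed := by rw [dot_comm]; exact P.dh
  dh := by rw [dot_comm]; exact P.ed
  hi := by rw [dot_comm]; exact P.fe
  fd := by rw [dot_comm]; exact P.di
  fh := by rw [dot_comm]; exact P.ei
  fi := by rw [dot_comm]; exact P.fi
  eh := by rw [dot_comm]; exact P.eh
  ei := by rw [dot_comm]; exact P.fh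
  di := by rw [dot_comm]; exact P.fd

/-- The radical vector of the five. -/
def Path.rad (P : Path) : V :=
  P.f + (-dot P.f P.e) • P.e + (dot P.f P.e * dot P.e P.d * dot P.d P.h) • P.h +
    (-(dot P.f P.e * dot P.e P.d * dot P.d P.h * dot P.h P.i)) • P.i

theorem Path.rad_perp (P : Path) :
    dot P.f P.rad = 0 ∧ dot P.e P.rad = 0 ∧ dot P.d P.rad = 0 ∧ dot P.h P.rad = 0 ∧
      dot P.i P.rad = 0 := by
  have h1 := unit_cases _ P.fe
  have h2 := unit_cases _ P.ed
  have h3 := unit_cases _ P.dh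
  have h4 := unit_cases _ P.hi
  simp only [Path.rad, dot_add, dot_smul, P.ff, P.ee, P.hh, P.ii, P.fh, P.fi, P.eh, P.ei,
    P.di, dot_comm P.e P.f, dot_comm P.d P.f, P.fd, dot_comm P.d P.e, dot_comm P.h P.f,
    dot_comm P.h P.e, dot_comm P.i P.f, dot_comm P.i P.e, dot_comm P.i P.h]
  refine ⟨?_, ?_, ?_, ?_, ?_⟩
  · linear_combination -h1
  · ring
  · linear_combination (dot P.f P.e * dot P.e P.d) * h3
  · linear_combination -(dot P.f P.e * dot P.e P.d * dot P.d P.h) * h4
  · ring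

theorem Path.rad_self (P : Path) : dot P.rad P.rad = 0 := by
  obtain ⟨h1, h2, -, h4, h5⟩ := P.rad_perp
  have hl : ∀ x, dot P.rad x = dot P.f x + (-dot P.f P.e) * dot P.e x +
      (dot P.f P.e * dot P.e P.d * dot P.d P.h) * dot P.h x +
      (-(dot P.f P.e * dot P.e P.d * dot P.d P.h * dot P.h P.i)) * dot P.i x := fun x => by
    rw [dot_comm, Path.rad]
    simp only [dot_add, dot_smul]
    rw [dot_comm x P.f, dot_comm x P.e, dot_comm x P.h, dot_comm x P.i]
  rw [hl, h1, h2, h4, h5]; ring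

/-- The values of a combination of the five. -/
theorem Path.comb (P : Path) (k : Fin 5 → ZMod 3) :
    let w := k 0 • P.f + k 1 • P.e + k 2 • P.d + k 3 • P.h + k 4 • P.i
    dot P.f w = k 0 + k 1 * dot P.f P.e ∧
      dot P.e w = k 0 * dot P.f P.e + k 1 + k 2 * dot P.e P.d ∧
      dot P.d w = k 1 * dot P.e P.d + k 2 + k 3 * dot P.d P.h ∧
      dot P.h w = k 2 * dot P.d P.h + k 3 + k 4 * dot P.h P.i ∧
      dot P.i w = k 3 * dot P.h P.i + k 4 := by
  simp only [dot_add, dot_smul, P.ff, P.ee, P.dd, P.hh, P.ii, P.fd, P.fh, P.fi, P.eh, P.ei, P.di,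
    dot_comm P.e P.f, dot_comm P.d P.f, dot_comm P.d P.e, dot_comm P.h P.f, dot_comm P.h P.e,
    dot_comm P.h P.d, dot_comm P.i P.f, dot_comm P.i P.e, dot_comm P.i P.d, dot_comm P.i P.h,
    mul_one, mul_zero, add_zero, zero_add, and_self]

/-- If the radical vector is not zero, the path extends at its first node. -/
theorem Path.extend (P : Path) (hR : P.rad ≠ 0) :
    ∃ u, dot u u = 1 ∧ dot u P.f = 1 ∧ dot u P.e = 0 ∧ dot u P.d = 0 ∧ dot u P.h = 0 ∧
      dot u P.i = 0 := by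
  have hnot : P.f ∉ Submodule.span (ZMod 3) ({P.e, P.d, P.h, P.i} : Set V) := by
    intro hm
    rw [Submodule.mem_span_insert] at hm
    obtain ⟨b, z, hz, e⟩ := hm
    obtain ⟨c, d, g, rfl⟩ := Submodule.mem_span_triple.1 hz
    obtain ⟨c1, c2, c3, c4, c5⟩ := P.comb ![-1, b, c, d, g]
    have hw : (![-1, b, c, d, g] : Fin 5 → ZMod 3) 0 • P.f + (![-1, b, c, d, g] : Fin 5 → ZMod 3) 1 • P.e +
        (![-1, b, c, d, g] : Fin 5 → ZMod 3) 2 • P.d + (![-1, b, c, d, g] : Fin 5 → ZMod 3) 3 • P.h +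
        (![-1, b, c, d, g] : Fin 5 → ZMod 3) 4 • P.i = 0 := by
      simp only [Matrix.cons_val]
      linear_combination (norm := module) -e
    rw [hw, dot_zero] at c1 c2 c3 c4 c5
    simp only [Matrix.cons_val] at c1 c2 c3 c4 c5
    obtain ⟨e1, e2, e3, e4⟩ := five_null _ _ _ _ P.fe P.ed P.dh P.hi _ _ _ _ _ c1.symm c2.symm c3.symm
      c4.symm c5.symm
    refine hR ?_
    rw [Path.rad]
    subst e1 e2 e3 e4
    linear_combination (norm := module) e
  obtain ⟨x, hx, hxf⟩ := exists_dot hnot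
  have xe : dot x P.e = 0 := hx _ (Submodule.subset_span (by simp))
  have xd : dot x P.d = 0 := hx _ (Submodule.subset_span (by simp))
  have xh : dot x P.h = 0 := hx _ (Submodule.subset_span (by simp))
  have xi : dot x P.i = 0 := hx _ (Submodule.subset_span (by simp))
  have xr : dot x P.rad = 1 := by
    simp only [Path.rad, dot_add, dot_smul, hxf, xe, xh, xi, mul_zero, add_zero]
  obtain ⟨r1, r2, r3, r4, r5⟩ := P.rad_perp
  refine ⟨x + (2 * (1 - dot x x)) • P.rad, ?_, ?_, ?_, ?_, ?_, ?_⟩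
  · have sq : ∀ l : ZMod 3, dot (x + l • P.rad) (x + l • P.rad) =
        dot x x + 2 * l * dot x P.rad + l * l * dot P.rad P.rad := fun l => by
      simp only [dot, Pi.add_apply, Pi.smul_apply, smul_eq_mul]; ring
    rw [sq, xr, P.rad_self]
    generalize dot x x = q
    revert q; decide
  all_goals rw [dot_comm, dot_add, dot_smul, dot_comm _ x]
  · rw [hxf, r1, mul_zero, add_zero]
  · rw [xe, r2, mul_zero, add_zero]
  · rw [xd, r3, mul_zero, add_zero]
  · rw [xh, r4, mul_zero, add_zero]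
  · rw [xi, r5, mul_zero, add_zero]

/-- The two extensions of the path meet. -/
theorem Path.ends_meet (P : Path) {u v : V} (uu : dot u u = 1) (uf : dot u P.f = 1)
    (ue : dot u P.e = 0) (ud : dot u P.d = 0) (uh : dot u P.h = 0) (ui : dot u P.i = 0)
    (vv : dot v v = 1) (vi : dot v P.i ≠ 0) (vf : dot v P.f = 0) (ve : dot v P.e = 0)
    (vd : dot v P.d = 0) (vh : dot v P.h = 0) : dot u v ≠ 0 := by
  let b : Fin 6 → V := ![u, P.f, P.e, P.d, P.h, P.i]
  have val : ∀ k : Fin 6 → ZMod 3, ∀ w, ∑ j, k j • b j = w →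
      dot u w = k 0 + k 1 ∧ dot P.f w = k 0 + k 1 + k 2 * dot P.f P.e ∧
      dot P.e w = k 1 * dot P.f P.e + k 2 + k 3 * dot P.e P.d ∧
      dot P.d w = k 2 * dot P.e P.d + k 3 + k 4 * dot P.d P.h ∧
      dot P.h w = k 3 * dot P.d P.h + k 4 + k 5 * dot P.h P.i ∧
      dot P.i w = k 4 * dot P.h P.i + k 5 := by
    intro k w hw
    rw [← hw]
    simp only [Fin.sum_univ_six, b, Matrix.cons_val, dot_add, dot_smul, dot_comm _ u, uu, uf, ue, ud, uh, ui,
      P.ff, P.ee, P.dd, P.hh, P.ii, P.fd, P.fh, P.fi, P.eh, P.ei, P.di,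
      dot_comm P.e P.f, dot_comm P.d P.f, dot_comm P.d P.e, dot_comm P.h P.f, dot_comm P.h P.e,
      dot_comm P.h P.d, dot_comm P.i P.f, dot_comm P.i P.e, dot_comm P.i P.d, dot_comm P.i P.h,
      mul_one, mul_zero, add_zero, zero_add, and_self]
  have hli : LinearIndependent (ZMod 3) b := by
    rw [Fintype.linearIndependent_iff]
    intro k hk
    obtain ⟨e0, e1, e2, e3, e4, e5⟩ := val k 0 hk
    simp only [dot_zero] at e0 e1 e2 e3 e4 e5
    obtain ⟨a0, a1, a2, a3, a4, a5⟩ := six_null _ _ _ _ P.fe P.ed P.dh P.hi _ _ _ _ _ _ e0.symm e1.symm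
      e2.symm e3.symm e4.symm e5.symm
    intro j; fin_cases j
    exacts [a0, a1, a2, a3, a4, a5]
  obtain ⟨k, hk⟩ := Submodule.mem_span_range_iff_exists_fun (ZMod 3) |>.1
    ((hli.span_eq_top_of_card_eq_finrank (by simp)) ▸ Submodule.mem_top : v ∈ Submodule.span (ZMod 3) (Set.range b))
  obtain ⟨e0, e1, e2, e3, e4, e5⟩ := val k v hk
  rw [dot_comm _ v] at e1 e2 e3 e4 e5
  rw [vf] at e1; rw [ve] at e2; rw [vd] at e3; rw [vh] at e4
  rw [e5] at vi
  have hn : k 0 * dot u v + k 5 * dot P.i v = 1 := by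
    have h1 := dot_sum v k b
    rw [hk, vv] at h1
    simp only [Fin.sum_univ_six, b, Matrix.cons_val, vf, ve, vd, vh, mul_zero, add_zero] at h1
    rw [h1, dot_comm u v, dot_comm P.i v]
  rw [e0, dot_comm P.i v, e5] at hn
  rw [e0]
  exact six_end _ _ _ _ P.fe P.ed P.dh P.hi _ _ _ _ _ _ e1.symm e2.symm e3.symm e4.symm vi hn

/-- The dot product as a quadratic form. -/
noncomputable def sq6 : QuadraticForm (ZMod 3) V :=
  QuadraticMap.weightedSumSquares (ZMod 3) fun _ : Fin 6 => (1 : ZMod 3)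

theorem sq6_apply (x : V) : sq6 x = dot x x := by
  simp only [sq6, QuadraticMap.weightedSumSquares_apply, Fin.sum_univ_six, dot, one_smul]

theorem sq6_polar (x y : V) : QuadraticMap.polar sq6 x y = 2 * dot x y := by
  simp only [QuadraticMap.polar, sq6_apply, dot, Pi.add_apply]; ring

theorem sq6_nondeg : (QuadraticMap.polarBilin sq6).Nondegenerate := by
  have key : ∀ x : V, (∀ y, dot x y = 0) → x = 0 := by
    intro x hx
    funext i
    have := hx (Pi.single i 1)
    fin_cases i <;> simpa [dot, Pi.single_apply] using this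
  have two : (2 : ZMod 3) ≠ 0 := by decide
  constructor
  · intro x hx
    refine key x fun y => (mul_eq_zero.1 ?_).resolve_left two
    rw [← sq6_polar]; exact hx y
  · intro y hy
    refine key y fun x => (mul_eq_zero.1 ?_).resolve_left two
    rw [dot_comm, ← sq6_polar]; exact hy x

/-- If the radical vector is zero, two vectors orthogonal to the outer four meet the middle one. -/
theorem Path.degenerate (P : Path) (hR : P.rad = 0) :
    ∃ p q, dot p p = 1 ∧ dot q q = 1 ∧ dot p q ≠ 0 ∧ q ≠ p ∧ q ≠ -p ∧ dot p P.d ≠ 0 ∧ dot q P.d ≠ 0 ∧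
      (∀ w ∈ [P.f, P.e, P.h, P.i], dot p w = 0 ∧ dot q w = 0) := by
  let S : Submodule (ZMod 3) V := Submodule.span (ZMod 3) ({P.f, P.e, P.d, P.h} : Set V)
  have hdim : Module.finrank (ZMod 3) S ≤ 4 := by
    classical
    have h := finrank_span_finset_le_card (R := ZMod 3) ({P.f, P.e, P.d, P.h} : Finset V)
    simp only [Finset.coe_insert, Finset.coe_singleton] at h
    exact h.trans Finset.card_le_four
  have hrad : LinearMap.BilinForm.orthogonal (QuadraticMap.polarBilin sq6) S ⊓ S = ⊥ := by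
    rw [Submodule.eq_bot_iff]
    rintro x ⟨hxU, hxS⟩
    obtain ⟨a, z, hz, rfl⟩ := Submodule.mem_span_insert.1 hxS
    obtain ⟨b, c, d, rfl⟩ := Submodule.mem_span_triple.1 hz
    have hd : ∀ w ∈ S, dot w (a • P.f + (b • P.e + c • P.d + d • P.h)) = 0 := fun w hw => by
      have h1 := hxU w hw
      change QuadraticMap.polar sq6 w _ = 0 at h1
      rw [sq6_polar] at h1
      exact (mul_eq_zero.1 h1).resolve_left (by decide)
    have m1 := hd P.f (Submodule.subset_span (by simp))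
    have m2 := hd P.e (Submodule.subset_span (by simp))
    have m3 := hd P.d (Submodule.subset_span (by simp))
    have m4 := hd P.h (Submodule.subset_span (by simp))
    simp only [dot_add, dot_smul, P.ff, P.ee, P.dd, P.hh, P.fd, P.fh, P.eh, dot_comm P.e P.f,
      dot_comm P.d P.f, dot_comm P.d P.e, dot_comm P.h P.f, dot_comm P.h P.e, dot_comm P.h P.d,
      mul_one, mul_zero, add_zero, zero_add, ← add_assoc] at m1 m2 m3 m4
    obtain ⟨rfl, rfl, rfl, rfl⟩ := four_null _ _ _ P.fe P.ed P.dh a b c d m1 m2 m3 m4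
    simp
  obtain ⟨z, hz, hzS⟩ := exists_value_orth sq6 sq6_nondeg S (by rw [hrad, finrank_bot]; exact Nat.add_le_add_right (Nat.add_le_add_right hdim 0) 2)
    (a := 1) one_ne_zero
  rw [sq6_apply] at hz
  have zp : ∀ w ∈ S, dot z w = 0 := fun w hw => by
    have h1 := hzS w hw
    rw [sq6_polar, dot_comm] at h1
    exact (mul_eq_zero.1 h1).resolve_left (by decide)
  have zf : dot z P.f = 0 := zp _ (Submodule.subset_span (by simp))
  have ze : dot z P.e = 0 := zp _ (Submodule.subset_span (by simp))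
  have zd : dot z P.d = 0 := zp _ (Submodule.subset_span (by simp))
  have zh : dot z P.h = 0 := zp _ (Submodule.subset_span (by simp))
  have hs1 := unit_cases _ P.fe
  have hs4 := unit_cases _ P.hi
  have hi' : ∀ x, dot x P.rad = 0 := fun x => by rw [hR, dot_zero]
  have zi : dot z P.i = 0 := by
    have h1 := hi' z
    simp only [Path.rad, dot_add, dot_smul, zf, ze, zh, mul_zero, zero_add, neg_mul, neg_eq_zero,
      mul_eq_zero, P.fe, P.ed, P.dh, P.hi, false_or] at h1
    exact h1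
  obtain ⟨u, hu⟩ : ∃ u, u = P.f + (-dot P.f P.e) • P.e := ⟨_, rfl⟩
  have uw : ∀ w, dot w u = dot w P.f + -dot P.f P.e * dot w P.e := fun w => by
    rw [hu, dot_add, dot_smul]
  have uf : dot u P.f = 0 := by rw [dot_comm, uw, P.ff]; linear_combination -hs1
  have ue : dot u P.e = 0 := by rw [dot_comm, uw, P.ee, dot_comm P.e]; ring
  have uh : dot u P.h = 0 := by
    rw [dot_comm, uw, dot_comm P.h, P.fh, dot_comm P.h, P.eh]; ring
  have ui : dot u P.i = 0 := by
    rw [dot_comm, uw, dot_comm P.i, P.fi, dot_comm P.i, P.ei]; ring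
  have ud : dot u P.d ≠ 0 := by
    rw [dot_comm, uw, dot_comm P.d, P.fd, dot_comm P.d, zero_add, neg_mul, neg_ne_zero]
    exact mul_ne_zero P.fe P.ed
  have uu : dot u u = 0 := by
    rw [uw, uf, ue]; ring
  have zu : dot z u = 0 := by rw [uw, zf, ze]; ring
  have val : ∀ (s : ZMod 3) (w : V), dot (s • z + u) w = s * dot z w + dot u w := fun s w => by
    rw [dot_comm, dot_add, dot_smul, dot_comm w, dot_comm w u]
  have valr : ∀ s : ZMod 3, dot z (s • z + u) = s ∧ dot u (s • z + u) = 0 := fun s => by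
    rw [dot_add, dot_smul, hz, zu, dot_add, dot_smul, dot_comm u z, zu, uu]; simp
  refine ⟨(1 : ZMod 3) • z + u, (-1 : ZMod 3) • z + u, ?_, ?_, ?_, ?_, ?_, ?_, ?_, ?_⟩
  · rw [val, (valr 1).1, (valr 1).2]; decide
  · rw [val, (valr (-1)).1, (valr (-1)).2]; decide
  · rw [val, (valr (-1)).1, (valr (-1)).2]; decide
  · intro e
    have := congrArg (dot z) e
    rw [(valr 1).1, (valr (-1)).1] at this
    exact absurd this (by decide)
  · intro e
    have := congrArg (dot P.d) e
    rw [show -((1 : ZMod 3) • z + u) = (-1 : ZMod 3) • ((1 : ZMod 3) • z + u) by module, dot_smul,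
      dot_comm P.d, val, dot_comm P.d, val, zd, mul_zero, zero_add] at this
    have h3 : (3 : ZMod 3) = 0 := by decide
    exact ud (by linear_combination 2 * this - dot u P.d * h3)
  · rw [val, zd, mul_zero, zero_add]; exact ud
  · rw [val, zd, mul_zero, zero_add]; exact ud
  · intro w hw
    simp only [List.mem_cons, List.not_mem_nil, or_false] at hw
    rcases hw with rfl | rfl | rfl | rfl <;> constructor <;> rw [val]
    all_goals simp [zf, ze, zh, zi, uf, ue, uh, ui]

end CfsgLib.Trans3.FiConf.Dots
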