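import Cfsg.Agent.Lib.Trans3.FiConf.Checks

/-!
# The spider relations from a bound on the power of three
-/

set_option autoImplicit false
set_option maxRecDepth 100000

namespace CfsgLib.Trans3.FiConf

open CfsgLib.InvChar.Coset CfsgLib.Trans3.Spider

variable {G : Type*} [Group G] {s : ℕ → G}

/-- A six-tuple, to be moved by conjugation. -/
structure Tup (G : Type*) where
  /-- the entries -/
  val : Fin 6 → G

/-- The `j`-th translation. -/
noncomputable def tr (s : ℕ → G) (j : Fin 6) : G := wprod s (Data.tw.getD j.val [])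

theorem wprod_singleton (s : ℕ → G) (x : ℕ) : wprod s [x] = s x := by simp [wprod]

section

variable (h : Y332 s) (hb3 : (s 2 * wprod s Data.theta) ^ 3 = 1)
include h

theorem tr_eq (j : Fin 6) : tr s j = wprod s (Data.tconj.getD j.val []) *
    (s 2 * wprod s Data.theta) * (wprod s (Data.tconj.getD j.val []))⁻¹ := by
  rw [tr, tw_eq j, wprod_append, wprod_append, wprod_append,
    wprod_reverse s h.sq, wprod_singleton]
  simp only [mul_assoc]

theorem tr_comm (i j : Fin 6) : Commute (tr s i) (tr s j) := by
  have h1 := h.reduces (comm_ok i j)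
  simp only [wprod_append, wprod_reverse s h.sq] at h1
  exact mul_inv_eq_iff_eq_mul.1 (mul_inv_eq_one.1 h1)

include hb3

theorem tr_cube (j : Fin 6) : tr s j ^ 3 = 1 := by
  rw [tr_eq h, conj_pow, hb3, mul_one, mul_inv_cancel]

/-- Powers of one translation. -/
noncomputable def trHom (j : Fin 6) : Multiplicative (ZMod 3) →* G :=
  MonoidHom.mk' (fun a => tr s j ^ (Multiplicative.toAdd a).val) fun a b => by
    rw [← pow_add, toAdd_mul, ZMod.val_add,
      ← pow_eq_pow_mod _ (tr_cube h hb3 j)]

/-- The homomorphism from the exponents to the group. -/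
noncomputable def trans : (Fin 6 → Multiplicative (ZMod 3)) →* G :=
  MonoidHom.noncommPiCoprod (trHom h hb3) fun _ _ _ _ _ => (tr_comm h _ _).pow_pow _ _

/-- The same on additive exponents. -/
noncomputable def phi (v : V6) : G := trans h hb3 fun j => Multiplicative.ofAdd (v j)

theorem phi_add (v w : V6) : phi h hb3 (v + w) = phi h hb3 v * phi h hb3 w := by
  rw [phi, phi, phi, ← map_mul]; rfl

theorem phi_zero : phi h hb3 0 = 1 := map_one (trans h hb3)

theorem phi_neg (v : V6) : phi h hb3 (-v) = (phi h hb3 v)⁻¹ :=
  eq_inv_of_mul_eq_one_left (by rw [← phi_add, neg_add_cancel, phi_zero])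

theorem phi_single (j : Fin 6) (a : ZMod 3) : phi h hb3 (Pi.single j a) = tr s j ^ a.val := by
  have e : (fun k => Multiplicative.ofAdd ((Pi.single j a : V6) k)) =
      Pi.mulSingle j (Multiplicative.ofAdd a) := by
    funext k
    rcases eq_or_ne k j with rfl | hk
    · simp
    · simp [Pi.single_eq_of_ne hk, Pi.mulSingle_eq_of_ne hk]
  rw [phi, e]
  exact MonoidHom.noncommPiCoprod_mulSingle _ _ _

theorem phi_unit (j : Fin 6) : phi h hb3 (unitV j) = tr s j := by
  rw [unitV, phi_single, ZMod.val_one, pow_one]

theorem phi_powWord (n : Fin 6 → ℤ) : wprod s (powWord n) = phi h hb3 fun j => (n j : ZMod 3) := by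
  have hsum : (fun j => (n j : ZMod 3)) =
      ((List.finRange 6).map fun j => (Pi.single j (n j : ZMod 3) : V6)).sum := by
    rw [← Fin.sum_univ_def]
    exact (Finset.univ_sum_single fun j => (n j : ZMod 3)).symm
  rw [hsum, powWord]
  generalize List.finRange 6 = l
  induction l with
  | nil => simp [wprod, phi_zero]
  | cons j l ih =>
    rw [List.flatMap_cons, wprod_append, ih, List.map_cons, List.sum_cons, phi_add]
    refine congrArg (· * _) ?_
    rw [phi_single, wprod_rpt]
    have hz : ∀ m : ℤ, tr s j ^ m = tr s j ^ ((m : ZMod 3)).val := fun m => by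
      rw [← zpow_natCast, ZMod.val_intCast, ← zpow_eq_zpow_emod' m (tr_cube h hb3 j)]
    rw [← hz]
    rcases le_or_gt 0 (n j) with hn | hn
    · rw [if_pos hn, ← zpow_natCast, Int.natAbs_of_nonneg hn]; rfl
    · rw [if_neg (not_le.2 hn), wprod_reverse s h.sq, inv_pow, ← zpow_natCast,
        Int.ofNat_natAbs_of_nonpos hn.le, zpow_neg, inv_inv]
      rfl

theorem phi_actI {i : ℕ} (hi : i < 6) (v : V6) :
    s (six.getD i 0) * phi h hb3 v * s (six.getD i 0) = phi h hb3 (actI i v) := by
  have hbase : ∀ j : Fin 6, s (six.getD i 0) * phi h hb3 (unitV j) * s (six.getD i 0) =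
      phi h hb3 (actI i (unitV j)) := by
    intro j
    have hm : actOK i j = true := act_ok i hi j
    have h1 := h.eq_of_reduces (of_decide_eq_true hm)
    rw [wprod_append, wprod_append, wprod_singleton, phi_powWord h hb3] at h1
    rw [phi_unit]
    exact h1.trans (congrArg _ (funext fun k => (actI_unit i j k).symm))
  have hv : v = ∑ j : Fin 6, (v j).val • unitV j := by
    funext k
    rw [Finset.sum_apply, Finset.sum_eq_single k (fun l _ hl => by
      simp [unitV, Pi.single_eq_of_ne (Ne.symm hl)]) (by simp)]
    simp [unitV]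
  let P : V6 → Prop := fun w =>
    s (six.getD i 0) * phi h hb3 w * s (six.getD i 0) = phi h hb3 (actI i w)
  have hadd : ∀ u w, P u → P w → P (u + w) := by
    intro u w hu hw
    show _ * _ * _ = _
    rw [phi_add, actI_add, phi_add, ← hu, ← hw]
    simp only [mul_assoc, ← mul_assoc (s (six.getD i 0)) (s (six.getD i 0)), h.sq, one_mul]
  have h0 : P 0 := by
    show _ * _ * _ = _
    rw [phi_zero, actI_zero, phi_zero, mul_one, h.sq]
  have hsmul : ∀ (m : ℕ) (j : Fin 6), P (m • unitV j) := by
    intro m j
    induction m with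
    | zero => rwa [zero_smul]
    | succ m ih => rw [succ_nsmul]; exact hadd _ _ ih (hbase j)
  show P v
  rw [hv]
  exact Finset.sum_induction _ P hadd h0 fun j _ => hsmul _ j

theorem phi_actW : ∀ w : List ℕ, (∀ x ∈ w, x ∈ six) → ∀ v : V6,
    wprod s w * phi h hb3 v * (wprod s w)⁻¹ = phi h hb3 (actW w v)
  | [], _, v => by simp [wprod, actW]
  | x :: w, hw, v => by
    have ih := phi_actW w (fun y hy => hw y (List.mem_cons_of_mem _ hy)) v
    have hx := hw x (by simp)
    have hi : six.idxOf x < 6 := List.idxOf_lt_length_iff.2 hx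
    have hg : six.getD (six.idxOf x) 0 = x := by
      rw [List.getD_eq_getElem _ _ hi]; exact List.getElem_idxOf hi
    rw [show wprod s (x :: w) = s x * wprod s w by simp [wprod], actW, actX, ← phi_actI h hb3 hi,
      hg, ← ih, mul_inv_rev, inv_eq_of_mul_eq_one_right (h.sq x)]
    simp only [mul_assoc]

/-- The sum of the translations' exponents is determined modulo three. -/
theorem eq_phi {w ms : List ℕ} {n : Fin 6 → ℤ} (hm : moves lab9 ms (w ++ (powWord n).reverse) = some []) :
    wprod s w = phi h hb3 fun j => (n j : ZMod 3) :=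
  (h.eq_of_reduces hm).trans (phi_powWord h hb3 n)

variable (hb1 : s 2 * wprod s Data.theta ≠ 1)
include hb1

theorem phi_inj (hr : phi h hb3 rad ≠ 1) : Function.Injective (phi h hb3) := by
  have hker : ∀ v, phi h hb3 v = 1 → v = 0 := by
    intro v hv
    rcases rad_cases v with e | e | e | ⟨i, hi, j, e⟩
    · exact e
    · exact absurd (e ▸ hv) hr
    · subst e
      refine absurd ?_ hr
      have e3 : rad = -(rad + rad) := by decide
      rw [e3, phi_neg, hv, inv_one]
    · exfalso
      have h1 : phi h hb3 (actI i v - v) = 1 := by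
        rw [sub_eq_add_neg, phi_add, phi_neg, ← phi_actI h hb3 hi, hv, mul_one, h.sq, one_mul,
          inv_one]
      have h2 : tr s j = 1 := by
        rw [← phi_unit h hb3]
        rcases e with e | e
        · rwa [e] at h1
        · rwa [e, phi_neg, inv_eq_one] at h1
      rw [tr_eq h, mul_inv_eq_one, mul_eq_left] at h2
      exact hb1 h2
  intro u v e
  have := hker (u - v) (by rw [sub_eq_add_neg, phi_add, phi_neg, e, mul_inv_cancel])
  exact sub_eq_zero.1 this

/-- The radical vector gives the identity. -/
theorem phi_rad [Finite G] (hG : ¬ 3 ^ 10 ∣ Nat.card G) : phi h hb3 rad = 1 := by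
  by_contra hr
  have hinj := phi_inj h hb3 hb1 hr
  let gs : Set G := Set.range (phi h hb3) ∪
    {g | ∃ k < 2, g = wprod s (Data.sylGens.getD k [])}
  let M : Subgroup G := Subgroup.closure gs
  let good : G → Prop := fun g => ∃ k < 81,
    ∀ j, g * tr s j * g⁻¹ = phi h hb3 (actW (Data.sylWords.getD k []) (unitV j))
  have hgens := sylGens_six
  have hwords : ∀ k < 81, ∀ x ∈ Data.sylWords.getD k [], x ∈ six := by
    intro k hk x hx
    rw [sylPath_eq k hk] at hx
    obtain ⟨g, hg, hxg⟩ := List.mem_flatMap.1 hx
    exact hgens g (sylPath_lt k hk g hg) x hxg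
  have hmem : ∀ k < 81, wprod s (Data.sylWords.getD k []) ∈ M := by
    intro k hk
    rw [sylPath_eq k hk]
    have hlt := sylPath_lt k hk
    revert hlt
    generalize Data.sylPath.getD k [] = l
    intro hlt
    induction l with
    | nil => simp [wprod]
    | cons g l ih =>
      rw [List.flatMap_cons, wprod_append]
      exact mul_mem (Subgroup.subset_closure (Or.inr ⟨g, hlt g (by simp), rfl⟩))
        (ih fun x hx => hlt x (List.mem_cons_of_mem _ hx))
  have hgood : ∀ g ∈ M, good g := by
    intro g hg
    rw [show M = Subgroup.closure gs from rfl, ← Subgroup.mem_toSubmonoid,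
      Subgroup.closure_toSubmonoid_of_finite] at hg
    induction hg using Submonoid.closure_induction_right with
    | one => exact ⟨0, by norm_num, fun j => by simp [Data.sylWords, actW, phi_unit]⟩
    | mul_right a _ y hy ih =>
      obtain ⟨k, hk, ek⟩ := ih
      rcases hy with ⟨v, rfl⟩ | ⟨g', hg', rfl⟩
      · refine ⟨k, hk, fun j => ?_⟩
        rw [← ek j, mul_inv_rev, ← phi_unit h hb3 j]
        have hc : phi h hb3 v * phi h hb3 (unitV j) = phi h hb3 (unitV j) * phi h hb3 v := by
          rw [← phi_add, ← phi_add, add_comm]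
        calc a * phi h hb3 v * phi h hb3 (unitV j) * ((phi h hb3 v)⁻¹ * a⁻¹)
            = a * (phi h hb3 v * phi h hb3 (unitV j)) * (phi h hb3 v)⁻¹ * a⁻¹ := by group
          _ = a * phi h hb3 (unitV j) * a⁻¹ := by rw [hc]; group
      · obtain ⟨hl, hs⟩ := sylStep_ok k hk g' hg'
        refine ⟨_, hl, fun j => ?_⟩
        rw [← hs j, ← phi_actW h hb3 _ (fun x hx => (List.mem_append.1 hx).elim
          (hwords k hk x) (hgens g' hg' x)) (unitV j), wprod_append, phi_unit]
        have hag : ∀ v : V6, a * phi h hb3 v * a⁻¹ =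
            wprod s (Data.sylWords.getD k []) * phi h hb3 v * (wprod s (Data.sylWords.getD k []))⁻¹ := by
          intro v
          have hv : v = ((List.finRange 6).map fun i => (Pi.single i (v i) : V6)).sum := by
            rw [← Fin.sum_univ_def]
            exact (Finset.univ_sum_single v).symm
          rw [hv]
          generalize List.finRange 6 = l
          induction l with
          | nil => simp [phi_zero]
          | cons i l ih2 =>
            simp only [List.map_cons, List.sum_cons, phi_add]
            rw [conj_mul.symm, ih2, ← conj_mul, phi_single, ← conj_pow, ← conj_pow, ek i,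
              ← phi_actW h hb3 _ (hwords k hk), phi_unit]
        have e := hag (actW (Data.sylGens.getD g' []) (unitV j))
        rw [← phi_actW h hb3 _ (hgens g' hg'), phi_unit] at e
        simp only [mul_inv_rev, mul_assoc] at e ⊢
        exact e
  letI : MulAction ↥M (Tup G) :=
    { smul := fun g f => ⟨fun j => g.1 * f.val j * g.1⁻¹⟩
      one_smul := fun f => congrArg Tup.mk (funext fun j => by
        show (1 : G) * f.val j * 1⁻¹ = f.val j; simp)
      mul_smul := fun g k f => congrArg Tup.mk (funext fun j => by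
        show g.1 * k.1 * f.val j * (g.1 * k.1)⁻¹ = g.1 * (k.1 * f.val j * k.1⁻¹) * g.1⁻¹
        group) }
  let base : Tup G := ⟨tr s⟩
  have horb : Nat.card (MulAction.orbit ↥M base) = 81 := by
    let F : Fin 81 → MulAction.orbit ↥M base := fun k => ⟨_, ⟨⟨_, hmem k.val k.isLt⟩, rfl⟩⟩
    have hF : Function.Bijective F := by
      constructor
      · intro k l e
        refine Fin.ext (syl_inj k.val k.isLt l.val l.isLt fun j => hinj ?_)
        rw [← phi_actW h hb3 _ (hwords _ k.isLt), ← phi_actW h hb3 _ (hwords _ l.isLt), phi_unit]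
        exact congrFun (congrArg (fun x => Tup.val (Subtype.val x)) e) j
      · rintro ⟨f, g, rfl⟩
        obtain ⟨k, hk, ek⟩ := hgood g.1 g.2
        refine ⟨⟨k, hk⟩, Subtype.ext (congrArg Tup.mk (funext fun j => ?_))⟩
        show wprod s (Data.sylWords.getD k []) * tr s j * _ = g.1 * tr s j * g.1⁻¹
        rw [ek j, ← phi_actW h hb3 _ (hwords k hk), phi_unit]
    rw [← Nat.card_eq_of_bijective F hF, Nat.card_fin]
  let T : (Fin 6 → Multiplicative (ZMod 3)) →* ↥(MulAction.stabilizer ↥M base) :=
    ((trans h hb3).codRestrict M fun a => Subgroup.subset_closure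
      (Or.inl ⟨fun j => Multiplicative.toAdd (a j), rfl⟩)).codRestrict _ fun a =>
        MulAction.mem_stabilizer_iff.2 (congrArg Tup.mk <| funext fun j => by
          show trans h hb3 a * tr s j * (trans h hb3 a)⁻¹ = tr s j
          have hc : Commute (trans h hb3 a) (tr s j) := by
            rw [← phi_unit h hb3 j]
            exact (Commute.all a _).map (trans h hb3)
          rw [hc.eq, mul_inv_cancel_right])
  have hT : Function.Injective T := fun a b e => by
    have e' : trans h hb3 a = trans h hb3 b := congrArg (fun x : ↥(MulAction.stabilizer ↥M base) => ((x : ↥M) : G)) e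
    funext j
    exact congrArg (fun v : V6 => Multiplicative.ofAdd (v j))
      (hinj (a₁ := fun j => Multiplicative.toAdd (a j)) (a₂ := fun j => Multiplicative.toAdd (b j)) e')
  have hstab : 729 ∣ Nat.card (MulAction.stabilizer ↥M base) := by
    have hd := Subgroup.card_subgroup_dvd_card T.range
    rw [← Nat.card_congr (MonoidHom.ofInjective hT).toEquiv, Nat.card_pi] at hd
    simpa [Nat.card_eq_fintype_card] using hd
  refine hG (dvd_trans ?_ (Subgroup.card_subgroup_dvd_card M))
  rw [Subgroup.card_eq_card_quotient_mul_card_subgroup (MulAction.stabilizer ↥M base),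
    ← Nat.card_congr (MulAction.orbitEquivQuotientStabilizer ↥M base), horb]
  obtain ⟨m, hm⟩ := hstab
  exact ⟨m, by rw [hm, ← mul_assoc]; norm_num⟩

/-- The spider relation. -/
theorem spider_holds [Finite G] (hG : ¬ 3 ^ 10 ∣ Nat.card G) :
    wprod s spW = 1 ∧ wprod s (spW.map swapArms) = 1 := by
  have hr := phi_rad h hb3 hb1 hG
  constructor
  · rw [eq_phi h hb3 spider_ok, show (fun j => (((![-3, -3, -1, 1, 1, 2] : Fin 6 → ℤ) j : ℤ) : ZMod 3)) =
      rad + rad by decide, phi_add, hr, mul_one]
  · rw [eq_phi h hb3 spider_swap_ok, show (fun j => (((![-6, -3, -5, -1, -1, 1] : Fin 6 → ℤ) j : ℤ) : ZMod 3)) =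
      rad by decide, hr]

end

end CfsgLib.Trans3.FiConf
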