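import Cfsg.Agent.Lib.Trans3.FiConf.Common
import Cfsg.Agent.Lib.Trans3.FiConf.Spider
import Cfsg.Agent.Lib.Trans3.Fi.M22Order
import Cfsg.Agent.Lib.InvChar.SporFi22Simple
import Cfsg.Agent.Lib.InvChar.CosetPres

/-!
Every group of type M(22) is the presented group `Fi₂₂`.
-/

set_option autoImplicit false
set_option linter.unusedSectionVars false
set_option maxRecDepth 100000

namespace CfsgLib.Trans3.FiConf

open CfsgLib.InvChar.Coset CfsgLib.Trans3.Fi CfsgLib.Trans3.Spider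

/-- Coordinates of a path of six. -/
def pathVec (x : ℕ) : Fin 6 → ZMod 3 :=
  if x = 9 then ![0, 0, 0, 0, 0, 1] else if x = 6 then ![0, 0, 1, 1, 1, 1]
  else if x = 5 then ![0, 0, 0, 0, 1, 0] else if x = 0 then ![0, 1, 1, 1, 1, 0]
  else if x = 7 then ![1, 1, 1, 2, 0, 0] else ![1, 0, 0, 0, 0, 0]

/-- The six nodes. -/
def pathNodes : List ℕ := [0, 5, 6, 7, 8, 9]

theorem path_ok : ∀ x ∈ pathNodes, dot (pathVec x) (pathVec x) = 1 ∧ ∀ y ∈ pathNodes,
    (lab11 x y = 2 → dot (pathVec x) (pathVec y) = 0) ∧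
    (lab11 x y = 3 → dot (pathVec x) (pathVec y) ≠ 0 ∧ pathVec y ≠ pathVec x ∧
      pathVec y ≠ -pathVec x) := by
  decide +kernel

theorem no_dual : ∀ u : Fin 6 → ZMod 3, dot u u = 1 →
    dot u (pathVec 5) = 0 → dot u (pathVec 6) = 0 → dot u (pathVec 9) = 0 →
    dot u (pathVec 7) = 0 → dot u (pathVec 8) = 0 → dot u (pathVec 0) = 0 := by
  decide +kernel

theorem no_long : ∀ u : Fin 6 → ZMod 3, dot u u = 1 →
    dot u (pathVec 0) = 0 → dot u (pathVec 5) = 0 → dot u (pathVec 6) = 0 →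
    dot u (pathVec 7) = 0 → dot u (pathVec 8) = 0 → dot u (pathVec 9) = 0 := by
  decide +kernel

theorem theta_conj : Data.theta = [1, 0, 7, 8, 5, 0, 7, 6, 5, 1] ++ [0] ++
    [1, 0, 7, 8, 5, 0, 7, 6, 5, 1].reverse := by decide

theorem theta_ok : ∀ k < 6, moves lab9 (Data.mvTheta.getD (k + 1) [])
    (rpt 2 (Data.theta ++ [[0, 5, 6, 7, 8, 3].getD k 0])) = some [] := by
  decide +kernel

theorem theta_nine : moves lab9 (Data.mvTheta.getD 7 []) (rpt 3 (Data.theta ++ [9])) = some [] := by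
  decide +kernel

theorem theta_sq : moves lab9 (Data.mvTheta.getD 0 []) (Data.theta ++ Data.theta) = some [] := by
  decide +kernel

theorem relA_ok : moves lab9 Data.mvRelA (rpt 9 [3, 2, 1, 0, 5, 6, 7] ++ zW.reverse) = some [] := by
  decide +kernel

theorem relB_ok : moves lab9 Data.mvRelB (rpt 9 [6, 5, 0, 1, 2, 3, 7] ++ zW.reverse) = some [] := by
  decide +kernel

/-- The letters of the nine generators. -/
def ix22 : Cfsg.Spor.Fi22.Gen → ℕ
  | .a => 3 | .b => 2 | .c => 1 | .d => 0 | .e => 5 | .f => 6 | .g => 9 | .h => 7 | .i => 8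

/-- An image of the presented group satisfies the relation of type `E₇`. -/
theorem relA_of_iso {H : Type*} [Group H] {s : ℕ → H} (E : Cfsg.Spor.Fi22 ≃* H)
    (hE : ∀ x, E (PresentedGroup.of x) = s (ix22 x)) :
    wprod s (rpt 9 [3, 2, 1, 0, 5, 6, 7]) = 1 := by
  have h1 : E (PresentedGroup.mk (Cfsg.Spor.coxRelators Cfsg.Spor.Fi22.edges ∪
      {r | r ∈ Cfsg.Spor.Fi22.extra}) ((Cfsg.Spor.Fi22.a * Cfsg.Spor.Fi22.b * Cfsg.Spor.Fi22.c *
      Cfsg.Spor.Fi22.d * Cfsg.Spor.Fi22.e * Cfsg.Spor.Fi22.f * Cfsg.Spor.Fi22.h) ^ 9)) = 1 := by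
    rw [PresentedGroup.one_of_mem (Or.inr (by simp [Cfsg.Spor.Fi22.extra])), map_one]
  simp only [map_mul, map_pow] at h1
  rw [wprod_rpt]
  have key : ∀ x, E (PresentedGroup.mk (Cfsg.Spor.coxRelators Cfsg.Spor.Fi22.edges ∪
      {r | r ∈ Cfsg.Spor.Fi22.extra}) (FreeGroup.of x)) = s (ix22 x) := hE
  simp only [Cfsg.Spor.Fi22.a, Cfsg.Spor.Fi22.b, Cfsg.Spor.Fi22.c, Cfsg.Spor.Fi22.d,
    Cfsg.Spor.Fi22.e, Cfsg.Spor.Fi22.f, Cfsg.Spor.Fi22.h, key, ix22] at h1
  simpa [wprod, mul_assoc] using h1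

section

variable {G : Type*} [Group G] [Finite G] {D : Set G}
variable (hD : Cfsg.IsThreeTranspositionGroup D) (hP : Cfsg.IsPrimitiveUnderConj D)
variable (h : Cfsg.IsOfTypeM22 G D)
include hD hP h

/-- Transpositions in the shape of the diagram with `b θ` of order three. -/
theorem exists_config : ∃ s : ℕ → G, Y332 s ∧ (∀ x ∈ nodes, s x ∈ D) ∧ ¬ Commute (s 3) (s 2) ∧
    (s 2 * wprod s Data.theta) ^ 3 = 1 ∧ s 2 * wprod s Data.theta ≠ 1 := by
  have hN := nice_m22 hD h
  have hPre := pre_of_group hD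
  obtain ⟨a, ha, b, hb, hnc⟩ := hN.pair
  obtain ⟨F⟩ := exists_frame hD hP h ha hb hnc
  have hvm : ∀ x ∈ pathNodes, F.t (pathVec x) ∈ CN D a b := fun x hx => F.mem _ (path_ok x hx).1
  have hv0 : ∀ x ∈ pathNodes, ∀ y ∈ pathNodes, lab11 x y = 2 →
      Commute (F.t (pathVec x)) (F.t (pathVec y)) := fun x hx y hy e =>
    F.orth _ _ (path_ok x hx).1 (path_ok y hy).1 (((path_ok x hx).2 y hy).1 e)
  have hv3 : ∀ x ∈ pathNodes, ∀ y ∈ pathNodes, lab11 x y = 3 →
      ¬ Commute (F.t (pathVec x)) (F.t (pathVec y)) := fun x hx y hy e =>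
    let ⟨h1, h2, h3⟩ := ((path_ok x hx).2 y hy).2 e
    F.inj _ _ (path_ok x hx).1 (path_ok y hy).1 h1 h2 h3
  have nb : ∀ x ∈ pathNodes, F.t (pathVec x) ∈ nbrs D a := fun x hx =>
    ⟨(hvm x hx).1, fun e => hnc (by simpa only [e] using (hvm x hx).2.2.symm), (hvm x hx).2.1⟩
  have bc : ∀ {x y} (hx : x ∈ pathNodes) (hy : y ∈ pathNodes),
      Commute (bar (nb x hx)) (bar (nb y hy)) ↔ Commute (F.t (pathVec x)) (F.t (pathVec y)) :=
    fun {x y} hx hy => commute_bar hPre (nb x hx) (nb y hy)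
  have m0 : 0 ∈ pathNodes := by decide
  have m5 : 5 ∈ pathNodes := by decide
  have m6 : 6 ∈ pathNodes := by decide
  have m7 : 7 ∈ pathNodes := by decide
  have m8 : 8 ∈ pathNodes := by decide
  have m9 : 9 ∈ pathNodes := by decide
  obtain ⟨u, hu, u0, u5, u6, u9, u7, u8⟩ := u6_dual_node (m22_isU6 hD h ha) (hN.group_Db ha)
    (bar_mem (nb 0 m0)) (bar_mem (nb 5 m5)) (bar_mem (nb 6 m6)) (bar_mem (nb 9 m9))
    (bar_mem (nb 7 m7)) (bar_mem (nb 8 m8))
    (fun e => hv3 9 m9 6 m6 (by decide) ((bc m9 m6).1 e))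
    (fun e => hv3 6 m6 5 m5 (by decide) ((bc m6 m5).1 e))
    (fun e => hv3 5 m5 0 m0 (by decide) ((bc m5 m0).1 e))
    (fun e => hv3 0 m0 7 m7 (by decide) ((bc m0 m7).1 e))
    (fun e => hv3 7 m7 8 m8 (by decide) ((bc m7 m8).1 e))
    ((bc m9 m5).2 (hv0 9 m9 5 m5 (by decide))) ((bc m9 m0).2 (hv0 9 m9 0 m0 (by decide)))
    ((bc m9 m7).2 (hv0 9 m9 7 m7 (by decide))) ((bc m9 m8).2 (hv0 9 m9 8 m8 (by decide)))
    ((bc m6 m0).2 (hv0 6 m6 0 m0 (by decide))) ((bc m6 m7).2 (hv0 6 m6 7 m7 (by decide)))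
    ((bc m6 m8).2 (hv0 6 m6 8 m8 (by decide))) ((bc m5 m7).2 (hv0 5 m5 7 m7 (by decide)))
    ((bc m5 m8).2 (hv0 5 m5 8 m8 (by decide))) ((bc m0 m8).2 (hv0 0 m0 8 m8 (by decide)))
  obtain ⟨c, nc, rfl⟩ := exists_bar hu
  rw [commute_bar hPre] at u0 u5 u6 u9 u7 u8
  have dot_zero : ∀ {x y : Fin 6 → ZMod 3}, dot x x = 1 → dot y y = 1 →
      Commute (F.t x) (F.t y) → F.t x ≠ F.t y → dot x y = 0 := fun hx hy hc hne => by
    by_contra h0; exact F.noncomm _ _ hx hy h0 hne hc
  have cb : ¬ Commute c b := by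
    intro e
    obtain ⟨v, hv, ev⟩ := F.surj c ⟨nc.1, nc.2.2, e.symm⟩
    subst ev
    refine u0 (F.orth _ _ hv (path_ok 0 m0).1 ?_)
    have key : ∀ x y, x ∈ pathNodes → y ∈ pathNodes → lab11 x y = 3 →
        Commute (F.t v) (F.t (pathVec x)) → Commute (F.t v) (F.t (pathVec y)) →
        dot v (pathVec x) = 0 := fun x y hx hy hl h1 h2 =>
      dot_zero hv (path_ok x hx).1 h1 fun e' => hv3 x hx y hy hl (e' ▸ h2)
    exact no_dual v hv (key 5 6 m5 m6 (by decide) u5 u6) (key 6 5 m6 m5 (by decide) u6 u5)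
      (key 9 6 m9 m6 (by decide) u9 u6) (key 7 8 m7 m8 (by decide) u7 u8)
      (key 8 7 m8 m7 (by decide) u8 u7)
  obtain ⟨s, es⟩ : ∃ s : ℕ → G, s = fun x => if x = 3 then a else if x = 2 then b else if x = 1 then c
      else if x ∈ pathNodes then F.t (pathVec x) else 1 := ⟨_, rfl⟩
  have s3 : s 3 = a := by rw [es]; simp
  have s2 : s 2 = b := by rw [es]; simp
  have s1 : s 1 = c := by rw [es]; simp
  have sp : ∀ x ∈ pathNodes, s x = F.t (pathVec x) := by
    intro x hx
    obtain ⟨h3, h2, h1⟩ : x ≠ 3 ∧ x ≠ 2 ∧ x ≠ 1 :=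
      (by decide : ∀ x ∈ pathNodes, x ≠ 3 ∧ x ≠ 2 ∧ x ≠ 1) x hx
    rw [es]; simp [h3, h2, h1, hx]
  have hcases : ∀ x ∈ nodes, x = 3 ∨ x = 2 ∨ x = 1 ∨ x ∈ pathNodes := by decide
  have smem : ∀ x ∈ nodes, s x ∈ D := by
    intro x hx
    rcases hcases x hx with rfl | rfl | rfl | hx
    · rw [s3]; exact ha
    · rw [s2]; exact hb
    · rw [s1]; exact nc.1
    · rw [sp x hx]; exact (hvm x hx).1
  have ssq : ∀ x, s x * s x = 1 := by
    intro x
    by_cases hx : x ∈ nodes
    · exact Trans3.sq_one hD.1 (smem x hx)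
    · have he : x ≠ 3 ∧ x ≠ 2 ∧ x ≠ 1 ∧ x ∉ pathNodes := by
        simp [nodes, pathNodes] at hx ⊢; omega
      rw [es]; simp [he.1, he.2.1, he.2.2.1, he.2.2.2]
  have srel : ∀ x ∈ nodes, ∀ y ∈ nodes,
      (lab11 x y = 2 → Commute (s x) (s y)) ∧ (lab11 x y = 3 → ¬ Commute (s x) (s y)) := by
    have hca : Commute c a := nc.2.2.symm
    intro x hx y hy
    rcases hcases x hx with rfl | rfl | rfl | hx' <;> rcases hcases y hy with rfl | rfl | rfl | hy'
    · exact ⟨fun e => absurd e (by decide), fun e => absurd e (by decide)⟩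
    · rw [s3, s2]; exact ⟨fun e => absurd e (by decide), fun _ => hnc⟩
    · rw [s3, s1]; exact ⟨fun _ => nc.2.2, fun e => absurd e (by decide)⟩
    · rw [s3, sp y hy']
      exact ⟨fun _ => (hvm y hy').2.1, fun e => absurd e ((by decide : ∀ y ∈ pathNodes, lab11 3 y ≠ 3) y hy')⟩
    · rw [s2, s3]; exact ⟨fun e => absurd e (by decide), fun _ h' => hnc h'.symm⟩
    · exact ⟨fun e => absurd e (by decide), fun e => absurd e (by decide)⟩
    · rw [s2, s1]; exact ⟨fun e => absurd e (by decide), fun _ h' => cb h'.symm⟩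
    · rw [s2, sp y hy']
      exact ⟨fun _ => (hvm y hy').2.2, fun e => absurd e ((by decide : ∀ y ∈ pathNodes, lab11 2 y ≠ 3) y hy')⟩
    · rw [s1, s3]; exact ⟨fun _ => hca, fun e => absurd e (by decide)⟩
    · rw [s1, s2]; exact ⟨fun e => absurd e (by decide), fun _ => cb⟩
    · exact ⟨fun e => absurd e (by decide), fun e => absurd e (by decide)⟩
    · rw [s1, sp y hy']
      simp only [pathNodes, List.mem_cons, List.not_mem_nil, or_false] at hy'
      rcases hy' with rfl | rfl | rfl | rfl | rfl | rfl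
      · exact ⟨fun e => absurd e (by decide), fun _ => u0⟩
      · exact ⟨fun _ => u5, fun e => absurd e (by decide)⟩
      · exact ⟨fun _ => u6, fun e => absurd e (by decide)⟩
      · exact ⟨fun _ => u7, fun e => absurd e (by decide)⟩
      · exact ⟨fun _ => u8, fun e => absurd e (by decide)⟩
      · exact ⟨fun _ => u9, fun e => absurd e (by decide)⟩
    · rw [sp x hx', s3]
      exact ⟨fun _ => (hvm x hx').2.1.symm, fun e => absurd e ((by decide : ∀ x ∈ pathNodes, lab11 x 3 ≠ 3) x hx')⟩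
    · rw [sp x hx', s2]
      exact ⟨fun _ => (hvm x hx').2.2.symm, fun e => absurd e ((by decide : ∀ x ∈ pathNodes, lab11 x 2 ≠ 3) x hx')⟩
    · rw [sp x hx', s1]
      simp only [pathNodes, List.mem_cons, List.not_mem_nil, or_false] at hx'
      rcases hx' with rfl | rfl | rfl | rfl | rfl | rfl
      · exact ⟨fun e => absurd e (by decide), fun _ h' => u0 h'.symm⟩
      · exact ⟨fun _ => u5.symm, fun e => absurd e (by decide)⟩
      · exact ⟨fun _ => u6.symm, fun e => absurd e (by decide)⟩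
      · exact ⟨fun _ => u7.symm, fun e => absurd e (by decide)⟩
      · exact ⟨fun _ => u8.symm, fun e => absurd e (by decide)⟩
      · exact ⟨fun _ => u9.symm, fun e => absurd e (by decide)⟩
    · rw [sp x hx', sp y hy']
      exact ⟨hv0 x hx' y hy', hv3 x hx' y hy'⟩
  have hY : Y332 s := by
    refine ⟨ssq, fun x hx y hy => ?_, by rw [s3, s2]; exact Trans3.ne_of_not_commute hnc⟩
    rcases (by decide : ∀ x ∈ nodes, ∀ y ∈ nodes,
      (lab11 x y = 1 ∧ x = y) ∨ lab11 x y = 2 ∨ lab11 x y = 3) x hx y hy with ⟨e, rfl⟩ | e | e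
    · rw [e, pow_one, ssq]
    · rw [e]; exact (Trans3.commute_iff_pow_two hD.1 (smem x hx) (smem y hy)).1 ((srel x hx y hy).1 e)
    · rw [e]; exact Trans3.pow_three hD.1 (smem x hx) (smem y hy) ((srel x hx y hy).2 e)
  obtain ⟨T, eT⟩ : ∃ T, T = wprod s Data.theta := ⟨_, rfl⟩
  have hT2 : T * T = 1 := by rw [eT, ← wprod_append]; exact hY.reduces theta_sq
  have hTc : ∀ k < 6, Commute T (s ([0, 5, 6, 7, 8, 3].getD k 0)) := by
    intro k hk
    have h1 := hY.reduces (theta_ok k hk)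
    rw [wprod_rpt, wprod_append, wprod_singleton, ← eT] at h1
    exact comm_of_pow hT2 (ssq _) h1
  have T0 : Commute T (s 0) := hTc 0 (by norm_num)
  have T5 : Commute T (s 5) := hTc 1 (by norm_num)
  have T6 : Commute T (s 6) := hTc 2 (by norm_num)
  have T7 : Commute T (s 7) := hTc 3 (by norm_num)
  have T8 : Commute T (s 8) := hTc 4 (by norm_num)
  have T3 : Commute T a := s3 ▸ hTc 5 (by norm_num)
  have hTD : T ∈ D := by
    rw [eT, theta_conj, wprod_append, wprod_append, wprod_reverse s hY.sq, wprod_singleton]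
    exact hD.2.1 _ _ (smem 0 (by decide))
  have T9 : ¬ Commute T (s 9) := by
    intro e
    have h1 := hY.reduces theta_nine
    rw [wprod_rpt, wprod_append, wprod_singleton, ← eT, pow_succ] at h1
    rw [(Trans3.commute_iff_pow_two hD.1 hTD (smem 9 (by decide))).1 e, one_mul] at h1
    have e' : T = s 9 := by
      have := eq_inv_of_mul_eq_one_left h1
      rwa [inv_eq_of_mul_eq_one_right (ssq 9)] at this
    exact (srel 9 (by decide) 6 (by decide)).2 (by decide) (e' ▸ T6)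
  have hbT : ¬ Commute b T := by
    intro e
    obtain ⟨v, hv, ev⟩ := F.surj T ⟨hTD, T3.symm, e⟩
    refine T9 ?_
    rw [← ev, sp 9 m9]
    refine F.orth _ _ hv (path_ok 9 m9).1 ?_
    have key : ∀ x y, x ∈ pathNodes → y ∈ pathNodes → lab11 x y = 3 →
        Commute T (s x) → Commute T (s y) → dot v (pathVec x) = 0 := by
      intro x y hx hy hl h1 h2
      rw [sp x hx, ← ev] at h1
      rw [sp y hy, ← ev] at h2
      exact dot_zero hv (path_ok x hx).1 h1 fun e' => hv3 x hx y hy hl (e' ▸ h2)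
    exact no_long v hv (key 0 5 m0 m5 (by decide) T0 T5) (key 5 0 m5 m0 (by decide) T5 T0)
      (key 6 5 m6 m5 (by decide) T6 T5) (key 7 8 m7 m8 (by decide) T7 T8)
      (key 8 7 m8 m7 (by decide) T8 T7)
  refine ⟨s, hY, smem, by rw [s3, s2]; exact hnc, ?_, ?_⟩
  · rw [← eT, s2]; exact Trans3.pow_three hD.1 hb hTD hbT
  · rw [← eT, s2]
    intro e
    refine hbT ?_
    rw [eq_inv_of_mul_eq_one_left e]
    exact (Commute.refl T).inv_left

/-- A configuration in a group of type M(22) gives an isomorphism with the presented group. -/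
theorem m22_iso_spider {s : ℕ → G} (hY : Y332 s) (hnd : ¬ Commute (s 3) (s 2))
    (hsp : wprod s spW = 1) (hsp' : wprod s (spW.map swapArms) = 1) :
    ∃ E : Cfsg.Spor.Fi22 ≃* G, ∀ x, E (PresentedGroup.of x) = s (ix22 x) := by
  have hG : Nat.card G = 64561751654400 := by rw [m22_card hD hP h]; norm_num
  have hsw : ∀ w, wprod (fun x => s (swapArms x)) w = wprod s (w.map swapArms) := fun w => by
    simp [wprod, List.map_map, Function.comp_def]
  have hnd' : s 9 ≠ s 6 := by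
    intro e
    have h1 := hY.cox 6 (by decide) 5 (by decide)
    have h2 := hY.cox 9 (by decide) 5 (by decide)
    rw [e] at h2
    rw [show lab11 6 5 = 3 by decide] at h1
    rw [show lab11 9 5 = 2 by decide] at h2
    rw [pow_succ, h2, one_mul] at h1
    have e65 : s 6 = s 5 := by
      have := eq_inv_of_mul_eq_one_left h1
      rwa [inv_eq_of_mul_eq_one_right (hY.sq 5)] at this
    have h3 := hY.cox 6 (by decide) 0 (by decide)
    have h4 := hY.cox 5 (by decide) 0 (by decide)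
    rw [show lab11 6 0 = 2 by decide, e65] at h3
    rw [show lab11 5 0 = 3 by decide, pow_succ, h3, one_mul] at h4
    have e50 : s 5 = s 0 := by
      have := eq_inv_of_mul_eq_one_left h4
      rwa [inv_eq_of_mul_eq_one_right (hY.sq 0)] at this
    have h5 := hY.cox 5 (by decide) 1 (by decide)
    have h6 := hY.cox 0 (by decide) 1 (by decide)
    rw [show lab11 5 1 = 2 by decide, e50] at h5
    rw [show lab11 0 1 = 3 by decide, pow_succ, h5, one_mul] at h6
    have e01 : s 0 = s 1 := by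
      have := eq_inv_of_mul_eq_one_left h6
      rwa [inv_eq_of_mul_eq_one_right (hY.sq 1)] at this
    have h7 := hY.cox 0 (by decide) 2 (by decide)
    have h8 := hY.cox 1 (by decide) 2 (by decide)
    rw [show lab11 0 2 = 2 by decide, e01] at h7
    rw [show lab11 1 2 = 3 by decide, pow_succ, h7, one_mul] at h8
    have e12 : s 1 = s 2 := by
      have := eq_inv_of_mul_eq_one_left h8
      rwa [inv_eq_of_mul_eq_one_right (hY.sq 2)] at this
    have h9 := hY.cox 1 (by decide) 3 (by decide)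
    rw [show lab11 1 3 = 2 by decide, e12] at h9
    exact hnd (comm_of_pow (hY.sq 2) (hY.sq 3) h9).symm
  have hY' : Y332 fun x => s (swapArms x) := by
    refine ⟨fun x => hY.sq _, fun x hx y hy => ?_, hnd'⟩
    obtain ⟨h1, h2, h3⟩ := (by decide : ∀ x ∈ nodes, ∀ y ∈ nodes,
      swapArms x ∈ nodes ∧ swapArms y ∈ nodes ∧ lab11 (swapArms x) (swapArms y) = lab11 x y) x hx y hy
    exact h3 ▸ hY.cox _ h1 _ h2
  let K : Subgroup G := gens s nodes
  have hword : ∀ w : List ℕ, (∀ x ∈ w, x ∈ nodes) → wprod s w ∈ K := fun w hw => wprod_mem_gens s w hw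
  let gK : ℕ → K := fun x => if hx : x ∈ nodes then ⟨s x, mem_gens s hx⟩ else 1
  have gKv : ∀ x ∈ nodes, (gK x : G) = s x := fun x hx => by simp [gK, hx]
  have gKw : ∀ w : List ℕ, (∀ x ∈ w, x ∈ nodes) → ((wprod gK w : K) : G) = wprod s w := by
    intro w hw
    induction w with
    | nil => simp [wprod]
    | cons x w ih =>
      rw [show wprod gK (x :: w) = gK x * wprod gK w by simp [wprod],
        show wprod s (x :: w) = s x * wprod s w by simp [wprod], Subgroup.coe_mul, gKv x (hw x (by simp)),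
        ih fun y hy => hw y (List.mem_cons_of_mem _ hy)]
  have hcent : ∀ (w : List ℕ), (∀ x ∈ w, x ∈ nodes) → (∀ x ∈ nodes, Commute (wprod s w) (s x)) →
      (QuotientGroup.mk (wprod gK w) : K ⧸ Subgroup.center K) = 1 := by
    intro w hw hc
    rw [QuotientGroup.eq_one_iff, Subgroup.mem_center_iff]
    intro k
    refine Subtype.ext ?_
    rw [Subgroup.coe_mul, Subgroup.coe_mul, gKw w hw]
    exact ((commute_of_mem_gens s hc k.2).symm).eq
  let ix : Cfsg.Spor.Fi22.Gen → ℕ := ix22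
  have hix : ∀ x, ix x ∈ nodes := fun x => by cases x <;> decide
  let φ : Cfsg.Spor.Fi22.Gen → K ⧸ Subgroup.center K := fun x => QuotientGroup.mk (gK (ix x))
  have hrel : ∀ r ∈ Cfsg.Spor.coxRelators Cfsg.Spor.Fi22.edges ∪ {r | r ∈ Cfsg.Spor.Fi22.extra},
      FreeGroup.lift φ r = 1 := by
    intro r hr
    rcases hr with ⟨x, -, y, -, rfl⟩ | hr
    · have hl : Cfsg.Spor.coxLabel Cfsg.Spor.Fi22.edges x y = lab11 (ix x) (ix y) := by
        cases x <;> cases y <;> decide
      rw [map_pow, map_mul, FreeGroup.lift_apply_of, FreeGroup.lift_apply_of]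
      show ((gK (ix x) : K ⧸ Subgroup.center K) * (gK (ix y) : K ⧸ Subgroup.center K)) ^ _ = 1
      rw [← QuotientGroup.mk_mul, ← QuotientGroup.mk_pow, hl]
      have : (gK (ix x) * gK (ix y)) ^ lab11 (ix x) (ix y) = 1 := Subtype.ext (by
        rw [SubmonoidClass.coe_pow, Subgroup.coe_mul, gKv _ (hix x), gKv _ (hix y)]
        exact hY.cox _ (hix x) _ (hix y))
      rw [this]; rfl
    · simp only [Cfsg.Spor.Fi22.extra, Set.mem_setOf_eq, List.mem_cons, List.not_mem_nil, or_false] at hr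
      rcases hr with rfl | rfl | rfl
      · have h1 : wprod gK spW = 1 := Subtype.ext (by
          rw [gKw _ (by decide)]; exact hsp)
        simp only [map_pow, map_mul, FreeGroup.lift_apply_of]
        show ((gK 0 : K ⧸ Subgroup.center K) * gK 1 * gK 2 * gK 0 * gK 5 * gK 6 * gK 0 * gK 7 * gK 8) ^ 10 = 1
        rw [spW, wprod_rpt] at h1
        simp only [← QuotientGroup.mk_mul, ← QuotientGroup.mk_pow]
        rw [show (gK 0 * gK 1 * gK 2 * gK 0 * gK 5 * gK 6 * gK 0 * gK 7 * gK 8) =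
          wprod gK [0, 1, 2, 0, 5, 6, 0, 7, 8] by simp [wprod, mul_assoc], h1]
        rfl
      · have h1 := hcent (rpt 9 [3, 2, 1, 0, 5, 6, 7]) (by decide) fun x hx => by
          rw [hY.eq_of_reduces relA_ok]; exact hY.z_central hsp hx
        rw [wprod_rpt, QuotientGroup.mk_pow] at h1
        simp only [map_pow, map_mul, FreeGroup.lift_apply_of]
        show ((gK 3 : K ⧸ Subgroup.center K) * gK 2 * gK 1 * gK 0 * gK 5 * gK 6 * gK 7) ^ 9 = 1
        simp only [← QuotientGroup.mk_mul]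
        rw [show gK 3 * gK 2 * gK 1 * gK 0 * gK 5 * gK 6 * gK 7 = wprod gK [3, 2, 1, 0, 5, 6, 7] by
          simp [wprod, mul_assoc]]
        exact h1
      · have hperm : ∀ x ∈ nodes, swapArms (swapArms x) = x ∧ swapArms x ∈ nodes := by decide
        have h1 := hcent (rpt 9 [2, 1, 0, 5, 6, 9, 7]) (by decide) fun x hx => by
          have e := hY'.eq_of_reduces relB_ok
          rw [hsw, show (rpt 9 [6, 5, 0, 1, 2, 3, 7]).map swapArms = rpt 9 [2, 1, 0, 5, 6, 9, 7] by decide] at e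
          rw [e]
          have := hY'.z_central (by rw [hsw]; exact hsp') (hperm x hx).2
          simpa only [(hperm x hx).1] using this
        rw [wprod_rpt, QuotientGroup.mk_pow] at h1
        simp only [map_pow, map_mul, FreeGroup.lift_apply_of]
        show ((gK 2 : K ⧸ Subgroup.center K) * gK 1 * gK 0 * gK 5 * gK 6 * gK 9 * gK 7) ^ 9 = 1
        simp only [← QuotientGroup.mk_mul]
        rw [show gK 2 * gK 1 * gK 0 * gK 5 * gK 6 * gK 9 * gK 7 = wprod gK [2, 1, 0, 5, 6, 9, 7] by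
          simp [wprod, mul_assoc]]
        exact h1
  let ψ : Cfsg.Spor.Fi22 →* K ⧸ Subgroup.center K := PresentedGroup.toGroup hrel
  haveI := CfsgLib.InvChar.SporFi22.isSimpleGroup
  have hinj : Function.Injective ψ := by
    rcases (inferInstance : ψ.ker.Normal).eq_bot_or_eq_top with e | e
    · exact (MonoidHom.ker_eq_bot_iff ψ).1 e
    · exfalso
      have h3 : ψ (PresentedGroup.of Cfsg.Spor.Fi22.Gen.a) = 1 :=
        MonoidHom.mem_ker.1 (e ▸ Subgroup.mem_top _)
      rw [PresentedGroup.toGroup.of] at h3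
      have h4 := Subgroup.mem_center_iff.1 ((QuotientGroup.eq_one_iff _).1 h3) (gK 2)
      have h5 := congrArg (fun k : K => (k : G)) h4
      simp only [Subgroup.coe_mul, gKv 2 (by decide)] at h5
      rw [show ((gK (ix Cfsg.Spor.Fi22.Gen.a) : K) : G) = s 3 from gKv 3 (by decide)] at h5
      exact hnd h5.symm
  have hF : Nat.card Cfsg.Spor.Fi22 = Nat.card G := by
    rw [hG]; exact CfsgLib.InvChar.SporFi22.card_eq.1
  have h1 : Nat.card Cfsg.Spor.Fi22 ≤ Nat.card (K ⧸ Subgroup.center K) := Nat.card_le_card_of_injective ψ hinj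
  have h2 := Subgroup.card_eq_card_quotient_mul_card_subgroup (Subgroup.center K)
  have h3 : Nat.card K ≤ Nat.card G := Subgroup.card_le_card_group K
  have hz : Nat.card (Subgroup.center K) = 1 := by
    have hp : 0 < Nat.card (K ⧸ Subgroup.center K) := Nat.card_pos
    have hq : 0 < Nat.card (Subgroup.center K) := Nat.card_pos
    nlinarith
  have hKtop : K = ⊤ := Subgroup.eq_top_of_le_card K (by rw [h2, hz, mul_one] at *; omega)
  have hbij : Function.Bijective ψ := by
    refine (Nat.bijective_iff_injective_and_card ψ).2 ⟨hinj, ?_⟩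
    rw [h2, hz, mul_one] at h3; omega
  have hbot : Subgroup.center K = ⊥ := Subgroup.card_eq_one.1 hz
  let Φ : (K ⧸ Subgroup.center K) ≃* G :=
    ((QuotientGroup.quotientMulEquivOfEq hbot).trans QuotientGroup.quotientBot).trans
      ((MulEquiv.subgroupCongr hKtop).trans Subgroup.topEquiv)
  refine ⟨(MulEquiv.ofBijective ψ hbij).trans Φ, fun x => ?_⟩
  have he : ((MulEquiv.ofBijective ψ hbij).trans Φ) (PresentedGroup.of x) = s (ix x) := by
    show Φ (ψ (PresentedGroup.of x)) = _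
    rw [PresentedGroup.toGroup.of]
    exact gKv _ (hix x)
  exact he

/-- The same from the order of `b θ`. -/
theorem m22_iso_config {s : ℕ → G} (hY : Y332 s) (hnd : ¬ Commute (s 3) (s 2))
    (hb3 : (s 2 * wprod s Data.theta) ^ 3 = 1) (hb1 : s 2 * wprod s Data.theta ≠ 1) :
    ∃ E : Cfsg.Spor.Fi22 ≃* G, ∀ x, E (PresentedGroup.of x) = s (ix22 x) := by
  have h310 : ¬ 3 ^ 10 ∣ Nat.card G := by rw [m22_card hD hP h]; decide
  obtain ⟨hsp, hsp'⟩ := spider_holds hY hb3 hb1 h310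
  exact m22_iso_spider hD hP h hY hnd hsp hsp'

/-- The relation of type `E₇` holds in a configuration. -/
theorem m22_relA {s : ℕ → G} (hY : Y332 s) (hnd : ¬ Commute (s 3) (s 2))
    (hb3 : (s 2 * wprod s Data.theta) ^ 3 = 1) (hb1 : s 2 * wprod s Data.theta ≠ 1) :
    wprod s (rpt 9 [3, 2, 1, 0, 5, 6, 7]) = 1 := by
  obtain ⟨E, hE⟩ := m22_iso_config hD hP h hY hnd hb3 hb1
  exact relA_of_iso E hE

/-- A group of type M(22) is the presented group, with the nine generators going to members. -/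
theorem m22_iso_gens : ∃ E : Cfsg.Spor.Fi22 ≃* G, ∀ x, E (PresentedGroup.of x) ∈ D := by
  obtain ⟨s, hY, hsD, hnd, hb3, hb1⟩ := exists_config hD hP h
  obtain ⟨E, hE⟩ := m22_iso_config hD hP h hY hnd hb3 hb1
  exact ⟨E, fun x => hE x ▸ hsD _ (by cases x <;> decide)⟩

/-- A group of type M(22) is isomorphic to the presented group. -/
theorem m22_iso : Nonempty (G ≃* Cfsg.Spor.Fi22) := by
  obtain ⟨E, -⟩ := m22_iso_gens hD hP h
  exact ⟨E.symm⟩

end

end CfsgLib.Trans3.FiConf
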