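import Cfsg.Agent.Lib.Trans3.Spider.Stage
import Cfsg.Agent.Lib.Trans3.FiConf.Data

/-!
# The diagram `Y₃₃₂` with the spider relation

The ninth power of the Coxeter element of a subdiagram of type `E₇` commutes with all the nine nodes.
-/

set_option autoImplicit false
set_option maxRecDepth 100000

namespace CfsgLib.Trans3.FiConf

open CfsgLib.InvChar.Coset CfsgLib.Trans3.Spider

/-- The nine nodes. -/
def nodes : List ℕ := [0, 1, 2, 3, 5, 6, 7, 8, 9]

/-- The Coxeter relations of the nine nodes. -/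
structure Y332 {G : Type*} [Group G] (s : ℕ → G) : Prop where
  sq : ∀ x, s x * s x = 1
  cox : ∀ x ∈ nodes, ∀ y ∈ nodes, (s x * s y) ^ lab11 x y = 1
  nd : s 3 ≠ s 2

/-- The label, nonzero only for the nine nodes. -/
def lab9 (x y : ℕ) : ℕ := if x ∈ nodes ∧ y ∈ nodes then lab11 x y else 0

/-- A sign character on a word. -/
theorem chi_word {G : Type*} [Group G] {s : ℕ → G} {χ : G →* Multiplicative (ZMod 2)}
    (hχ : ∀ x, χ (s x) = odd1) : ∀ w : List ℕ, (∀ x ∈ w, x < 11) →
    χ (wprod s w) = odd1 ^ w.length := fun w hw => chi_wprod (fun x _ => hχ x) w hw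

/-- Exchange of the two long arms. -/
def swapArms (x : ℕ) : ℕ := [0, 5, 6, 9, 4, 1, 2, 7, 8, 3].getD x x

section

variable {G : Type*} [Group G] {s : ℕ → G} (h : Y332 s)
include h

theorem Y332.reduces {ms w : List ℕ} (hm : moves lab9 ms w = some []) : wprod s w = 1 := by
  rw [moves_sound h.sq (fun x y hl => ?_) (fun x y hl => ?_) ms w [] hm]
  · simp [wprod]
  · unfold lab9 at hl
    split at hl
    · rename_i hxy
      exact comm_of_pow (h.sq x) (h.sq y) (hl ▸ h.cox x hxy.1 y hxy.2)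
    · omega
  · unfold lab9 at hl
    split at hl
    · rename_i hxy
      exact braid_of_pow (h.sq x) (h.sq y) (hl ▸ h.cox x hxy.1 y hxy.2)
    · omega

theorem Y332.eq_of_reduces {ms u v : List ℕ} (hm : moves lab9 ms (u ++ v.reverse) = some []) :
    wprod s u = wprod s v := by
  have h1 := h.reduces hm
  rw [wprod_append, wprod_reverse s h.sq] at h1
  exact mul_inv_eq_one.1 h1

end

/-- The nodes of the subdiagram of type `E₇`. -/
def nodes7 : List ℕ := [0, 1, 2, 3, 5, 6, 7]

/-- The Coxeter relations of the subdiagram of type `E₇`. -/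
structure E7 {G : Type*} [Group G] (s : ℕ → G) : Prop where
  sq : ∀ x, s x * s x = 1
  cox : ∀ x ∈ nodes7, ∀ y ∈ nodes7, (s x * s y) ^ lab11 x y = 1
  nd : s 3 ≠ s 2

/-- The label, nonzero only for the nodes of `E₇`. -/
def lab7 (x y : ℕ) : ℕ := if x ∈ nodes7 ∧ y ∈ nodes7 then lab11 x y else 0

section

variable {G : Type*} [Group G] {s : ℕ → G} (h : E7 s)
include h

theorem E7.comm {x y : ℕ} (hl : lab7 x y = 2) : s x * s y = s y * s x := by
  unfold lab7 at hl
  split at hl
  · rename_i hxy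
    exact comm_of_pow (h.sq x) (h.sq y) (hl ▸ h.cox x hxy.1 y hxy.2)
  · omega

theorem E7.braid {x y : ℕ} (hl : lab7 x y = 3) : s x * s y * s x = s y * s x * s y := by
  unfold lab7 at hl
  split at hl
  · rename_i hxy
    exact braid_of_pow (h.sq x) (h.sq y) (hl ▸ h.cox x hxy.1 y hxy.2)
  · omega

theorem E7.reduces {ms w : List ℕ} (hm : moves lab7 ms w = some []) : wprod s w = 1 := by
  rw [moves_sound h.sq (fun _ _ => h.comm) (fun _ _ => h.braid) ms w [] hm]
  simp [wprod]

theorem E7.commute_of_reduces {ms W : List ℕ} {x : ℕ}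
    (hm : moves lab7 ms (W ++ [x] ++ W.reverse ++ [x]) = some []) : Commute (wprod s W) (s x) := by
  have h1 := h.reduces hm
  simp only [wprod_append, wprod_reverse s h.sq, show wprod s [x] = s x by simp [wprod]] at h1
  have h2 := eq_inv_of_mul_eq_one_left h1
  rw [inv_eq_of_mul_eq_one_right (h.sq x), mul_inv_eq_iff_eq_mul] at h2
  exact h2

theorem E7.z_sq : wprod s zW * wprod s zW = 1 := by
  rw [← wprod_append]
  exact h.reduces (ms := BraidData.mvZSq) (by decide +kernel)

theorem E7.z_comm {x : ℕ} (hx : x ∈ [0, 1, 2, 3, 5, 6, 7]) : Commute (wprod s zW) (s x) := by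
  simp only [List.mem_cons, List.not_mem_nil, or_false] at hx
  rcases hx with rfl | rfl | rfl | rfl | rfl | rfl | rfl
  · exact h.commute_of_reduces (ms := BraidData.mvZ0) (by decide +kernel)
  · exact h.commute_of_reduces (ms := BraidData.mvZ1) (by decide +kernel)
  · exact h.commute_of_reduces (ms := BraidData.mvZ2) (by decide +kernel)
  · exact h.commute_of_reduces (ms := BraidData.mvZ3) (by decide +kernel)
  · exact h.commute_of_reduces (ms := BraidData.mvZ5) (by decide +kernel)
  · exact h.commute_of_reduces (ms := BraidData.mvZ6) (by decide +kernel)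
  · exact h.commute_of_reduces (ms := BraidData.mvZ7) (by decide +kernel)

theorem E7.coxRel {emb : List ℕ} (he : ∀ x ∈ emb, x ∈ nodes7) : CoxRel s [] emb :=
  ⟨h.sq, fun x hx y hy => h.cox x (he x hx) y (he y hy), fun w hw => by simp at hw⟩

theorem E7.chain_step {D : Cert} {T : Table} {live fin : Tr} (hC : Covered D T live fin)
    {emb l : List ℕ} (hR : CoxRel s [] emb) (hg : T.g = emb.length)
    (hok : relsOK [] emb D.rels = true) (F : Fixed) (hF : F.check T = true) (hA : F.A = [0])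
    (hs : ∀ r ∈ D.subs, ∀ x ∈ r, x < emb.length ∧ emb.getD x 0 ∈ l)
    (hxs : ∀ x ∈ F.xs, [x] ∈ D.subs) {k : G} (hk : k ∈ gens s emb)
    (hc : ∀ x ∈ l, Commute (s x) k) : k ∈ gens s l := by
  refine fixed_mem hR hC hg hok (fun r hr => ?_) F hF hA hxs hk fun x hx => ?_
  · rw [wprod_loc s r fun x hx => (hs r hr x hx).1]
    refine wprod_mem_gens s _ fun z hz => ?_
    obtain ⟨x, hx, rfl⟩ := List.mem_map.1 hz
    exact (hs r hr x hx).2
  · obtain ⟨h1, h2⟩ := hs [x] (hxs x hx) x (by simp)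
    rw [loc, if_pos h1]; exact hc _ h2

theorem E7.chain_center {k : G} (hk : k ∈ gens s [3, 2, 1, 0, 5, 6])
    (hc : ∀ x ∈ [3, 2, 1, 0, 5, 6], Commute (s x) k) : k = 1 := by
  have k5 : k ∈ gens s [3, 2, 1, 0, 5] := h.chain_step (emb := A5.emb) A5.covered (h.coxRel (by decide))
    (by decide) (by decide +kernel) A5.fixed A5.fixed_ok rfl (by decide) (by decide) hk
    fun x hx => hc x (by simp at hx ⊢; tauto)
  have k4 : k ∈ gens s [3, 2, 1, 0] := h.chain_step (emb := A4.emb) A4.covered (h.coxRel (by decide))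
    (by decide) (by decide +kernel) A4.fixed A4.fixed_ok rfl (by decide) (by decide) k5
    fun x hx => hc x (by simp at hx ⊢; tauto)
  have k3 : k ∈ gens s [3, 2, 1] := h.chain_step (emb := A3.emb) A3.covered (h.coxRel (by decide))
    (by decide) (by decide +kernel) A3.fixed A3.fixed_ok rfl (by decide) (by decide) k4
    fun x hx => hc x (by simp at hx ⊢; tauto)
  have k2 : k ∈ gens s [3, 2] := h.chain_step (emb := A2.emb) A2.covered (h.coxRel (by decide))
    (by decide) (by decide +kernel) A2.fixed A2.fixed_ok rfl (by decide) (by decide) k3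
    fun x hx => hc x (by simp at hx ⊢; tauto)
  have k1 : k ∈ gens s [3] := h.chain_step (emb := A1.emb) A1.covered (h.coxRel (by decide))
    (by decide) (by decide +kernel) A1.fixed A1.fixed_ok rfl (by decide) (by decide) k2
    fun x hx => hc x (by simp at hx ⊢; tauto)
  have hle : gens s [3] ≤ ⊥ ⊔ Subgroup.zpowers (s 3) := by
    rw [gens, Subgroup.closure_le, bot_sup_eq]
    rintro g ⟨x, hx, rfl⟩
    rw [List.mem_singleton] at hx; subst hx
    exact Subgroup.mem_zpowers _
  rcases mem_or_mul_mem (z := s 3) (fun g hg => by rw [Subgroup.mem_bot.1 hg]; exact Commute.one_right _)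
      (h.sq 3) (hle k1) with hb | hb
  · exact Subgroup.mem_bot.1 hb
  exfalso
  have e : k = s 3 := by
    have := congrArg (s 3 * ·) (Subgroup.mem_bot.1 hb)
    simpa [← mul_assoc, h.sq] using this
  subst e
  have hc' := (hc 2 (by simp)).eq
  refine h.nd ?_
  have hb' := h.braid (x := 2) (y := 3) (by decide)
  rw [hc', mul_assoc, h.sq 2, mul_one, mul_assoc, hc', ← mul_assoc, h.sq 3, one_mul] at hb'
  exact hb'

end

/-- The letters with the reflection `dW` as letter `11`. -/
noncomputable def withD {G : Type*} [Group G] (s : ℕ → G) (x : ℕ) : G :=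
  if x = 11 then wprod s dW else s x

section

variable {G : Type*} [Group G] {s : ℕ → G} (h : E7 s)
include h

theorem E7.d_sq : wprod s dW * wprod s dW = 1 := by
  rw [← wprod_append]
  exact h.reduces (ms := BraidData.mvDSq) (by decide +kernel)

theorem E7.d_rel {x : ℕ} (hx : x ∈ [3, 2, 1, 0, 5, 6]) : (wprod s dW * s x) ^ lab11 x 11 = 1 := by
  have e : wprod s dW * s x = wprod s (dW ++ [x]) := by rw [wprod_append]; simp [wprod]
  rw [e, ← wprod_rpt]
  simp only [List.mem_cons, List.not_mem_nil, or_false] at hx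
  rcases hx with rfl | rfl | rfl | rfl | rfl | rfl
  · exact h.reduces (ms := BraidData.mvD3) (by decide +kernel)
  · exact h.reduces (ms := BraidData.mvD2) (by decide +kernel)
  · exact h.reduces (ms := BraidData.mvD1) (by decide +kernel)
  · exact h.reduces (ms := BraidData.mvD0) (by decide +kernel)
  · exact h.reduces (ms := BraidData.mvD5) (by decide +kernel)
  · exact h.reduces (ms := BraidData.mvD6) (by decide +kernel)

theorem E7.coxRel_withD : CoxRel (withD s) [] A6.emb := by
  have hsq : ∀ x, withD s x * withD s x = 1 := fun x => by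
    unfold withD; split
    · exact h.d_sq
    · exact h.sq x
  refine ⟨hsq, ?_, fun w hw => by simp at hw⟩
  have hmem : ∀ x ∈ A6.emb, x = 11 ∨ x ∈ [3, 2, 1, 0, 5, 6] := by decide
  have hlt : ∀ x ∈ [3, 2, 1, 0, 5, 6], x ∈ nodes7 ∧ x ≠ 11 := by decide
  have hsym : ∀ x ∈ [3, 2, 1, 0, 5, 6], lab11 11 x = lab11 x 11 := by decide
  intro x hx y hy
  rcases hmem x hx with rfl | hx <;> rcases hmem y hy with rfl | hy
  · simpa [lab11] using hsq 11
  · have e11 : withD s 11 = wprod s dW := if_pos rfl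
    rw [e11, show withD s y = s y from if_neg (hlt y hy).2, hsym y hy]
    exact h.d_rel hy
  · have e11 : withD s 11 = wprod s dW := if_pos rfl
    rw [e11, show withD s x = s x from if_neg (hlt x hx).2]
    have h1 := h.d_rel hx
    have e : s x * wprod s dW = (wprod s dW * s x)⁻¹ := by
      rw [mul_inv_rev, inv_eq_of_mul_eq_one_right (h.sq x), inv_eq_of_mul_eq_one_right h.d_sq]
    rw [e, inv_pow, h1, inv_one]
  · simp only [withD, if_neg (hlt x hx).2, if_neg (hlt y hy).2]
    exact h.cox x (hlt x hx).1 y (hlt y hy).1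

theorem E7.eq_one_or_z {k : G} (hk : k ∈ gens s [0, 1, 2, 3, 5, 6, 7])
    (hc : ∀ x ∈ [3, 2, 1, 0, 5, 6], Commute (s x) k) : k = 1 ∨ k = wprod s zW := by
  let t := withD s
  have hts : ∀ x, x ≠ 11 → t x = s x := fun x hx => if_neg hx
  have ht11 : t 11 = wprod s dW := if_pos rfl
  let H := gens t [3, 2, 1, 0, 5, 6, 11]
  have hz : ∀ g ∈ H, Commute (wprod s zW) g := fun g hg => by
    refine commute_of_mem_gens t (fun x hx => ?_) hg
    simp only [List.mem_cons, List.not_mem_nil, or_false] at hx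
    rcases hx with rfl | rfl | rfl | rfl | rfl | rfl | rfl
    all_goals first
      | (rw [ht11]; exact commute_wprod s _ fun y hy => h.z_comm
          ((by decide : ∀ y ∈ dW, y ∈ [0, 1, 2, 3, 5, 6, 7]) y hy))
      | (rw [hts _ (by decide)]; exact h.z_comm (by decide))
  have hk' : k ∈ H ⊔ Subgroup.zpowers (wprod s zW) := by
    refine fixed_mem (h.coxRel (emb := E.emb) (by decide)) E.covered (by decide) (by decide +kernel)
      (fun r hr => ?_) E.fixed E.fixed_ok rfl (by decide) hk fun x hx => ?_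
    · rw [wprod_loc s r ((by decide : ∀ r ∈ E.cert.subs, ∀ x ∈ r, x < E.emb.length) r hr)]
      have hcases : r.map (E.emb.getD · 0) = dW ∨ r.map (E.emb.getD · 0) = zW ∨
          ∃ x ∈ [3, 2, 1, 0, 5, 6], r.map (E.emb.getD · 0) = [x] :=
        (by decide : ∀ r ∈ E.subs, r.map (E.emb.getD · 0) = dW ∨ r.map (E.emb.getD · 0) = zW ∨
          ∃ x ∈ [3, 2, 1, 0, 5, 6], r.map (E.emb.getD · 0) = [x]) r hr
      rcases hcases with e | e | ⟨x, hx, e⟩ <;> rw [e]
      · exact Subgroup.mem_sup_left (ht11 ▸ mem_gens t (by simp))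
      · exact Subgroup.mem_sup_right (Subgroup.mem_zpowers _)
      · refine Subgroup.mem_sup_left ?_
        rw [show wprod s [x] = t x by
          rw [hts x ((by decide : ∀ x ∈ [3, 2, 1, 0, 5, 6], x ≠ 11) x hx)]; simp [wprod]]
        exact mem_gens t (by simp at hx ⊢; tauto)
    · obtain ⟨hl, hm⟩ := (by decide : ∀ x ∈ E.fixed.xs, x < E.emb.length ∧
        E.emb.getD x 0 ∈ [3, 2, 1, 0, 5, 6]) x hx
      rw [loc, if_pos hl]; exact hc _ hm
  have final : ∀ g ∈ H, (∀ x ∈ [3, 2, 1, 0, 5, 6], Commute (s x) g) → g = 1 := by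
    intro g hg hgc
    refine h.chain_center ?_ hgc
    refine fixed_mem h.coxRel_withD A6.covered (by decide) (by decide +kernel) (fun r hr => ?_)
      A6.fixed A6.fixed_ok rfl (by decide) (gens_mono t (by decide) hg) fun x hx => ?_
    · obtain ⟨h1, h2⟩ := (by decide : ∀ r ∈ A6.subs, (∀ x ∈ r, x < A6.emb.length) ∧
        ∀ y ∈ r.map (A6.emb.getD · 0), y ∈ [3, 2, 1, 0, 5, 6]) r hr
      rw [wprod_loc t r h1]
      have he : ∀ w : List ℕ, (∀ y ∈ w, y ∈ [3, 2, 1, 0, 5, 6]) → wprod t w = wprod s w := fun w hw => by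
        refine congrArg List.prod (List.map_congr_left fun y hy => hts y ?_)
        exact (by decide : ∀ x ∈ [3, 2, 1, 0, 5, 6], x ≠ 11) y (hw y hy)
      rw [he _ h2]
      exact wprod_mem_gens s _ h2
    · obtain ⟨hl, hm, hne⟩ := (by decide : ∀ x ∈ A6.fixed.xs, x < A6.emb.length ∧
        A6.emb.getD x 0 ∈ [3, 2, 1, 0, 5, 6] ∧ A6.emb.getD x 0 ≠ 11) x hx
      rw [loc, if_pos hl, show withD s _ = _ from hts _ hne]; exact hgc _ hm
  rcases mem_or_mul_mem hz h.z_sq hk' with hb | hb
  · exact Or.inl (final k hb hc)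
  · right
    have h1 := final _ hb fun x hx => by
      refine ((h.z_comm ?_).symm).mul_right (hc x hx)
      simp at hx ⊢; tauto
    have := congrArg (wprod s zW * ·) h1
    simpa [← mul_assoc, h.z_sq] using this

end


section

variable {G : Type*} [Group G] {s : ℕ → G} (h : Y332 s)
include h

theorem Y332.e7 : E7 s :=
  ⟨h.sq, fun x hx y hy => h.cox x ((by decide : ∀ x ∈ nodes7, x ∈ nodes) x hx) y
    ((by decide : ∀ x ∈ nodes7, x ∈ nodes) y hy), h.nd⟩

theorem Y332.e7_flip : E7 (fun x => s (flip8 x)) := by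
  refine ⟨fun x => h.sq _, ?_, h.nd⟩
  have hd : ∀ x ∈ nodes7, ∀ y ∈ nodes7,
      flip8 x ∈ nodes ∧ flip8 y ∈ nodes ∧ lab11 (flip8 x) (flip8 y) = lab11 x y := by decide
  intro x hx y hy
  obtain ⟨a, b, c⟩ := hd x hx y hy
  exact c ▸ h.cox _ a _ b

theorem Y332.comm {x y : ℕ} (hx : x ∈ nodes) (hy : y ∈ nodes) (hl : lab11 x y = 2) :
    Commute (s x) (s y) :=
  comm_of_pow (h.sq x) (h.sq y) (hl ▸ h.cox x hx y hy)

theorem Y332.comm_word {x : ℕ} {w : List ℕ} (hx : x ∈ nodes)
    (hw : ∀ y ∈ w, y ∈ nodes ∧ (lab11 x y = 2 ∨ x = y)) : Commute (s x) (wprod s w) :=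
  commute_wprod s w fun y hy => by
    obtain ⟨hy', h2 | rfl⟩ := hw y hy
    · exact h.comm hx hy' h2
    · exact Commute.refl _

omit h in
theorem Y332.zp_eq : wprod (fun x => s (flip8 x)) zW = wprod s zpW := by
  rw [show zpW = zW.map flip8 by decide]
  simp [wprod, List.map_map, Function.comp_def]

variable (hsp : wprod s spW = 1) (hsign : ∃ χ : G →* Multiplicative (ZMod 2), ∀ x, χ (s x) = odd1)
include hsp

theorem Y332.spRel {emb : List ℕ} (he : ∀ x ∈ emb, x ∈ nodes) : CoxRel s [spW] emb :=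
  ⟨h.sq, fun x hx y hy => h.cox x (he x hx) y (he y hy),
    fun w hw => by rw [List.mem_singleton] at hw; rw [hw]; exact hsp⟩

include hsign

theorem Y332.z_comm_ck : Commute (wprod s zW) (s 8) := by
  obtain ⟨χ, hχ⟩ := id hsign
  let u := wprod s (zW ++ [8] ++ zW.reverse ++ [8])
  have hu : u ∈ gens s [0, 1, 2, 3, 5, 6, 7] := by
    refine goal_mem (h.spRel hsp (emb := UE.emb) (by decide)) (W := zW ++ [8] ++ zW.reverse ++ [8])
      (by decide +kernel) (fun r hr => ?_) UE.nf_le UE.facts_ok UE.goal_ok le_rfl (by decide +kernel)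
      (by decide +kernel)
    obtain ⟨h1, h2⟩ := (by decide : ∀ r ∈ UE.subs, (∀ x ∈ r, x < UE.emb.length) ∧
      ∀ y ∈ r.map (UE.emb.getD · 0), y ∈ [0, 1, 2, 3, 5, 6, 7]) r hr
    rw [wprod_loc s r h1]; exact wprod_mem_gens s _ h2
  have hc : ∀ x ∈ [3, 2, 1, 0, 5, 6], Commute (s x) u := by
    intro x hx
    obtain ⟨hx1, hx2, hx3⟩ := (by decide : ∀ x ∈ [3, 2, 1, 0, 5, 6],
      x ∈ nodes ∧ lab11 x 8 = 2 ∧ x ∈ [0, 1, 2, 3, 5, 6, 7]) x hx
    have c1 := (h.e7.z_comm hx3).symm
    have c2 := h.comm hx1 (y := 8) (by decide) hx2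
    simp only [u, wprod_append, wprod_reverse s h.sq, show wprod s [8] = s 8 by simp [wprod]]
    exact ((c1.mul_right c2).mul_right c1.inv_right).mul_right c2
  rcases h.e7.eq_one_or_z hu hc with e | e
  · simp only [u, wprod_append, wprod_reverse s h.sq, show wprod s [8] = s 8 by simp [wprod]] at e
    have h2 := eq_inv_of_mul_eq_one_left e
    rw [inv_eq_of_mul_eq_one_right (h.sq 8), mul_inv_eq_iff_eq_mul] at h2
    exact h2
  · have h1 : χ u = χ (wprod s zW) := by rw [e]
    rw [chi_word hχ _ (by decide), chi_word hχ _ (by decide)] at h1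
    exact absurd h1 (by decide)

theorem Y332.z_eq_zp : wprod s zW = wprod s zpW := by
  obtain ⟨χ, hχ⟩ := id hsign
  have hz : wprod s zW ∈ gens s [0, 1, 2, 3, 5, 7, 8] := by
    refine goal_mem (h.spRel hsp (emb := ZE.emb) (by decide)) (W := zW) (by decide +kernel) (fun r hr => ?_)
      ZE.nf_le ZE.facts_ok ZE.goal_ok le_rfl (by decide +kernel) (by decide +kernel)
    obtain ⟨h1, h2⟩ := (by decide : ∀ r ∈ ZE.subs, (∀ x ∈ r, x < ZE.emb.length) ∧
      ∀ y ∈ r.map (ZE.emb.getD · 0), y ∈ [0, 1, 2, 3, 5, 7, 8]) r hr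
    rw [wprod_loc s r h1]; exact wprod_mem_gens s _ h2
  have hz' : wprod s zW ∈ gens (fun x => s (flip8 x)) [0, 1, 2, 3, 5, 6, 7] := by
    refine Subgroup.closure_mono ?_ hz
    rintro g ⟨x, hx, rfl⟩
    obtain ⟨y, hy, e⟩ := (by decide : ∀ x ∈ [0, 1, 2, 3, 5, 7, 8],
      ∃ y ∈ [0, 1, 2, 3, 5, 6, 7], flip8 y = x) x hx
    exact ⟨y, hy, show s (flip8 y) = s x by rw [e]⟩
  have hcz : ∀ x ∈ [3, 2, 1, 0, 5, 6], Commute (s (flip8 x)) (wprod s zW) := by
    intro x hx
    rcases (by decide : ∀ x ∈ [3, 2, 1, 0, 5, 6], flip8 x ∈ [0, 1, 2, 3, 5, 6, 7] ∨ flip8 x = 8) x hx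
      with hy | hy
    · exact (h.e7.z_comm hy).symm
    · rw [hy]; exact (h.z_comm_ck hsp hsign).symm
  rcases h.e7_flip.eq_one_or_z hz' hcz with e | e
  · have h1 : χ (wprod s zW) = χ 1 := by rw [e]
    rw [chi_word hχ _ (by decide), map_one] at h1
    exact absurd h1 (by decide)
  · rw [e, Y332.zp_eq]

theorem Y332.z_comm {x : ℕ} (hx : x ∈ [0, 1, 2, 3, 5, 6, 7, 8, 9]) : Commute (wprod s zW) (s x) := by
  rcases (by decide : ∀ x ∈ [0, 1, 2, 3, 5, 6, 7, 8, 9],
    x ∈ [0, 1, 2, 3, 5, 6, 7] ∨ x = 8 ∨ x = 9) x hx with h7 | rfl | rfl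
  · exact h.e7.z_comm h7
  · exact (h.z_comm_ck hsp hsign)
  · rw [h.z_eq_zp hsp hsign]
    exact (h.comm_word (by decide) (by decide)).symm

end

/-- In any group, the subdiagram's ninth power commutes with the nine nodes. -/
theorem Y332.z_central {G : Type*} [Group G] {s : ℕ → G} (h : Y332 s) (hsp : wprod s spW = 1)
    {x : ℕ} (hx : x ∈ nodes) : Commute (wprod s zW) (s x) := by
  let H := G × Multiplicative (ZMod 2)
  let t : ℕ → H := fun y => (s y, odd1)
  have h1 : ∀ w : List ℕ, wprod t w = (wprod s w, odd1 ^ w.length) := by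
    intro w
    induction w with
    | nil => simp [wprod]; rfl
    | cons y w ih =>
      rw [show wprod t (y :: w) = t y * wprod t w by simp [wprod], ih,
        show wprod s (y :: w) = s y * wprod s w by simp [wprod], List.length_cons, pow_succ']
      rfl
  have ht : Y332 t := by
    refine ⟨fun y => Prod.ext (h.sq y) (show odd1 * odd1 = 1 by decide), fun y hy z hz => ?_, fun e => h.nd (congrArg Prod.fst e)⟩
    refine Prod.ext (h.cox y hy z hz) ?_
    show (odd1 * odd1) ^ lab11 y z = 1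
    rw [show (odd1 * odd1 : Multiplicative (ZMod 2)) = 1 by decide, one_pow]
  have hc := ht.z_comm (by rw [h1, hsp]; exact Prod.ext rfl (show odd1 ^ spW.length = 1 by decide)) ⟨MonoidHom.snd G _, fun _ => rfl⟩ hx
  rw [h1] at hc
  exact congrArg Prod.fst hc.eq

end CfsgLib.Trans3.FiConf
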