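import Cfsg.Agent.Lib.Trans3.FiConf.U6Path
import Cfsg.Agent.Lib.Trans3.FiConf.Central
import Cfsg.Agent.Lib.Trans3.Fi.InvolM22
import Cfsg.Agent.Lib.Trans3.Fi.PairK
import Cfsg.Agent.Lib.Trans3.Fi.ReflSix

/-!
In a group of type M(22) the common partners of a non-commuting pair are the reflections of the six
dimensional orthogonal group of discriminant one, in coordinates.
-/

set_option autoImplicit false
set_option linter.unusedSectionVars false
set_option maxRecDepth 100000

namespace CfsgLib.Trans3.FiConf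

open QuadraticMap (polar)
open CfsgLib.InvChar.Coset CfsgLib.Trans3.Fi CfsgLib.Geom CfsgLib.Geom.ReflThree CfsgLib.Trans3.Spider

local instance factPrimeThreeFiConf : Fact (Nat.Prime 3) := ⟨Nat.prime_three⟩

/-- The dot product of coordinate vectors. -/
def dot (x y : Fin 6 → ZMod 3) : ZMod 3 :=
  x 0 * y 0 + x 1 * y 1 + x 2 * y 2 + x 3 * y 3 + x 4 * y 4 + x 5 * y 5

theorem exists_partner : ∀ x : Fin 6 → ZMod 3, dot x x = 1 →
    ∃ y ∈ [![1, 0, 0, 0, 0, 0], ![0, 1, 0, 0, 0, 0], ![0, 0, 1, 0, 0, 0], ![0, 0, 0, 1, 0, 0],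
      ![0, 0, 0, 0, 1, 0], ![0, 0, 0, 0, 0, 1], ![1, 1, 1, 1, 0, 0], ![0, 0, 1, 1, 1, 1],
      ![1, 1, 0, 0, 1, 1]], dot y y = 1 ∧ dot x y ≠ 0 ∧ y ≠ x ∧ y ≠ -x := by
  decide +kernel

/-- The common partners in coordinates. -/
structure Frame {G : Type*} [Group G] (D : Set G) (a b : G) where
  /-- the member of a vector of norm one -/
  t : (Fin 6 → ZMod 3) → G
  mem : ∀ x, dot x x = 1 → t x ∈ CN D a b
  surj : ∀ y ∈ CN D a b, ∃ x, dot x x = 1 ∧ t x = y
  orth : ∀ x y, dot x x = 1 → dot y y = 1 → dot x y = 0 → Commute (t x) (t y)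
  noncomm : ∀ x y, dot x x = 1 → dot y y = 1 → dot x y ≠ 0 → t x ≠ t y → ¬ Commute (t x) (t y)
  inj : ∀ x y, dot x x = 1 → dot y y = 1 → dot x y ≠ 0 → y ≠ x → y ≠ -x → ¬ Commute (t x) (t y)

section

variable {G : Type*} [Group G] [Finite G] {D : Set G}
variable (hD : Cfsg.IsThreeTranspositionGroup D) (hP : Cfsg.IsPrimitiveUnderConj D)
variable (h : Cfsg.IsOfTypeM22 G D)
include hD hP h

/-- A product of two or three commuting common partners has a conjugate under the group of common
partners with which it has a product of order five. -/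
theorem bad_product {a b : G} (ha : a ∈ D) (hb : b ∈ D) (hnc : ¬ Commute a b) {m : ℕ} {l : List G}
    {x : G} (hl : Fac D m x l) (hm : 2 ≤ m) (hm' : m ≤ 3) (hmem : ∀ u ∈ l, u ∈ CN D a b) :
    ∃ k ∈ Subgroup.closure (CN D a b), ¬ (x * (k * x * k⁻¹)) ^ 2 = 1 ∧
      ¬ (x * (k * x * k⁻¹)) ^ 3 = 1 := by
  have hN := nice_m22 hD h
  have hPre := pre_of_group hD
  have nn : ∀ {g y : G}, g ∈ CN D a b → y ∈ CN D a b → y ≠ g → Commute g y →
      a ∈ nbrs D g ∧ b ∈ nbrs D g ∧ y ∈ nbrs D g := fun {g y} hg hy hne hc =>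
    ⟨⟨ha, fun e => hnc (e ▸ hg.2.2).symm, hg.2.1.symm⟩, ⟨hb, fun e => hnc (e ▸ hg.2.1), hg.2.2.symm⟩,
      hy.1, hne, hc⟩
  -- a member commuting with the two first factors, and the shape of `x`
  obtain ⟨p, r, g, hp, hr, hg, hpr, gp, gr, cpr, cgp, cgr, hx⟩ : ∃ p r g, p ∈ CN D a b ∧
      r ∈ CN D a b ∧ g ∈ CN D a b ∧ p ≠ r ∧ p ≠ g ∧ r ≠ g ∧ Commute p r ∧ Commute g p ∧ Commute g r ∧
      (x = p * r ∨ x = p * r * g) := by
    obtain ⟨h1, h2, h3, h4, h5⟩ := hl
    match l, h2 with
    | [p, r], _ =>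
      have hp := hmem p (by simp); have hr := hmem r (by simp)
      have hne : p ≠ r := by simp at h1; exact h1
      obtain ⟨na, nb, nr⟩ := nn hp hr hne.symm (h4 p (by simp) r (by simp))
      obtain ⟨q, hq, q1, q2, q3, q4⟩ := u6_mid (m22_isU6 hD h hp.1) (hN.group_Db hp.1) (bar_mem nr)
        (bar_mem na) (bar_mem nb) ((commute_bar hPre nr na).2 hr.2.1.symm)
        ((commute_bar hPre nr nb).2 hr.2.2.symm)
      obtain ⟨g, ng, rfl⟩ := exists_bar hq
      rw [commute_bar hPre] at q2 q3 q4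
      exact ⟨p, r, g, hp, hr, ⟨ng.1, q3.symm, q4.symm⟩, hne, Ne.symm ng.2.1,
        fun e => q1 (by subst e; rfl), h4 p (by simp) r (by simp), ng.2.2.symm, q2,
        Or.inl (by simpa using h5.symm)⟩
    | [p, r, g], _ =>
      simp only [List.nodup_cons, List.mem_cons, List.not_mem_nil, or_false, not_or] at h1
      exact ⟨p, r, g, hmem p (by simp), hmem r (by simp), hmem g (by simp), h1.1.1, h1.1.2, h1.2.1,
        h4 p (by simp) r (by simp), h4 g (by simp) p (by simp), h4 g (by simp) r (by simp),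
        Or.inr (by simpa [mul_assoc] using h5.symm)⟩
    | [], h2 => simp at h2; omega
    | [_], h2 => simp at h2; omega
    | _ :: _ :: _ :: _ :: _, h2 => simp at h2; omega
  obtain ⟨na, nb, np⟩ := nn hg hp gp cgp
  obtain ⟨-, -, nr⟩ := nn hg hr gr cgr
  obtain ⟨qb, hqb, sb, hsb, e1, e2, e3, e4, e5, e6, e7, e8, e9⟩ := u6_extend_pair
    (m22_isU6 hD h hg.1) (hN.group_Db hg.1) (bar_mem na) (bar_mem nb) (bar_mem np) (bar_mem nr)
    (fun e => hnc ((commute_bar hPre na nb).1 e)) ((commute_bar hPre na np).2 hp.2.1)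
    ((commute_bar hPre nb np).2 hp.2.2) ((commute_bar hPre na nr).2 hr.2.1)
    ((commute_bar hPre nb nr).2 hr.2.2) ((commute_bar hPre np nr).2 cpr)
    (fun e => hpr (hN.bar_inj hg.1 np nr e))
  obtain ⟨q, nq, rfl⟩ := exists_bar hqb
  obtain ⟨s, ns, rfl⟩ := exists_bar hsb
  rw [commute_bar hPre] at e1 e2 e3 e4 e5 e6 e7 e8 e9
  have hq : q ∈ CN D a b := ⟨nq.1, e1, e2⟩
  have hs : s ∈ CN D a b := ⟨ns.1, e3, e4⟩
  have sq : ∀ {y}, y ∈ CN D a b → y * y = 1 := fun hy => Trans3.sq_one hD.1 hy.1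
  have bpq := braid hD.1 hp.1 nq.1 e5
  have bqr := braid hD.1 nq.1 hr.1 e6
  have brs := braid hD.1 hr.1 ns.1 e7
  refine ⟨p * q * r * s, mul_mem (mul_mem (mul_mem (Subgroup.subset_closure hp)
    (Subgroup.subset_closure hq)) (Subgroup.subset_closure hr)) (Subgroup.subset_closure hs), ?_⟩
  have hinv : (p * q * r * s)⁻¹ = s * r * q * p := by
    simp only [mul_inv_rev, inv_eq hD.1 hp.1, inv_eq hD.1 hq.1, inv_eq hD.1 hr.1, inv_eq hD.1 hs.1,
      mul_assoc]
  have kp : p * q * r * s * p * (p * q * r * s)⁻¹ = q := by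
    rw [hinv]
    calc p * q * r * s * p * (s * r * q * p) = p * q * r * (s * p) * s * r * q * p := by group
      _ = p * q * r * (p * s) * s * r * q * p := by rw [e8.eq]
      _ = p * q * (r * p) * (s * s) * r * q * p := by group
      _ = p * q * (p * r) * r * q * p := by rw [sq hs, mul_one, cpr.eq]
      _ = p * q * p * (r * r) * q * p := by group
      _ = q * p * (q * q) * p := by rw [sq hr, mul_one, bpq]; group
      _ = q := by rw [sq hq, mul_one, mul_assoc, sq hp, mul_one]
  have kr : p * q * r * s * r * (p * q * r * s)⁻¹ = s := by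
    rw [hinv]
    calc p * q * r * s * r * (s * r * q * p) = p * q * (r * s * r) * s * r * q * p := by group
      _ = p * q * s * r * (s * s) * r * q * p := by rw [brs]; group
      _ = p * q * s * (r * r) * q * p := by rw [sq hs, mul_one]; group
      _ = p * (q * s) * q * p := by rw [sq hr, mul_one]; group
      _ = p * s * (q * q) * p := by rw [e9.eq]; group
      _ = p * s * p := by rw [sq hq, mul_one]
      _ = s := by rw [e8.eq, mul_assoc, sq hp, mul_one]
  have kg : p * q * r * s * g * (p * q * r * s)⁻¹ = g :=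
    conj_eq_of_commute (((cgp.symm.mul_left nq.2.2.symm).mul_left cgr.symm).mul_left ns.2.2.symm)
  have hw : x * (p * q * r * s * x * (p * q * r * s)⁻¹) = p * r * q * s := by
    rcases hx with rfl | rfl
    · rw [show p * q * r * s * (p * r) * (p * q * r * s)⁻¹ = (p * q * r * s * p * (p * q * r * s)⁻¹) *
        (p * q * r * s * r * (p * q * r * s)⁻¹) by group, kp, kr]
      group
    · rw [show p * q * r * s * (p * r * g) * (p * q * r * s)⁻¹ = (p * q * r * s * p * (p * q * r * s)⁻¹) *
        (p * q * r * s * r * (p * q * r * s)⁻¹) * (p * q * r * s * g * (p * q * r * s)⁻¹) by group,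
        kp, kr, kg]
      calc p * r * g * (q * s * g) = p * r * (g * (q * s)) * g := by group
        _ = p * r * ((q * s) * g) * g := by rw [(nq.2.2.mul_right ns.2.2).eq]
        _ = p * r * q * s * (g * g) := by group
        _ = p * r * q * s := by rw [sq hg, mul_one]
  rw [hw]
  have h5 : (p * r * q * s) ^ 5 = 1 := by
    let σ : ℕ → G := fun y => [s, r, q, p].getD y 1
    have σsq : ∀ y, σ y * σ y = 1 := by
      intro y
      match y with
      | 0 => exact sq hs
      | 1 => exact sq hr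
      | 2 => exact sq hq
      | 3 => exact sq hp
      | n + 4 => exact mul_one 1
    let lab4 : ℕ → ℕ → ℕ := fun u v => if u < 4 ∧ v < 4 then lab11 u v else 0
    have hm := moves_sound (lab := lab4) σsq (fun u v huv => ?_) (fun u v huv => ?_)
      Data.mvFive (rpt 5 [3, 1, 2, 0]) [] (by decide +kernel)
    · rw [wprod_rpt] at hm
      simpa [wprod, σ, mul_assoc] using hm
    · obtain ⟨hu, hv⟩ : u < 4 ∧ v < 4 := by
        by_contra e; simp only [lab4, if_neg e] at huv; omega
      simp only [lab4, if_pos (And.intro hu hv)] at huv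
      interval_cases u <;> interval_cases v <;> first
        | exact absurd huv (by decide)
        | exact cpr.eq | exact cpr.symm.eq | exact e8.eq | exact e8.symm.eq
        | exact e9.eq | exact e9.symm.eq
    · obtain ⟨hu, hv⟩ : u < 4 ∧ v < 4 := by
        by_contra e; simp only [lab4, if_neg e] at huv; omega
      simp only [lab4, if_pos (And.intro hu hv)] at huv
      interval_cases u <;> interval_cases v <;> first
        | exact absurd huv (by decide)
        | exact bpq | exact bpq.symm | exact bqr | exact bqr.symm | exact brs | exact brs.symm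
  have hne : p * r * q * s ≠ 1 := by
    intro e
    have e' : p * r = s * q := by
      have := eq_inv_of_mul_eq_one_left (show p * r * (q * s) = 1 by rw [← mul_assoc]; exact e)
      rwa [mul_inv_rev, inv_eq hD.1 hq.1, inv_eq hD.1 hs.1] at this
    refine e5 ?_
    have h1 : Commute p (s * q) := e' ▸ (Commute.refl p).mul_right cpr
    simpa using (e8.inv_right).mul_right h1
  constructor <;> intro e <;> refine hne ?_
  · calc p * r * q * s = (p * r * q * s) ^ 5 * ((p * r * q * s) ^ 2)⁻¹ * ((p * r * q * s) ^ 2)⁻¹ := by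
          group
      _ = 1 := by rw [h5, e]; group
  · calc p * r * q * s = ((p * r * q * s) ^ 3) ^ 2 * ((p * r * q * s) ^ 5)⁻¹ := by group
      _ = 1 := by rw [h5, e]; group

/-- The coordinates of the common partners. -/
theorem exists_frame {a b : G} (ha : a ∈ D) (hb : b ∈ D) (hnc : ¬ Commute a b) :
    Nonempty (Frame D a b) := by
  classical
  obtain ⟨c, hc, Q, hQ, hdisc, ⟨e⟩⟩ := m22_pair_refl hD hP h ha hb hnc
  obtain ⟨β, hβ, hob, hspan⟩ := ReflSix.exists_basis Q hQ hc hdisc
  obtain ⟨vec, hvec⟩ : ∃ vec : (Fin 6 → ZMod 3) → (Fin 6 → ZMod 3),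
      vec = fun x => ∑ i, x i • β i := ⟨_, rfl⟩
  have hpol : ∀ x y, polar Q (vec x) (vec y) = 2 * c * dot x y := by
    intro x y
    have ho : ∀ i j, polar Q (β i) (β j) = if i = j then 2 * c else 0 := fun i j => by
      by_cases hij : i = j
      · subst hij; rw [if_pos rfl, polar_self_two, hβ]
      · rw [if_neg hij, hob i j hij]
    rw [hvec]
    simp only [Fin.sum_univ_six, QuadraticMap.polar_add_left, QuadraticMap.polar_add_right,
      QuadraticMap.polar_smul_left, QuadraticMap.polar_smul_right, smul_eq_mul, ho, dot,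
      show ∀ i : Fin 6, (if i = i then 2 * c else 0) = 2 * c from fun i => if_pos rfl]
    simp (config := { decide := true }) only [if_true, if_false, mul_zero, add_zero, zero_add]
    ring
  have hval : ∀ x, Q (vec x) = c * dot x x := by
    intro x
    have h1 := hpol x x
    rw [polar_self_two, mul_assoc] at h1
    exact mul_left_cancel₀ two_ne h1
  have hinj : ∀ x y, vec x = vec y → x = y := by
    have hli : LinearIndependent (ZMod 3) β :=
      ReflSix.li_of_orth Q β (fun i => by rw [hβ]; exact hc) hob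
    intro x y hxy
    rw [hvec] at hxy
    funext i
    exact congrFun (Fintype.linearIndependent_iffₛ.1 hli x y hxy |> funext) i
  have hR : ∀ v, Q v = c → ∃ r : ↥(Cfsg.reflectionSubgroup (⇑Q) c), IsRefl Q r.1 v := fun v hv =>
    (exists_mem_class v hv hc).imp fun r hr => hr.2
  choose R hR using hR
  have hv1 : ∀ {x}, dot x x = 1 → Q (vec x) = c := fun {x} hx => by rw [hval, hx, mul_one]
  let t : (Fin 6 → ZMod 3) → G := fun x => if hx : dot x x = 1 then
    ((e.symm (QuotientGroup.mk (R (vec x) (hv1 hx))) : ↥(Subgroup.closure (CN D a b))) : G) else 1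
  have ht : ∀ {x} (hx : dot x x = 1), t x =
      ((e.symm (QuotientGroup.mk (R (vec x) (hv1 hx))) : ↥(Subgroup.closure (CN D a b))) : G) :=
    fun hx => dif_pos hx
  -- relations among reflections and their images
  have hsq : ∀ {v} (hv : Q v = c), R v hv * R v hv = 1 := fun {v} hv =>
    Subtype.ext ((hR v hv).sq_ne Q (by rw [hv]; exact hc)).1
  have hbr : ∀ {v w} (hv : Q v = c) (hw : Q w = c), polar Q v w ≠ 0 →
      R v hv * R w hw * R v hv = R w hw * R v hv * R w hw := fun {v w} hv hw hp =>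
    Subtype.ext ((comm_or_braid Q (hR v hv) (hR w hw) (by rw [hv]; exact hc) (by rw [hw, hv])).2 hp)
  have hcm : ∀ {v w} (hv : Q v = c) (hw : Q w = c), polar Q v w = 0 →
      Commute (R v hv) (R w hw) := fun {v w} hv hw hp =>
    commute_of_orth (hR v hv) (hR w hw) hv hw hc hp
  have hmk : ∀ {v w} (hv : Q v = c) (hw : Q w = c), polar Q v w ≠ 0 → R v hv ≠ R w hw →
      ¬ Commute (QuotientGroup.mk (s := Subgroup.center ↥(Cfsg.reflectionSubgroup (⇑Q) c)) (R v hv))
        (QuotientGroup.mk (R w hw)) := by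
    intro v w hv hw hp hne hc'
    have b := hbr hv hw hp
    have b' : (QuotientGroup.mk (s := Subgroup.center ↥(Cfsg.reflectionSubgroup (⇑Q) c)) (R v hv)) =
        QuotientGroup.mk (R w hw) := by
      have h1 : ∀ {M : Type} [Group M] (r s : M), r * r = 1 → s * s = 1 → r * s * r = s * r * s →
          r * s = s * r → r = s := by
        intro M _ r s hr hs hb hcc
        calc r = r * (s * s) := by rw [hs, mul_one]
          _ = s * r * s := by rw [← mul_assoc, hcc]
          _ = r * s * r := hb.symm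
          _ = r * r * s := by rw [mul_assoc, ← hcc, ← mul_assoc]
          _ = s := by rw [hr, one_mul]
      refine h1 _ _ ?_ ?_ ?_ hc'.eq
      · rw [← QuotientGroup.mk_mul, hsq hv]; rfl
      · rw [← QuotientGroup.mk_mul, hsq hw]; rfl
      · simp only [← QuotientGroup.mk_mul, b]
    obtain ⟨z, hz⟩ : ∃ z, z = (R v hv)⁻¹ * R w hw := ⟨_, rfl⟩
    have hzc : z ∈ Subgroup.center ↥(Cfsg.reflectionSubgroup (⇑Q) c) := hz ▸ QuotientGroup.eq.1 b'
    refine not_commute_of_polar (hR v hv) (hR w hw) hv hw hc hp hne ?_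
    have ew : R w hw = R v hv * z := by rw [hz, mul_inv_cancel_left]
    rw [ew]
    exact (Commute.refl _).mul_right (Subgroup.mem_center_iff.1 hzc (R v hv))
  have himg : ∀ {x y} (hx : dot x x = 1) (hy : dot y y = 1),
      Commute (t x) (t y) ↔ Commute (QuotientGroup.mk (s := Subgroup.center
        ↥(Cfsg.reflectionSubgroup (⇑Q) c)) (R _ (hv1 hx))) (QuotientGroup.mk (R _ (hv1 hy))) := by
    intro x y hx hy
    rw [ht hx, ht hy]
    constructor
    · intro h'
      exact e.symm.injective (by rw [map_mul, map_mul]; exact Subtype.ext h'.eq)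
    · intro h'
      exact congrArg Subtype.val (h'.map e.symm).eq
  have horth : ∀ x y, dot x x = 1 → dot y y = 1 → dot x y = 0 → Commute (t x) (t y) := by
    intro x y hx hy hxy
    rw [himg hx hy]
    exact (hcm _ _ (by rw [hpol, hxy, mul_zero])).map
      (QuotientGroup.mk' (Subgroup.center ↥(Cfsg.reflectionSubgroup (⇑Q) c)))
  have hnon : ∀ x y, dot x x = 1 → dot y y = 1 → dot x y ≠ 0 → t x ≠ t y →
      ¬ Commute (t x) (t y) := by
    intro x y hx hy hxy hne
    rw [himg hx hy]
    refine hmk _ _ (by rw [hpol]; exact mul_ne_zero (mul_ne_zero two_ne hc) hxy) fun e' => hne ?_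
    rw [ht hx, ht hy, e']
  have hinj' : ∀ x y, dot x x = 1 → dot y y = 1 → dot x y ≠ 0 → y ≠ x → y ≠ -x →
      ¬ Commute (t x) (t y) := by
    intro x y hx hy hxy h1 h2
    rw [himg hx hy]
    refine hmk _ _ (by rw [hpol]; exact mul_ne_zero (mul_ne_zero two_ne hc) hxy) fun e' => ?_
    have hy' := hR _ (hv1 hy)
    rw [← e'] at hy'
    obtain ⟨σ, hσ⟩ := IsRefl.parallel Q (hR _ (hv1 hx)) hy' (by rw [hv1 hy]; exact hc)
    have hsm : σ • vec x = vec (σ • x) := by
      rw [hvec]
      simp only [Finset.smul_sum, smul_smul, Pi.smul_apply, smul_eq_mul]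
    have hs := hinj _ _ (hσ.trans hsm)
    rcases z3 σ with rfl | rfl | rfl
    · rw [zero_smul] at hs; subst hs; simp [dot] at hy
    · exact h1 (by rw [hs, one_smul])
    · exact h2 (by rw [hs]; simp)
  have htne : ∀ {x}, dot x x = 1 → t x ≠ 1 := by
    intro x hx h1
    obtain ⟨y, -, hy, hxy, hyx, hyx'⟩ := exists_partner x hx
    exact hinj' x y hx hy hxy hyx hyx' (by rw [h1]; exact Commute.one_left _)
  have hcl : ∀ k ∈ Subgroup.closure (CN D a b), ∀ x, dot x x = 1 →
      ∃ y, dot y y = 1 ∧ t y = k * t x * k⁻¹ := by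
    intro k hk x hx
    obtain ⟨g, hg⟩ := QuotientGroup.mk_surjective (e ⟨k, hk⟩)
    obtain ⟨y, hy⟩ : ∃ y, vec y = act Q g.1 (vec x) := by
      have hm : act Q g.1 (vec x) ∈ Submodule.span (ZMod 3) (Set.range β) :=
        hspan ▸ Submodule.mem_top
      obtain ⟨y, hy⟩ := Submodule.mem_span_range_iff_exists_fun (ZMod 3) |>.1 hm
      exact ⟨y, by simp only [hvec] at hy ⊢; exact hy⟩
    have hy1 : dot y y = 1 := by
      have h1 := hval y
      rw [hy, map_act, hv1 hx] at h1
      exact (mul_left_cancel₀ hc (h1.symm.trans (mul_one c).symm))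
    refine ⟨y, hy1, ?_⟩
    have hr : R _ (hv1 hy1) = g * R _ (hv1 hx) * g⁻¹ := by
      refine Subtype.ext (IsRefl.eq Q (v := vec y) (hR _ _) ?_)
      rw [hy]
      exact (hR _ (hv1 hx)).conj Q g.1
    rw [ht hy1, ht hx, hr, QuotientGroup.mk_mul, QuotientGroup.mk_mul, QuotientGroup.mk_inv, hg,
      map_mul, map_mul, map_inv, MulEquiv.symm_apply_apply]
    rfl
  have hLc : ∀ k ∈ Subgroup.closure (CN D a b), Commute a k ∧ Commute b k := by
    intro k hk
    induction hk using Subgroup.closure_induction with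
    | mem u hu => exact ⟨hu.2.1, hu.2.2⟩
    | one => exact ⟨Commute.one_right _, Commute.one_right _⟩
    | mul _ _ _ _ h1 h2 => exact ⟨h1.1.mul_right h2.1, h1.2.mul_right h2.2⟩
    | inv _ _ h1 => exact ⟨h1.1.inv_right, h1.2.inv_right⟩
  have htL : ∀ {x}, dot x x = 1 → t x ∈ Subgroup.closure (CN D a b) := fun hx => by
    rw [ht hx]; exact SetLike.coe_mem _
  have hmem : ∀ x, dot x x = 1 → t x ∈ CN D a b := by
    intro x hx
    have h2 : t x * t x = 1 := by
      rw [ht hx, ← Subgroup.coe_mul, ← map_mul, ← QuotientGroup.mk_mul, hsq (hv1 hx),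
        QuotientGroup.mk_one, map_one, Subgroup.coe_one]
    obtain ⟨m, l, hm1, hm3, hl⟩ := m22_invol hD hP h (htne hx) h2
    have hc1 := hLc _ (htL hx)
    have hlm : ∀ u ∈ l, u ∈ CN D a b := fun u hu =>
      ⟨hl.2.2.1 u hu, commute_of_prod hD hm3 hl ha hc1.1 u hu,
        commute_of_prod hD hm3 hl hb hc1.2 u hu⟩
    rcases Nat.lt_or_ge m 2 with hm | hm
    · obtain rfl : m = 1 := by omega
      obtain ⟨u, rfl⟩ := List.length_eq_one_iff.1 hl.2.1
      have e1 := hl.2.2.2.2
      simp only [List.prod_cons, List.prod_nil, mul_one] at e1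
      exact e1 ▸ hlm u (by simp)
    exfalso
    obtain ⟨k, hk, n2, n3⟩ := bad_product hD hP h ha hb hnc hl hm hm3 hlm
    obtain ⟨y, hy, ey⟩ := hcl k hk x hx
    rw [← ey] at n2 n3
    have h2y : t y * t y = 1 := by
      rw [ey, show k * t x * k⁻¹ * (k * t x * k⁻¹) = k * (t x * t x) * k⁻¹ by group, h2]; group
    by_cases hp : dot x y = 0
    · exact n2 (by rw [(horth x y hx hy hp).mul_pow, pow_two, pow_two, h2, h2y, one_mul])
    · refine n3 ?_
      have b := hbr (hv1 hx) (hv1 hy) (by rw [hpol]; exact mul_ne_zero (mul_ne_zero two_ne hc) hp)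
      have b' : t x * t y * t x = t y * t x * t y := by
        rw [ht hx, ht hy]
        simp only [← Subgroup.coe_mul, ← map_mul, ← QuotientGroup.mk_mul, b]
      exact braid_cube h2 h2y b'
  refine ⟨⟨t, hmem, fun y hy => ?_, horth, hnon, hinj'⟩⟩
  obtain ⟨x₀, hx₀⟩ : ∃ x : Fin 6 → ZMod 3, dot x x = 1 := ⟨![1, 0, 0, 0, 0, 0], by decide⟩
  have hm₀ := hmem x₀ hx₀
  obtain ⟨k, -, -, hk, hkC⟩ := trans_common hD hP h ha hb hnc hm₀.1 hm₀.2.1 hm₀.2.2 hy.1 hy.2.1
    hy.2.2
  obtain ⟨x, hx, ex⟩ := hcl k hkC x₀ hx₀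
  exact ⟨x, hx, ex.trans hk⟩

end

end CfsgLib.Trans3.FiConf
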