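import Cfsg.Agent.Lib.Trans3.FiConf.U6Extend
import Cfsg.Agent.Lib.Trans3.FiConf.Dots
import Cfsg.Agent.Lib.Trans3.FiConf.Common

/-!
In a group of type M(22) a configuration of shape `Y₃₂₂` extends to one of shape `Y₃₃₂` at one of
its two short arms.
-/

set_option autoImplicit false
set_option linter.unusedSectionVars false
set_option maxRecDepth 100000

namespace CfsgLib.Trans3.FiConf

open CfsgLib.Trans3.Fi CfsgLib.Trans3.Spider

/-- The nodes of `Y₃₂₂`. -/
def nodes8 : List ℕ := [0, 1, 2, 3, 5, 6, 7, 8]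

variable {G : Type*} [Group G] [Finite G] {D : Set G}
variable (hD : Cfsg.IsThreeTranspositionGroup D) (hP : Cfsg.IsPrimitiveUnderConj D)
variable (h : Cfsg.IsOfTypeM22 G D)
include hD hP h

theorem extend22 (y : ℕ → G) (hy : ∀ x ∈ nodes8, y x ∈ D)
    (hc2 : ∀ x ∈ nodes8, ∀ z ∈ nodes8, lab11 x z = 2 → Commute (y x) (y z))
    (hc3 : ∀ x ∈ nodes8, ∀ z ∈ nodes8, lab11 x z = 3 → ¬ Commute (y x) (y z)) :
    (∃ g ∈ D, ¬ Commute g (y 6) ∧ ∀ x ∈ nodes8, x ≠ 6 → Commute g (y x)) ∨
      ∃ g ∈ D, ¬ Commute g (y 8) ∧ ∀ x ∈ nodes8, x ≠ 8 → Commute g (y x) := by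
  have hN := nice_m22 hD h
  have hPre := pre_of_group hD
  have ha := hy 3 (by decide)
  have hb := hy 2 (by decide)
  have hab := hc3 3 (by decide) 2 (by decide) (by decide)
  obtain ⟨F⟩ := exists_frame hD hP h ha hb hab
  have hin : ∀ x ∈ [0, 5, 6, 7, 8], ∃ v, dot v v = 1 ∧ F.t v = y x := by
    intro x hx
    obtain ⟨m, e3, e2⟩ := (by decide : ∀ x ∈ [0, 5, 6, 7, 8],
      x ∈ nodes8 ∧ lab11 3 x = 2 ∧ lab11 2 x = 2) x hx
    exact F.surj _ ⟨hy x m, hc2 3 (by decide) x m e3, hc2 2 (by decide) x m e2⟩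
  obtain ⟨vf, ff, ef⟩ := hin 6 (by decide)
  obtain ⟨ve, ee, ee'⟩ := hin 5 (by decide)
  obtain ⟨vd, dd, ed'⟩ := hin 0 (by decide)
  obtain ⟨vh, hh', eh'⟩ := hin 7 (by decide)
  obtain ⟨vi, ii, ei'⟩ := hin 8 (by decide)
  have dn : ∀ {p q : Fin 6 → ZMod 3} {x z : ℕ}, dot p p = 1 → dot q q = 1 → F.t p = y x →
      F.t q = y z → x ∈ nodes8 → z ∈ nodes8 → lab11 x z = 3 → dot p q ≠ 0 :=
    fun {p q x z} hp hq ep eq hx hz hl e => hc3 x hx z hz hl (ep ▸ eq ▸ F.orth p q hp hq e)
  have dz : ∀ {p q : Fin 6 → ZMod 3} {x z w : ℕ}, dot p p = 1 → dot q q = 1 → F.t p = y x →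
      F.t q = y z → x ∈ nodes8 → z ∈ nodes8 → w ∈ nodes8 → lab11 x z = 2 → lab11 x w = 3 →
      lab11 z w = 2 → dot p q = 0 := by
    intro p q x z w hp hq ep eq hx hz hw hl h3 h2
    by_contra e
    refine F.noncomm p q hp hq e (fun he => ?_) (ep ▸ eq ▸ hc2 x hx z hz hl)
    rw [ep, eq] at he
    exact hc3 x hx w hw h3 (he ▸ hc2 z hz w hw h2)
  let P : Dots.Path :=
    { f := vf, e := ve, d := vd, h := vh, i := vi, ff := ff, ee := ee, dd := dd, hh := hh', ii := ii
      fe := dn ff ee ef ee' (by decide) (by decide) (by decide)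
      ed := dn ee dd ee' ed' (by decide) (by decide) (by decide)
      dh := dn dd hh' ed' eh' (by decide) (by decide) (by decide)
      hi := dn hh' ii eh' ei' (by decide) (by decide) (by decide)
      fd := (Dots.dot_comm _ _).trans (dz (w := 7) dd ff ed' ef (by decide) (by decide) (by decide) (by decide) (by decide) (by decide))
      fh := dz (w := 5) ff hh' ef eh' (by decide) (by decide) (by decide) (by decide) (by decide) (by decide)
      fi := dz (w := 5) ff ii ef ei' (by decide) (by decide) (by decide) (by decide) (by decide) (by decide)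
      eh := dz (w := 6) ee hh' ee' eh' (by decide) (by decide) (by decide) (by decide) (by decide) (by decide)
      ei := dz (w := 6) ee ii ee' ei' (by decide) (by decide) (by decide) (by decide) (by decide) (by decide)
      di := dz (w := 5) dd ii ed' ei' (by decide) (by decide) (by decide) (by decide) (by decide) (by decide) }
  -- the images among the neighbours of `a`
  have nb : ∀ {v}, dot v v = 1 → F.t v ∈ nbrs D (y 3) := fun {v} hv =>
    ⟨(F.mem v hv).1, fun e => hab ((e ▸ (F.mem v hv).2.2).symm), (F.mem v hv).2.1⟩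
  have ny : ∀ {x}, x ∈ [0, 1, 5, 6, 7, 8] → y x ∈ nbrs D (y 3) := by
    intro x hx
    obtain ⟨m, e3, w, hw, e1, e2⟩ := (by decide : ∀ x ∈ [0, 1, 5, 6, 7, 8],
      x ∈ nodes8 ∧ lab11 3 x = 2 ∧ ∃ w ∈ nodes8, lab11 3 w = 2 ∧ lab11 x w = 3) x hx
    exact ⟨hy x m, fun e => hc3 x m w hw e2 (e ▸ hc2 3 (by decide) w hw e1),
      hc2 3 (by decide) x m e3⟩
  have hU := m22_isU6 hD h ha
  have hG := hN.group_Db ha
  have cb : ∀ {p q : G} (hp : p ∈ nbrs D (y 3)) (hq : q ∈ nbrs D (y 3)),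
      Commute (bar hp) (bar hq) ↔ Commute p q := fun hp hq => commute_bar hPre hp hq
  have n0 := ny (x := 0) (by decide)
  have n1 := ny (x := 1) (by decide)
  have n5 := ny (x := 5) (by decide)
  have n6 := ny (x := 6) (by decide)
  have n7 := ny (x := 7) (by decide)
  have n8 := ny (x := 8) (by decide)
  have c3 := fun {x z : ℕ} (hx : x ∈ nodes8) (hz : z ∈ nodes8) (hl : lab11 x z = 3)
    (px : y x ∈ nbrs D (y 3)) (pz : y z ∈ nbrs D (y 3)) =>
      fun e => hc3 x hx z hz hl ((cb px pz).1 e)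
  have c2 := fun {x z : ℕ} (hx : x ∈ nodes8) (hz : z ∈ nodes8) (hl : lab11 x z = 2)
    (px : y x ∈ nbrs D (y 3)) (pz : y z ∈ nbrs D (y 3)) => (cb px pz).2 (hc2 x hx z hz hl)
  have te := c3 (x := 6) (z := 5) (by decide) (by decide) (by decide) n6 n5
  have ed := c3 (x := 5) (z := 0) (by decide) (by decide) (by decide) n5 n0
  have dh := c3 (x := 0) (z := 7) (by decide) (by decide) (by decide) n0 n7
  have hi := c3 (x := 7) (z := 8) (by decide) (by decide) (by decide) n7 n8
  have td := c2 (x := 6) (z := 0) (by decide) (by decide) (by decide) n6 n0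
  have th := c2 (x := 6) (z := 7) (by decide) (by decide) (by decide) n6 n7
  have ti := c2 (x := 6) (z := 8) (by decide) (by decide) (by decide) n6 n8
  have eh := c2 (x := 5) (z := 7) (by decide) (by decide) (by decide) n5 n7
  have ei := c2 (x := 5) (z := 8) (by decide) (by decide) (by decide) n5 n8
  have di := c2 (x := 0) (z := 8) (by decide) (by decide) (by decide) n0 n8
  have ue := c2 (x := 1) (z := 5) (by decide) (by decide) (by decide) n1 n5
  have ut := c2 (x := 1) (z := 6) (by decide) (by decide) (by decide) n1 n6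
  have uh := c2 (x := 1) (z := 7) (by decide) (by decide) (by decide) n1 n7
  have ui := c2 (x := 1) (z := 8) (by decide) (by decide) (by decide) n1 n8
  have und := c3 (x := 1) (z := 0) (by decide) (by decide) (by decide) n1 n0
  have hor : ∀ {v w : Fin 6 → ZMod 3} {x : ℕ}, dot v v = 1 → dot w w = 1 → F.t w = y x →
      dot v w = 0 → Commute (F.t v) (y x) := fun hv hw e hd => e ▸ F.orth _ _ hv hw hd
  have hno : ∀ {v w z : Fin 6 → ZMod 3} {x k : ℕ}, dot v v = 1 → dot w w = 1 → F.t w = y x →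
      dot v w ≠ 0 → dot z z = 1 → F.t z = y k → dot v z = 0 → x ∈ nodes8 → k ∈ nodes8 →
      lab11 x k = 3 → ¬ Commute (F.t v) (y x) := by
    intro v w z x k hv hw e hd hz ez hvz hx hk hl hc'
    refine F.noncomm v w hv hw hd (fun he => ?_) (e ▸ hc')
    exact hc3 x hx k hk hl (by rw [← e, ← he]; exact hor hv hz ez hvz)
  by_cases hR : P.rad = 0
  · exfalso
    obtain ⟨p, q, pp, qq, pq, qp, qp', pd, qd, hperp⟩ := P.degenerate hR
    obtain ⟨pf, qf⟩ := hperp P.f (by simp)
    obtain ⟨pe, qe⟩ := hperp P.e (by simp)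
    obtain ⟨ph, qh⟩ := hperp P.h (by simp)
    obtain ⟨pi, qi⟩ := hperp P.i (by simp)
    have hpq : ¬ Commute (F.t p) (F.t q) := F.inj p q pp qq pq qp qp'
    have hpd := hno pp dd ed' pd ee ee' pe (by decide) (by decide) (by decide)
    have hqd := hno qq dd ed' qd ee ee' qe (by decide) (by decide) (by decide)
    refine u6_three_outer hU hG (bar_mem n0) (bar_mem n5) (bar_mem n6) (bar_mem n7) (bar_mem n8)
      (bar_mem n1) (bar_mem (nb pp)) (bar_mem (nb qq)) te ed dh hi td th ti eh ei di ue ut uh ui und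
      ((cb (nb pp) n5).2 (hor pp ee ee' pe)) ((cb (nb pp) n6).2 (hor pp ff ef pf))
      ((cb (nb pp) n7).2 (hor pp hh' eh' ph)) ((cb (nb pp) n8).2 (hor pp ii ei' pi))
      (fun e => hpd ((cb (nb pp) n0).1 e))
      ((cb (nb qq) n5).2 (hor qq ee ee' qe)) ((cb (nb qq) n6).2 (hor qq ff ef qf))
      ((cb (nb qq) n7).2 (hor qq hh' eh' qh)) ((cb (nb qq) n8).2 (hor qq ii ei' qi))
      (fun e => hqd ((cb (nb qq) n0).1 e)) ?_ ?_ ?_
    · intro e
      have e' := hN.bar_inj ha n1 (nb pp) e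
      exact hc3 1 (by decide) 2 (by decide) (by decide) (e' ▸ (F.mem p pp).2.2.symm)
    · intro e
      have e' := hN.bar_inj ha n1 (nb qq) e
      exact hc3 1 (by decide) 2 (by decide) (by decide) (e' ▸ (F.mem q qq).2.2.symm)
    · intro e
      have e' := hN.bar_inj ha (nb pp) (nb qq) e
      exact hpq (e' ▸ Commute.refl _)
  obtain ⟨u, uu, uf, u5, u0, u7, u8⟩ := P.extend hR
  have hR' : P.rev.rad ≠ 0 := by
    intro e
    refine hR ?_
    have h1 := Dots.unit_cases _ P.fe
    have h2 := Dots.unit_cases _ P.ed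
    have h3 := Dots.unit_cases _ P.dh
    have h4 := Dots.unit_cases _ P.hi
    have e' : P.rad = (-(Dots.dot P.f P.e * Dots.dot P.e P.d * Dots.dot P.d P.h * Dots.dot P.h P.i)) •
        P.rev.rad := by
      simp only [Dots.Path.rad, Dots.Path.rev, Dots.dot_comm P.i P.h, Dots.dot_comm P.h P.d,
        Dots.dot_comm P.d P.e, Dots.dot_comm P.e P.f, smul_add, smul_smul]
      match_scalars
      all_goals first
        | ring1
        | linear_combination (Dots.dot P.f P.e * Dots.dot P.e P.d * Dots.dot P.d P.h) * h4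
        | linear_combination -(Dots.dot P.f P.e * Dots.dot P.e P.d * Dots.dot P.d P.h) * h4
        | linear_combination (Dots.dot P.f P.e * (Dots.dot P.e P.d * Dots.dot P.e P.d) *
            (Dots.dot P.d P.h * Dots.dot P.d P.h)) * h4 + (Dots.dot P.f P.e *
            (Dots.dot P.e P.d * Dots.dot P.e P.d)) * h3 + Dots.dot P.f P.e * h2
        | linear_combination -(Dots.dot P.f P.e * (Dots.dot P.e P.d * Dots.dot P.e P.d) *
            (Dots.dot P.d P.h * Dots.dot P.d P.h)) * h4 - (Dots.dot P.f P.e *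
            (Dots.dot P.e P.d * Dots.dot P.e P.d)) * h3 - Dots.dot P.f P.e * h2
        | linear_combination ((Dots.dot P.e P.d * Dots.dot P.e P.d) *
            (Dots.dot P.d P.h * Dots.dot P.d P.h) * (Dots.dot P.h P.i * Dots.dot P.h P.i)) * h1 +
            ((Dots.dot P.d P.h * Dots.dot P.d P.h) * (Dots.dot P.h P.i * Dots.dot P.h P.i)) * h2 +
            (Dots.dot P.h P.i * Dots.dot P.h P.i) * h3 + h4
        | linear_combination -((Dots.dot P.e P.d * Dots.dot P.e P.d) *
            (Dots.dot P.d P.h * Dots.dot P.d P.h) * (Dots.dot P.h P.i * Dots.dot P.h P.i)) * h1 -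
            ((Dots.dot P.d P.h * Dots.dot P.d P.h) * (Dots.dot P.h P.i * Dots.dot P.h P.i)) * h2 -
            (Dots.dot P.h P.i * Dots.dot P.h P.i) * h3 - h4
    rw [e', e, smul_zero]
  obtain ⟨v, vv, vi', v7, v0, v5, v6⟩ := P.rev.extend hR'
  have uv : dot u v ≠ 0 := P.ends_meet uu uf u5 u0 u7 u8 vv
    (fun e => one_ne_zero (vi'.symm.trans e)) v6 v5 v0 v7
  have g6 : ¬ Commute (F.t u) (y 6) := hno uu ff ef (fun e => one_ne_zero (uf.symm.trans e)) ee ee' u5
    (by decide) (by decide) (by decide)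
  have k8 : ¬ Commute (F.t v) (y 8) := hno vv ii ei' (fun e => one_ne_zero (vi'.symm.trans e)) hh' eh'
    v7 (by decide) (by decide) (by decide)
  have uv' : ¬ Commute (F.t u) (F.t v) := by
    refine F.noncomm u v uu vv uv fun e => ?_
    exact k8 (e ▸ hor uu ii ei' u8)
  have key : ∀ {x : ℕ}, x ∈ nodes8 → x = 0 ∨ x = 1 ∨ x = 2 ∨ x = 3 ∨ x = 5 ∨ x = 6 ∨ x = 7 ∨ x = 8 := by
    intro x hx; simpa [nodes8] using hx
  rcases u6_end_choice hU hG (bar_mem (nb uu)) (bar_mem (nb vv)) (bar_mem n0) (bar_mem n5)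
      (bar_mem n6) (bar_mem n7) (bar_mem n8) (bar_mem n1) (fun e => g6 ((cb (nb uu) n6).1 e)) te ed dh hi
      td th ti eh ei di ((cb (nb uu) n5).2 (hor uu ee ee' u5)) ((cb (nb uu) n0).2 (hor uu dd ed' u0))
      ((cb (nb uu) n7).2 (hor uu hh' eh' u7)) ((cb (nb uu) n8).2 (hor uu ii ei' u8))
      (fun e => k8 ((cb (nb vv) n8).1 e)) ((cb (nb vv) n6).2 (hor vv ff ef v6))
      ((cb (nb vv) n5).2 (hor vv ee ee' v5)) ((cb (nb vv) n0).2 (hor vv dd ed' v0))
      ((cb (nb vv) n7).2 (hor vv hh' eh' v7)) (fun e => uv' ((cb (nb uu) (nb vv)).1 e)) ue ut uh ui und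
    with e | e
  · refine Or.inl ⟨F.t u, (F.mem u uu).1, g6, fun x hx hne => ?_⟩
    rcases key hx with rfl | rfl | rfl | rfl | rfl | rfl | rfl | rfl
    · exact hor uu dd ed' u0
    · exact ((cb n1 (nb uu)).1 e).symm
    · exact (F.mem u uu).2.2.symm
    · exact (F.mem u uu).2.1.symm
    · exact hor uu ee ee' u5
    · exact absurd rfl hne
    · exact hor uu hh' eh' u7
    · exact hor uu ii ei' u8
  · refine Or.inr ⟨F.t v, (F.mem v vv).1, k8, fun x hx hne => ?_⟩
    rcases key hx with rfl | rfl | rfl | rfl | rfl | rfl | rfl | rfl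
    · exact hor vv dd ed' v0
    · exact ((cb n1 (nb vv)).1 e).symm
    · exact (F.mem v vv).2.2.symm
    · exact (F.mem v vv).2.1.symm
    · exact hor vv ee ee' v5
    · exact hor vv ff ef v6
    · exact hor vv hh' eh' v7
    · exact absurd rfl hne

end CfsgLib.Trans3.FiConf
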