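import Cfsg.Agent.Lib.Trans3.FiConf.Common7
import Cfsg.Agent.Lib.Trans3.FiConf.Config
import Cfsg.Agent.Lib.Trans3.FiConf.Extend22
import Cfsg.Agent.Lib.Trans3.Fi.Unique
import Cfsg.Agent.Lib.InvChar.SporFi23Simple

/-!
Every group of type M(23) is the presented group `Fi₂₃`.
-/

set_option autoImplicit false
set_option linter.unusedSectionVars false
set_option maxRecDepth 100000

namespace CfsgLib.Trans3.FiConf

open CfsgLib.InvChar.Coset CfsgLib.Trans3.Fi CfsgLib.Trans3.Spider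

/-- Coordinates of eight nodes. -/
def vec8 (x : ℕ) : Fin 7 → ZMod 3 :=
  if x = 3 then ![0, 0, 0, 0, 0, 0, 1] else if x = 2 then ![0, 0, 0, 1, 1, 1, 1]
  else if x = 1 then ![0, 0, 0, 0, 0, 1, 0] else if x = 0 then ![0, 0, 1, 1, 1, 1, 0]
  else if x = 5 then ![0, 1, 1, 1, 2, 0, 0] else if x = 6 then ![0, 1, 0, 0, 0, 0, 0]
  else if x = 7 then ![1, 0, 1, 1, 2, 0, 0] else ![1, 0, 0, 0, 0, 0, 0]

/-- Exchange of the two arms of length two of `Y₃₂₂`. -/
def swapShort (x : ℕ) : ℕ := if x = 5 then 7 else if x = 7 then 5 else if x = 6 then 8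
  else if x = 8 then 6 else x

theorem swapShort_ok : ∀ x ∈ nodes8, swapShort x ∈ nodes8 ∧ swapShort (swapShort x) = x ∧
    ∀ y ∈ nodes8, lab11 (swapShort x) (swapShort y) = lab11 x y := by decide

theorem vec8_ok : ∀ x ∈ nodes8, dot7 (vec8 x) (vec8 x) = 1 ∧ ∀ y ∈ nodes8,
    (lab11 x y = 2 → dot7 (vec8 x) (vec8 y) = 0) ∧
    (lab11 x y = 3 → dot7 (vec8 x) (vec8 y) ≠ 0 ∧ vec8 y ≠ vec8 x ∧ vec8 y ≠ -vec8 x) := by
  decide +kernel

theorem vec8_no_ext : ∀ u : Fin 7 → ZMod 3, dot7 u u = 1 →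
    dot7 u (vec8 0) = 0 → dot7 u (vec8 1) = 0 → dot7 u (vec8 2) = 0 → dot7 u (vec8 3) = 0 →
    dot7 u (vec8 5) = 0 → dot7 u (vec8 7) = 0 →
    (dot7 u (vec8 8) = 0 → dot7 u (vec8 6) = 0) ∧ (dot7 u (vec8 6) = 0 → dot7 u (vec8 8) = 0) := by
  decide +kernel

theorem vec8_no_theta' : ∀ u : Fin 7 → ZMod 3, dot7 u u = 1 →
    ¬ ∀ x ∈ [0, 2, 3, 5, 6, 7, 8], dot7 u (vec8 x) = 0 := by
  decide +kernel

theorem vec8_no_theta (u : Fin 7 → ZMod 3) (hu : dot7 u u = 1) (a0 : dot7 u (vec8 0) = 0)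
    (a2 : dot7 u (vec8 2) = 0) (a3 : dot7 u (vec8 3) = 0) (a5 : dot7 u (vec8 5) = 0)
    (a6 : dot7 u (vec8 6) = 0) (a7 : dot7 u (vec8 7) = 0) (a8 : dot7 u (vec8 8) = 0) : False :=
  vec8_no_theta' u hu (by simp [a0, a2, a3, a5, a6, a7, a8])

section

variable {G : Type*} [Group G] [Finite G] {D : Set G}
variable (hD : Cfsg.IsThreeTranspositionGroup D) (hP : Cfsg.IsPrimitiveUnderConj D)
variable (h : Cfsg.IsOfTypeM23 G D)
include hD hP h

/-- Eight members commuting with both of a non-commuting pair, and a ninth commuting with the first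
of the pair only. -/
theorem exists_nine {p j : G} (hp : p ∈ D) (hj : j ∈ D) (hpj : ¬ Commute p j) :
    ∃ s : ℕ → G, (∀ x, s x * s x = 1) ∧ (∀ x ∈ nodes, s x ∈ nbrs D p) ∧
      (∀ x ∈ nodes, ∀ y ∈ nodes, (lab11 x y = 2 → Commute (s x) (s y)) ∧
        (lab11 x y = 3 → ¬ Commute (s x) (s y))) ∧
      (∀ x ∈ nodes8, Commute (s x) j) ∧ ¬ Commute (s 9) j ∧
      ¬ Commute (s 2) (wprod s Data.theta) := by
  obtain ⟨F⟩ := exists_frame7 hD hP h hp hj hpj
  have hN := nice_m23 hD h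
  have hPre := pre_of_group hD
  obtain ⟨y, ey⟩ : ∃ y : ℕ → G, y = fun x => F.t (vec8 x) := ⟨_, rfl⟩
  have hm : ∀ x ∈ nodes8, y x ∈ CN D p j := fun x hx => ey ▸ F.mem _ (vec8_ok x hx).1
  have h2 : ∀ x ∈ nodes8, ∀ z ∈ nodes8, lab11 x z = 2 → Commute (y x) (y z) := fun x hx z hz e =>
    ey ▸ F.orth _ _ (vec8_ok x hx).1 (vec8_ok z hz).1 (((vec8_ok x hx).2 z hz).1 e)
  have h3 : ∀ x ∈ nodes8, ∀ z ∈ nodes8, lab11 x z = 3 → ¬ Commute (y x) (y z) := fun x hx z hz e =>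
    let ⟨a1, a2, a3⟩ := ((vec8_ok x hx).2 z hz).2 e
    ey ▸ F.inj _ _ (vec8_ok x hx).1 (vec8_ok z hz).1 a1 a2 a3
  have nb : ∀ x ∈ nodes8, y x ∈ nbrs D p := fun x hx =>
    ⟨(hm x hx).1, fun e => hpj ((e ▸ (hm x hx).2.2).symm), (hm x hx).2.1⟩
  -- a member commuting with a node and one of its neighbours is orthogonal to that node
  have dz : ∀ {u : Fin 7 → ZMod 3} {x z : ℕ}, dot7 u u = 1 → x ∈ nodes8 → z ∈ nodes8 →
      lab11 x z = 3 → Commute (F.t u) (y x) → Commute (F.t u) (y z) → dot7 u (vec8 x) = 0 := by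
    intro u x z hu hx hz hl cx cz
    by_contra e
    refine F.noncomm _ _ hu (vec8_ok x hx).1 e (fun he => ?_) (by rw [ey] at cx; exact cx)
    have he' : F.t u = y x := by rw [he, ey]
    exact h3 x hx z hz hl (he' ▸ cz)
  -- an extension at an end of a short arm does not commute with `j`
  have far : ∀ {g : G}, g ∈ D → Commute p g → ∀ k ∈ [6, 8], ¬ Commute g (y k) →
      (∀ x ∈ nodes8, x ≠ k → Commute g (y x)) → ¬ Commute g j := by
    intro g hg hgp k hk hgk hgx hgj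
    obtain ⟨u, hu, rfl⟩ := F.surj g ⟨hg, hgp, hgj.symm⟩
    have dd : ∀ x z, x ∈ nodes8 → z ∈ nodes8 → lab11 x z = 3 → x ≠ k → z ≠ k →
        dot7 u (vec8 x) = 0 := fun x z hx hz hl h1 h1' => dz hu hx hz hl (hgx x hx h1) (hgx z hz h1')
    obtain ⟨n6, n8⟩ := vec8_no_ext u hu
      (dd 0 1 (by decide) (by decide) (by decide)
        ((by decide : ∀ k ∈ [6, 8], (0 : ℕ) ≠ k) k hk) ((by decide : ∀ k ∈ [6, 8], (1 : ℕ) ≠ k) k hk))
      (dd 1 0 (by decide) (by decide) (by decide)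
        ((by decide : ∀ k ∈ [6, 8], (1 : ℕ) ≠ k) k hk) ((by decide : ∀ k ∈ [6, 8], (0 : ℕ) ≠ k) k hk))
      (dd 2 1 (by decide) (by decide) (by decide)
        ((by decide : ∀ k ∈ [6, 8], (2 : ℕ) ≠ k) k hk) ((by decide : ∀ k ∈ [6, 8], (1 : ℕ) ≠ k) k hk))
      (dd 3 2 (by decide) (by decide) (by decide)
        ((by decide : ∀ k ∈ [6, 8], (3 : ℕ) ≠ k) k hk) ((by decide : ∀ k ∈ [6, 8], (2 : ℕ) ≠ k) k hk))
      (dd 5 0 (by decide) (by decide) (by decide)
        ((by decide : ∀ k ∈ [6, 8], (5 : ℕ) ≠ k) k hk) ((by decide : ∀ k ∈ [6, 8], (0 : ℕ) ≠ k) k hk))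
      (dd 7 0 (by decide) (by decide) (by decide)
        ((by decide : ∀ k ∈ [6, 8], (7 : ℕ) ≠ k) k hk) ((by decide : ∀ k ∈ [6, 8], (0 : ℕ) ≠ k) k hk))
    simp only [List.mem_cons, List.not_mem_nil, or_false] at hk
    rcases hk with rfl | rfl
    · exact hgk (ey ▸ F.orth _ _ hu (vec8_ok 6 (by decide)).1
        (n6 (dd 8 7 (by decide) (by decide) (by decide) (by decide) (by decide))))
    · exact hgk (ey ▸ F.orth _ _ hu (vec8_ok 8 (by decide)).1
        (n8 (dd 6 5 (by decide) (by decide) (by decide) (by decide) (by decide))))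
  obtain ⟨Y, eY⟩ : ∃ Y : ℕ → Qd D p,
      Y = fun x => if hx : x ∈ nodes8 then bar (nb x hx) else 1 := ⟨_, rfl⟩
  have hY : ∀ x (hx : x ∈ nodes8), Y x = bar (nb x hx) := fun x hx => by rw [eY]; exact dif_pos hx
  -- choose the arm and relabel
  obtain ⟨σ, g, hσ, ng, hg6, hgx⟩ : ∃ σ : ℕ → ℕ, ∃ g : G, (σ = id ∨ σ = swapShort) ∧ g ∈ nbrs D p ∧
      ¬ Commute g (y (σ 6)) ∧ ∀ x ∈ nodes8, x ≠ 6 → Commute g (y (σ x)) := by
    rcases extend22 (hN.group_Db hp) (m23_prim_below hD h hP hp) (m23_below hD h hp) Y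
        (fun x hx => by rw [hY x hx]; exact bar_mem _)
        (fun x hx z hz e => by rw [hY x hx, hY z hz]; exact (commute_bar hPre _ _).2 (h2 x hx z hz e))
        (fun x hx z hz e hc => h3 x hx z hz e (by
          rw [hY x hx, hY z hz] at hc; exact (commute_bar hPre _ _).1 hc))
      with ⟨gb, hgb, e6, ex⟩ | ⟨gb, hgb, e6, ex⟩
    · obtain ⟨g, ng, rfl⟩ := exists_bar hgb
      rw [hY 6 (by decide), commute_bar hPre] at e6
      exact ⟨id, g, Or.inl rfl, ng, e6, fun x hx hne => by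
        have := ex x hx hne
        rwa [hY x hx, commute_bar hPre] at this⟩
    · obtain ⟨g, ng, rfl⟩ := exists_bar hgb
      rw [hY 8 (by decide), commute_bar hPre] at e6
      exact ⟨swapShort, g, Or.inr rfl, ng, e6, fun x hx hne => by
        have hx' := (swapShort_ok x hx).1
        have := ex _ hx' ((by decide : ∀ x ∈ nodes8, x ≠ 6 → swapShort x ≠ 8) x hx hne)
        rwa [hY _ hx', commute_bar hPre] at this⟩
  have hσm : ∀ x ∈ nodes8, σ x ∈ nodes8 := by
    rcases hσ with rfl | rfl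
    · exact fun x hx => hx
    · exact fun x hx => (swapShort_ok x hx).1
  have hσl : ∀ x ∈ nodes8, ∀ z ∈ nodes8, lab11 (σ x) (σ z) = lab11 x z := by
    rcases hσ with rfl | rfl
    · exact fun x hx z hz => rfl
    · exact fun x hx => (swapShort_ok x hx).2.2
  have hgj : ¬ Commute g j := by
    refine far ng.1 ng.2.2 (σ 6) ?_ hg6 fun x hx hne => ?_
    · rcases hσ with rfl | rfl <;> decide
    · rcases hσ with rfl | rfl
      · exact hgx x hx hne
      · obtain ⟨hx', hxx, -⟩ := swapShort_ok x hx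
        have := hgx _ hx' (fun e => hne (by rw [← hxx, e]))
        rwa [hxx] at this
  obtain ⟨s, es⟩ : ∃ s : ℕ → G, s = fun x => if x = 9 then g else if x ∈ nodes8 then y (σ x) else 1 :=
    ⟨_, rfl⟩
  have s9 : s 9 = g := by rw [es]; simp
  have s8 : ∀ x ∈ nodes8, s x = y (σ x) := fun x hx => by
    have : x ≠ 9 := fun e => absurd (e ▸ hx) (by decide)
    rw [es]; simp [this, hx]
  have hcase : ∀ x ∈ nodes, x = 9 ∨ x ∈ nodes8 := by decide
  have hsn : ∀ x ∈ nodes, s x ∈ nbrs D p := by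
    intro x hx
    rcases hcase x hx with rfl | hx
    · rw [s9]; exact ng
    · rw [s8 x hx]; exact nb _ (hσm x hx)
  have hsj : ∀ x ∈ nodes8, Commute (s x) j := fun x hx => by
    rw [s8 x hx]; exact (hm _ (hσm x hx)).2.2.symm
  have hsq : ∀ x, s x * s x = 1 := by
    intro x
    by_cases hx : x ∈ nodes
    · exact Trans3.sq_one hD.1 (hsn x hx).1
    · have : x ≠ 9 ∧ x ∉ nodes8 := by simp [nodes, nodes8] at hx ⊢; omega
      rw [es]; simp [this.1, this.2]
  have hrel : ∀ x ∈ nodes, ∀ z ∈ nodes, (lab11 x z = 2 → Commute (s x) (s z)) ∧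
      (lab11 x z = 3 → ¬ Commute (s x) (s z)) := by
    intro x hx z hz
    rcases hcase x hx with rfl | hx' <;> rcases hcase z hz with rfl | hz'
    · exact ⟨fun e => absurd e (by decide), fun e => absurd e (by decide)⟩
    · rw [s9, s8 z hz']
      by_cases hz6 : z = 6
      · subst hz6; exact ⟨fun e => absurd e (by decide), fun _ => hg6⟩
      · exact ⟨fun _ => hgx z hz' hz6, fun e =>
          absurd e ((by decide : ∀ z ∈ nodes8, z ≠ 6 → lab11 9 z ≠ 3) z hz' hz6)⟩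
    · rw [s9, s8 x hx']
      by_cases hx6 : x = 6
      · subst hx6; exact ⟨fun e => absurd e (by decide), fun _ e => hg6 e.symm⟩
      · exact ⟨fun _ => (hgx x hx' hx6).symm, fun e =>
          absurd e ((by decide : ∀ x ∈ nodes8, x ≠ 6 → lab11 x 9 ≠ 3) x hx' hx6)⟩
    · rw [s8 x hx', s8 z hz']
      exact ⟨fun e => h2 _ (hσm x hx') _ (hσm z hz') ((hσl x hx' z hz').trans e),
        fun e => h3 _ (hσm x hx') _ (hσm z hz') ((hσl x hx' z hz').trans e)⟩
  refine ⟨s, hsq, hsn, hrel, hsj, by rw [s9]; exact hgj, fun e => ?_⟩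
  have hY9 : Y332 s := by
    refine ⟨hsq, fun x hx z hz => ?_,
      Trans3.ne_of_not_commute ((hrel 3 (by decide) 2 (by decide)).2 (by decide))⟩
    rcases (by decide : ∀ x ∈ nodes, ∀ z ∈ nodes,
      (lab11 x z = 1 ∧ x = z) ∨ lab11 x z = 2 ∨ lab11 x z = 3) x hx z hz with ⟨e', rfl⟩ | e' | e'
    · rw [e', pow_one, hsq]
    · rw [e']
      exact (Trans3.commute_iff_pow_two hD.1 (hsn x hx).1 (hsn z hz).1).1 ((hrel x hx z hz).1 e')
    · rw [e']; exact Trans3.pow_three hD.1 (hsn x hx).1 (hsn z hz).1 ((hrel x hx z hz).2 e')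
  have hT2 : wprod s Data.theta * wprod s Data.theta = 1 := by
    rw [← wprod_append]; exact hY9.reduces theta_sq
  have hTc : ∀ k < 6, Commute (wprod s Data.theta) (s ([0, 5, 6, 7, 8, 3].getD k 0)) := by
    intro k hk
    have h1 := hY9.reduces (theta_ok k hk)
    rw [wprod_rpt, wprod_append, wprod_singleton] at h1
    exact comm_of_pow hT2 (hsq _) h1
  have hTj : Commute (wprod s Data.theta) j := by
    refine Commute.list_prod_left _ _ fun z hz => ?_
    obtain ⟨x, hx, rfl⟩ := List.mem_map.1 hz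
    exact hsj x ((by decide : ∀ x ∈ Data.theta, x ∈ nodes8) x hx)
  have hTp : Commute p (wprod s Data.theta) := by
    refine Commute.list_prod_right _ _ fun z hz => ?_
    obtain ⟨x, hx, rfl⟩ := List.mem_map.1 hz
    exact (hsn x ((by decide : ∀ x ∈ Data.theta, x ∈ nodes) x hx)).2.2
  have hTD : wprod s Data.theta ∈ D := by
    rw [theta_conj, wprod_append, wprod_append, wprod_reverse s hsq, wprod_singleton]
    exact hD.2.1 _ _ (hsn 0 (by decide)).1
  obtain ⟨u, hu, eu⟩ := F.surj _ ⟨hTD, hTp, hTj.symm⟩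
  have T2 : Commute (F.t u) (y (σ 2)) := by rw [eu, ← s8 2 (by decide)]; exact e.symm
  have Tc : ∀ k < 6, ∀ x ∈ nodes8, [0, 5, 6, 7, 8, 3].getD k 0 = x → Commute (F.t u) (y (σ x)) := by
    intro k hk x hx ex
    rw [eu, ← s8 x hx, ← ex]; exact hTc k hk
  have T0 := Tc 0 (by norm_num) 0 (by decide) rfl
  have T5 := Tc 1 (by norm_num) 5 (by decide) rfl
  have T6 := Tc 2 (by norm_num) 6 (by decide) rfl
  have T7 := Tc 3 (by norm_num) 7 (by decide) rfl
  have T8 := Tc 4 (by norm_num) 8 (by decide) rfl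
  have T3 := Tc 5 (by norm_num) 3 (by decide) rfl
  have fin : Commute (F.t u) (y 0) → Commute (F.t u) (y 2) → Commute (F.t u) (y 3) →
      Commute (F.t u) (y 5) → Commute (F.t u) (y 6) → Commute (F.t u) (y 7) →
      Commute (F.t u) (y 8) → False := fun a0 a2 a3 a5 a6 a7 a8 =>
    vec8_no_theta u hu (dz hu (by decide) (by decide) (by decide) a0 a5)
      (dz hu (by decide) (by decide) (by decide) a2 a3)
      (dz hu (by decide) (by decide) (by decide) a3 a2)
      (dz hu (by decide) (by decide) (by decide) a5 a0)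
      (dz hu (by decide) (by decide) (by decide) a6 a5)
      (dz hu (by decide) (by decide) (by decide) a7 a0)
      (dz hu (by decide) (by decide) (by decide) a8 a7)
  rcases hσ with rfl | rfl
  · exact fin T0 T2 T3 T5 T6 T7 T8
  · exact fin T0 T2 T3 T7 T8 T5 T6

end

end CfsgLib.Trans3.FiConf
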