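import Cfsg.Agent.Lib.Trans3.FiConf.Match24

/-!
The correspondence of members respects commuting.
-/

set_option autoImplicit false
set_option linter.unusedSectionVars false
set_option maxRecDepth 100000

namespace CfsgLib.Trans3.FiConf

open CfsgLib.InvChar.Coset CfsgLib.Trans3.Fi CfsgLib.Trans3.Spider

variable {G₁ G₂ : Type*} [Group G₁] [Finite G₁] [Group G₂] [Finite G₂] {D₁ : Set G₁} {D₂ : Set G₂}
variable {A : Marked D₁} {B : Marked D₂}

theorem Rel.near_side {x : G₁} {y : G₂} (h : Rel A B x y) (hx : x ∈ nbrs D₁ A.l) :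
    y ∈ nbrs D₂ B.l := by
  rcases h with ⟨rfl, -⟩ | ⟨u, hu, rfl, rfl⟩ | ⟨v, rfl, -⟩
  · exact absurd rfl hx.2.1
  · exact B.near_mem hu
  · exact absurd hx.2.2 (A.far_mem v).2

/-- Adjacency when one side is `l` or one of its neighbours. -/
theorem Rel.comm_near {a x : G₁} {a' y : G₂} (ha : Rel A B a a') (hal : Commute A.l a)
    (h : Rel A B x y) : Commute a x ↔ Commute a' y := by
  rcases ha with ⟨rfl, rfl⟩ | ⟨w, hw, rfl, rfl⟩ | ⟨v, rfl, -⟩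
  · rcases h with ⟨rfl, rfl⟩ | ⟨u, hu, rfl, rfl⟩ | ⟨v, rfl, rfl⟩
    · exact ⟨fun _ => Commute.refl _, fun _ => Commute.refl _⟩
    · exact ⟨fun _ => (B.near_mem hu).2.2, fun _ => (A.near_mem hu).2.2⟩
    · exact ⟨fun e => absurd e (A.far_mem v).2, fun e => absurd e (B.far_mem v).2⟩
  · rcases h with ⟨rfl, rfl⟩ | ⟨u, hu, rfl, rfl⟩ | ⟨v, rfl, rfl⟩
    · exact ⟨fun _ => (B.near_mem hw).2.2.symm, fun _ => (A.near_mem hw).2.2.symm⟩
    · rw [A.near_near, B.near_near]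
    · rw [A.near_far hw, B.near_far hw, comSet_eq A B]
  · exact absurd hal (A.far_mem v).2

/-- A word in neighbours of `l` conjugating a neighbour goes to the corresponding one. -/
theorem Rel.word_conj {t : ℕ → G₁} {t' : ℕ → G₂} (hsq : ∀ x, t x * t x = 1)
    (hsq' : ∀ x, t' x * t' x = 1) :
    ∀ (w : List ℕ), (∀ z ∈ w, Rel A B (t z) (t' z) ∧ Commute A.l (t z)) → ∀ {x : G₁} {y : G₂},
      Rel A B x y → Rel A B (wprod t w * x * (wprod t w)⁻¹) (wprod t' w * y * (wprod t' w)⁻¹)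
  | [], _, x, y, h => by simpa [wprod] using h
  | z :: w, hw, x, y, h => by
    have ih := Rel.word_conj hsq hsq' w (fun a ha => hw a (List.mem_cons_of_mem _ ha)) h
    have := Rel.near_conj (hw z (by simp)).1 (hw z (by simp)).2 ih
    rw [show wprod t (z :: w) = t z * wprod t w by simp [wprod],
      show wprod t' (z :: w) = t' z * wprod t' w by simp [wprod], mul_inv_rev, mul_inv_rev,
      inv_eq_of_mul_eq_one_right (hsq z), inv_eq_of_mul_eq_one_right (hsq' z)]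
    simpa only [mul_assoc] using this

theorem Rel.theta {t : ℕ → G₁} {t' : ℕ → G₂} (hsq : ∀ x, t x * t x = 1)
    (hsq' : ∀ x, t' x * t' x = 1) (ht : ∀ z ∈ nodes, Rel A B (t z) (t' z) ∧ Commute A.l (t z)) :
    Rel A B (wprod t Data.theta) (wprod t' Data.theta) := by
  simp only [theta_conj, wprod_append, wprod_reverse _ hsq, wprod_reverse _ hsq', wprod_singleton]
  exact Rel.word_conj hsq hsq' _ (fun z hz => ht z
    ((by decide : ∀ z ∈ [1, 0, 7, 8, 5, 0, 7, 6, 5, 1], z ∈ nodes) z hz)) (ht 0 (by decide)).1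

/-- Adjacency of two members not commuting with `l`. -/
theorem Rel.comm_far {x₁ x₂ : G₁} {y₁ y₂ : G₂} (h1 : Rel A B x₁ y₁) (h2 : Rel A B x₂ y₂)
    (n1 : ¬ Commute A.l x₁) (n2 : ¬ Commute A.l x₂) (hc : Commute x₁ x₂) : Commute y₁ y₂ := by
  by_cases hne : x₂ = x₁
  · subst hne; rw [h1.unique h2]
  have hD₁ := A.hD
  have hD₂ := B.hD
  have hN₁ := nice_m24 hD₁ A.hP A.h
  have hN₂ := nice_m24 hD₂ B.hP B.h
  have hPre₁ := pre_of_group hD₁
  have hPre₂ := pre_of_group hD₂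
  have ml₁ : ¬ Commute B.l y₁ := fun e => n1 ((Rel.comm_near (A := A) (B := B) (a := A.l) (a' := B.l) (Or.inl ⟨rfl, rfl⟩) (Commute.refl _) h1).2 e)
  -- a common neighbour
  obtain ⟨e, he, e1, e2, el⟩ := m24_commonThree hD₁ A.hP A.h x₁ x₂ A.l h1.mem ⟨h2.mem, hne, hc⟩
    A.cfg.hl (fun e => n1 e.symm)
  have nle : e ∈ nbrs D₁ A.l := ⟨he, fun x => n1 (x ▸ e1), el.symm⟩
  obtain ⟨e', he'⟩ := Rel.total A B he
  have nle' := he'.near_side nle
  have ne_l : A.l ∈ nbrs D₁ e := ⟨A.cfg.hl, Ne.symm nle.2.1, el⟩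
  have ne_l' : B.l ∈ nbrs D₂ e' := ⟨B.cfg.hl, Ne.symm nle'.2.1, nle'.2.2.symm⟩
  have nx₁ : x₁ ∈ nbrs D₁ e := ⟨h1.mem, fun x => n1 (x.symm ▸ el.symm), e1⟩
  have nx₂ : x₂ ∈ nbrs D₁ e := ⟨h2.mem, fun x => n2 (x.symm ▸ el.symm), e2⟩
  have ny₁ : y₁ ∈ nbrs D₂ e' :=
    ⟨h1.symm.mem, fun x => ml₁ (x.symm ▸ nle'.2.2), (he'.comm_near el.symm h1).1 e1⟩
  -- a configuration in the neighbourhood of the common neighbour
  have hX := hN₁.group_Db he
  have hXP := m24_prim_below hD₁ A.hP A.h he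
  have hX23 := m24_below hD₁ A.hP A.h he
  have hY := hN₂.group_Db nle'.1
  have hYP := m24_prim_below hD₂ B.hP B.h nle'.1
  have hY23 := m24_below hD₂ B.hP B.h nle'.1
  obtain ⟨tb, htb⟩ := exists_ten hX hXP hX23 (bar_mem ne_l) (bar_mem nx₁)
    fun x => n1 ((commute_bar hPre₁ ne_l nx₁).1 x)
  obtain ⟨t, hte, hteq, htN⟩ := htb.nine.lift hD₁ hN₁ he ne_l
  classical
  have hy : ∀ z, ∃ y, (z ∈ nodes → Rel A B (t z) y) ∧ (z ∉ nodes → y = 1) := fun z => by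
    by_cases hz : z ∈ nodes
    · obtain ⟨y, hy⟩ := Rel.total A B (htN.mem z hz).1
      exact ⟨y, fun _ => hy, fun x => absurd hz x⟩
    · exact ⟨1, fun x => absurd x hz, fun _ => rfl⟩
  choose t' ht1 ht2 using hy
  have htl' : ∀ z ∈ nodes, t' z ∈ nbrs D₂ B.l := fun z hz => (ht1 z hz).near_side (htN.mem z hz)
  have htc : ∀ z ∈ nodes, ∀ {x : G₁} {y : G₂}, Rel A B x y → (Commute (t z) x ↔ Commute (t' z) y) :=
    fun z hz _ _ h => (ht1 z hz).comm_near (htN.mem z hz).2.2 h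
  have hsq' : ∀ z, t' z * t' z = 1 := fun z => by
    by_cases hz : z ∈ nodes
    · exact Trans3.sq_one hD₂.1 (htl' z hz).1
    · rw [ht2 z hz, one_mul]
  have hrT := Rel.theta htN.sq hsq' fun z hz => ⟨ht1 z hz, (htN.mem z hz).2.2⟩
  have htN' : Nine D₂ B.l t' := ⟨hsq', htl', fun a ha b hb => by
    rw [← htc a ha (ht1 b hb)]; exact htN.rel a ha b hb, fun x => htN.bT ((htc 2 (by decide) hrT).2 x)⟩
  have hte' : ∀ z ∈ nodes, t' z ∈ nbrs D₂ e' := by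
    intro z hz
    obtain ⟨w, hw, e2'⟩ := (by decide : ∀ z ∈ nodes, ∃ w ∈ nodes, lab11 z w = 3) z hz
    refine ⟨(htl' z hz).1, fun x => ?_, ((htc z hz he').1 (hte z hz).2.2.symm).symm⟩
    have hcw : Commute (t' w) e' := (htc w hw he').1 (hte w hw).2.2.symm
    exact (htN'.rel z hz w hw).2 e2' (x ▸ hcw.symm)
  have tj8 : ∀ z ∈ nodes8, Commute (t z) x₁ := fun z hz => by
    have hm := (by decide : ∀ x ∈ nodes8, x ∈ nodes) z hz
    have := htb.hj8 z hz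
    rwa [← hteq z hm, barSeq_eq hte hm, commute_bar hPre₁] at this
  have tj9 : ¬ Commute (t 9) x₁ := fun x => htb.hj9 (by
    rw [← hteq 9 (by decide), barSeq_eq hte (by decide : 9 ∈ nodes), commute_bar hPre₁]; exact x)
  have hT : Ten D₁ A.l x₁ t := ⟨htN, A.cfg.hl, h1.mem, n1, tj8, tj9⟩
  have hT' : Ten D₂ B.l y₁ t' := ⟨htN', B.cfg.hl, h1.symm.mem, ml₁, fun z hz =>
    (htc z ((by decide : ∀ x ∈ nodes8, x ∈ nodes) z hz) h1).1 (tj8 z hz),
    fun x => tj9 ((htc 9 (by decide) h1).2 x)⟩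
  have hTb := hT.push hD₁ hN₁ he hte ne_l nx₁
  have hTb' := hT'.push hD₂ hN₂ nle'.1 hte' ne_l' ny₁
  obtain ⟨E₁, hE₁⟩ := hTb.iso hX hXP hX23
  obtain ⟨E₂, hE₂⟩ := hTb'.iso hY hYP hY23
  obtain ⟨Ψ, eΨ⟩ : ∃ Ψ : Qd D₁ e ≃* Qd D₂ e', Ψ = E₁.symm.trans E₂ := ⟨_, rfl⟩
  obtain ⟨ag, eag⟩ : ∃ ag : Set (Qd D₁ e), ag = {q | ∃ z y, ∃ hz : z ∈ nbrs D₁ e, ∃ hy : y ∈ nbrs D₂ e',
      q = bar hz ∧ Rel A B z y ∧ Ψ q = bar hy} := ⟨_, rfl⟩
  have gens_ag : ∀ y, Ψ (tenSeq (barSeq D₁ e t) (bar nx₁) (ix23 y)) =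
      tenSeq (barSeq D₂ e' t') (bar ny₁) (ix23 y) := fun y => by
    rw [← hE₁, eΨ, MulEquiv.trans_apply, MulEquiv.symm_apply_apply, hE₂]
  have hΨt : ∀ z ∈ nodes, Ψ (barSeq D₁ e t z) = barSeq D₂ e' t' z := by
    intro z hz
    obtain ⟨y, ey⟩ : ∃ y, ix23 y = z := by
      simp only [nodes, List.mem_cons, List.not_mem_nil, or_false] at hz
      rcases hz with rfl | rfl | rfl | rfl | rfl | rfl | rfl | rfl | rfl
      exacts [⟨.d, rfl⟩, ⟨.c, rfl⟩, ⟨.b, rfl⟩, ⟨.a, rfl⟩, ⟨.e, rfl⟩, ⟨.f, rfl⟩, ⟨.h, rfl⟩,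
        ⟨.i, rfl⟩, ⟨.g, rfl⟩]
    have := gens_ag y
    rwa [ey, tenSeq_node _ _ hz, tenSeq_node _ _ hz] at this
  have ag_t : ∀ z ∈ nodes, barSeq D₁ e t z ∈ ag := fun z hz => by
    rw [eag]
    exact ⟨t z, t' z, hte z hz, hte' z hz, barSeq_eq hte hz, ht1 z hz, by
      rw [hΨt z hz, barSeq_eq hte' hz]⟩
  have ag_x : bar nx₁ ∈ ag := by
    rw [eag]
    refine ⟨x₁, y₁, nx₁, ny₁, rfl, h1, ?_⟩
    have := gens_ag .j
    rwa [show ix23 Cfsg.Spor.Fi23.Gen.j = 10 from rfl, tenSeq_last, tenSeq_last] at this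
  have ag_l : bar ne_l ∈ ag := by
    have k1 : wprod (barSeq D₁ e t) (zW.map swapArms) = bar ne_l :=
      ((hTb.nine.words hX hXP hX23 hTb.hp).2.2.2).resolve_left fun z1 =>
        hTb.nine.not_both hX hXP hX23 hTb.hp (hTb.zA hX hXP hX23) z1
    have k2 : wprod (barSeq D₂ e' t') (zW.map swapArms) = bar ne_l' :=
      ((hTb'.nine.words hY hYP hY23 hTb'.hp).2.2.2).resolve_left fun z1 =>
        hTb'.nine.not_both hY hYP hY23 hTb'.hp (hTb'.zA hY hYP hY23) z1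
    rw [eag]
    refine ⟨A.l, B.l, ne_l, ne_l', rfl, Or.inl ⟨rfl, rfl⟩, ?_⟩
    rw [← k1, ← k2]
    exact map_wprod Ψ.toMonoidHom _ _ _ fun z hz =>
      hΨt z ((by decide : ∀ z ∈ zW.map swapArms, z ∈ nodes) z hz)
  have step : ∀ z ∈ nodes, ∀ q ∈ ag, barSeq D₁ e t z * q * barSeq D₁ e t z ∈ ag := by
    intro z hz q hq
    rw [eag] at hq ⊢
    obtain ⟨a, b, ha, hb, rfl, hab, hΨ⟩ := hq
    obtain ⟨m1, f1⟩ := Up.bar_third' hD₁ (hte z hz) ha
    obtain ⟨m2, f2⟩ := Up.bar_third' hD₂ (hte' z hz) hb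
    refine ⟨_, _, m1, m2, ?_, Rel.near_conj (ht1 z hz) (htN.mem z hz).2.2 hab, ?_⟩
    · rw [f1, barSeq_eq hte hz]
    · rw [map_mul, map_mul, hΨt z hz, hΨ, f2, barSeq_eq hte' hz]
  -- the stabiliser of the agreement contains the group of the neighbours of `l`
  obtain ⟨S, eS⟩ : ∃ S : Subgroup (Qd D₁ e), S =
      { carrier := {g | ∀ q, q ∈ ag ↔ g * q * g⁻¹ ∈ ag}
        mul_mem' := fun {a b} ha hb q => by
          rw [hb q, ha, show a * (b * q * b⁻¹) * a⁻¹ = a * b * q * (a * b)⁻¹ by group]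
        one_mem' := fun q => by simp
        inv_mem' := fun {a} ha q => by
          rw [ha (a⁻¹ * q * a⁻¹⁻¹), show a * (a⁻¹ * q * a⁻¹⁻¹) * a⁻¹ = q by group] } := ⟨_, rfl⟩
  have hSt : ∀ z ∈ nodes, barSeq D₁ e t z ∈ S := by
    intro z hz
    rw [eS]
    intro q
    have hsq := barSeq_sq hte htN.sq z
    rw [inv_eq_of_mul_eq_one_right hsq]
    refine ⟨step z hz q, fun hq => ?_⟩
    have := step z hz _ hq
    rwa [show barSeq D₁ e t z * (barSeq D₁ e t z * q * barSeq D₁ e t z) * barSeq D₁ e t z =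
      (barSeq D₁ e t z * barSeq D₁ e t z) * q * (barSeq D₁ e t z * barSeq D₁ e t z) by group,
      hsq, one_mul, mul_one] at this
  have hHd : ∀ g ∈ Hd (Db D₁ e) (bar ne_l), g ∈ S := by
    intro g hg
    have h1' : (⟨g, hg⟩ : ↥(Hd (Db D₁ e) (bar ne_l))) ∈
        S.comap (Hd (Db D₁ e) (bar ne_l)).subtype := by
      have hle : gens (hdSeq (Db D₁ e) (bar ne_l) (barSeq D₁ e t)) nodes ≤
          S.comap (Hd (Db D₁ e) (bar ne_l)).subtype := by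
        rw [gens, Subgroup.closure_le]
        rintro _ ⟨z, hz, rfl⟩
        show ((hdSeq (Db D₁ e) (bar ne_l) (barSeq D₁ e t) z : Qd D₁ e)) ∈ S
        rw [hdSeq_val hTb.nine.mem z hz]
        exact hSt z hz
      exact hle (hTb.nine.gens_eq hX hXP hX23 hTb.hp ▸ Subgroup.mem_top _)
    exact h1'
  have conjAg : ∀ g ∈ Hd (Db D₁ e) (bar ne_l), ∀ q ∈ ag, g * q * g⁻¹ ∈ ag := by
    intro g hg q hq
    have := hHd g hg
    rw [eS] at this
    exact (this q).1 hq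
  -- every neighbour is in the agreement
  have all : ∀ q ∈ Db D₁ e, q ∈ ag := by
    intro q hq
    by_cases hql : q = bar ne_l
    · exact hql ▸ ag_l
    by_cases hc' : Commute (bar ne_l) q
    · have hqn : q ∈ nbrs (Db D₁ e) (bar ne_l) := ⟨hq, hql, hc'⟩
      have h2n := hTb.nine.mem 2 (by decide)
      obtain ⟨g, hg⟩ := (m23_prim_below hX hX23 hXP (bar_mem ne_l)).1 _ (bar_mem h2n) _ (bar_mem hqn)
      obtain ⟨k, rfl⟩ := QuotientGroup.mk_surjective g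
      rw [← Up.conj_bar (nice_m23 hX hX23) hXP (fun _ hb => m23_lvl_below hX hX23 hXP hb)
        (bar_mem ne_l) k h2n hqn hg]
      exact conjAg _ k.2 _ (ag_t 2 (by decide))
    · obtain ⟨g, hg, hg'⟩ := trans_noncomm_closure hX hXP (lvl_m23 hX hXP hX23).pairc (bar_mem ne_l)
        (bar_mem nx₁) (fun x => n1 ((commute_bar hPre₁ ne_l nx₁).1 x)) hq hc'
      have hcd : g ∈ Cd (Db D₁ e) (bar ne_l) := hg
      rw [cd_eq_hd (m23_mem hX hXP hX23 (bar_mem ne_l))] at hcd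
      exact hg' ▸ conjAg g hcd _ ag_x
  have img : ∀ {z : G₁} {y : G₂} (hz : z ∈ nbrs D₁ e), Rel A B z y →
      ∃ hy : y ∈ nbrs D₂ e', Ψ (bar hz) = bar hy := by
    intro z y hz hzy
    have := all _ (bar_mem hz)
    rw [eag] at this
    obtain ⟨z', y', hz', hy', eq', hr, hΨ⟩ := this
    obtain rfl := hN₁.bar_inj he hz hz' eq'
    obtain rfl := hr.unique hzy
    exact ⟨hy', hΨ⟩
  obtain ⟨m1, f1⟩ := img nx₁ h1
  obtain ⟨m2, f2⟩ := img nx₂ h2
  have hb' : Commute (Ψ (bar nx₁)) (Ψ (bar nx₂)) :=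
    ((commute_bar hPre₁ nx₁ nx₂).2 hc).map Ψ
  rw [f1, f2] at hb'
  exact (commute_bar hPre₂ m1 m2).1 hb'

/-- The correspondence respects commuting. -/
theorem Rel.comm {x₁ x₂ : G₁} {y₁ y₂ : G₂} (h1 : Rel A B x₁ y₁) (h2 : Rel A B x₂ y₂) :
    Commute x₁ x₂ ↔ Commute y₁ y₂ := by
  by_cases n1 : Commute A.l x₁
  · exact h1.comm_near n1 h2
  by_cases n2 : Commute A.l x₂
  · rw [Commute.symm_iff, Commute.symm_iff (a := y₁)]; exact h2.comm_near n2 h1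
  have hl : Rel A B A.l B.l := Or.inl ⟨rfl, rfl⟩
  exact ⟨h1.comm_far h2 n1 n2, h1.symm.comm_far h2.symm
    (fun e => n1 ((hl.comm_near (Commute.refl _) h1).2 e))
    (fun e => n2 ((hl.comm_near (Commute.refl _) h2).2 e))⟩

end CfsgLib.Trans3.FiConf
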