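import Cfsg.Agent.Lib.Trans3.FiConf.Central

/-!
# A lighter evaluation of the rewriting checker for the nine nodes
-/

set_option autoImplicit false

namespace CfsgLib.Trans3.FiConf

open CfsgLib.Trans3.Spider

/-- The labels of the nine nodes, two bits for each pair. -/
def labTab : ℕ := 675049909875759773411763293057924411094048770956878749035693

/-- The label of two of the nine nodes. -/
def labT (x y : ℕ) : ℕ := bif Nat.blt x 10 && Nat.blt y 10 then labTab / 4 ^ (10 * x + y) % 4 else 0

theorem labT_small : ∀ x : Fin 10, ∀ y : Fin 10, lab9 x.val y.val = labT x.val y.val := by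
  decide +kernel

theorem labT_eq (x y : ℕ) : lab9 x y = labT x y := by
  by_cases h : x < 10 ∧ y < 10
  · exact labT_small ⟨x, h.1⟩ ⟨y, h.2⟩
  · have hb : (Nat.blt x 10 && Nat.blt y 10) = false := by
      rw [Bool.eq_false_iff]
      intro e
      rw [Bool.and_eq_true] at e
      exact h ⟨Nat.le_of_ble_eq_true e.1, Nat.le_of_ble_eq_true e.2⟩
    rw [labT, hb, lab9, if_neg]
    · rfl
    · rintro ⟨hx, hy⟩
      simp only [nodes, List.mem_cons, List.not_mem_nil, or_false] at hx hy
      omega

/-- A move at the head. -/
def headF (k : ℕ) : List ℕ → Option (List ℕ)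
  | x :: y :: w =>
    bif Nat.beq k 1 then (bif Nat.beq x y then some w else none)
    else bif Nat.beq k 2 then (bif Nat.beq (labT x y) 2 then some (y :: x :: w) else none)
    else bif Nat.beq k 3 then
      match w with
      | z :: u => bif Nat.beq x z && Nat.beq (labT x y) 3 then some (y :: x :: y :: u) else none
      | [] => none
    else none
  | _ => none

/-- A move at a position. -/
noncomputable def moveF (p k : ℕ) : List ℕ → Option (List ℕ) :=
  Nat.rec (motive := fun _ => List ℕ → Option (List ℕ)) (headF k)
    (fun _ ih w => match w with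
      | [] => none
      | x :: t => (ih t).map (x :: ·)) p

theorem bif_beq {α : Type} (m n : ℕ) (a b : α) :
    (bif Nat.beq m n then a else b) = if m = n then a else b := by
  by_cases h : m = n
  · subst h; simp
  · rw [if_neg h, Bool.eq_false_iff.2 fun e => h (Nat.eq_of_beq_eq_true e)]; rfl

theorem bif_beq₂ {α : Type} (m n k l : ℕ) (a b : α) :
    (bif Nat.beq m n && Nat.beq k l then a else b) = if m = n ∧ k = l then a else b := by
  by_cases h : m = n ∧ k = l
  · obtain ⟨rfl, rfl⟩ := h; simp
  · have hb : (Nat.beq m n && Nat.beq k l) = false := by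
      rw [Bool.eq_false_iff]
      intro e
      rw [Bool.and_eq_true] at e
      exact h ⟨Nat.eq_of_beq_eq_true e.1, Nat.eq_of_beq_eq_true e.2⟩
    rw [if_neg h, hb]; rfl

theorem moveF_sound : ∀ (p k : ℕ) (w w' : List ℕ), moveF p k w = some w' → move lab9 p k w = some w'
  | 0, k, w, w', h => by
    change headF k w = some w' at h
    rcases w with _ | ⟨x, _ | ⟨y, v⟩⟩
    · simp [headF] at h
    · simp [headF] at h
    simp only [headF, bif_beq] at h
    by_cases h1 : k = 1
    · subst h1
      simpa [move] using h
    by_cases h2 : k = 2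
    · subst h2
      simpa [move, labT_eq] using h
    by_cases h3 : k = 3
    · subst h3
      rcases v with _ | ⟨z, u⟩
      · simp at h
      · simpa [bif_beq₂, move, labT_eq] using h
    simp [h1, h2, h3] at h
  | p + 1, k, [], w', h => by simp [moveF] at h
  | p + 1, k, x :: t, w', h => by
    change (moveF p k t).map (x :: ·) = some w' at h
    obtain ⟨u, hu, rfl⟩ := Option.map_eq_some_iff.1 h
    simp [move, moveF_sound p k t u hu]

theorem moveF_append (k : ℕ) (R : List ℕ) : ∀ A : List ℕ,
    moveF A.length k (A ++ R) = (headF k R).map (A ++ ·)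
  | [] => by
    show headF k R = _
    cases headF k R <;> rfl
  | x :: A => by
    show (moveF A.length k (A ++ R)).map (x :: ·) = _
    rw [moveF_append k R A]
    cases headF k R <;> rfl

/-- Continue with the evaluated number. -/
def withNat (n : ℕ) (f : ℕ → Bool) : Bool :=
  match n with
  | 0 => f 0
  | m + 1 => f (m + 1)

theorem withNat_eq (n : ℕ) (f : ℕ → Bool) : withNat n f = f n := by cases n <;> rfl

/-- Move the cursor to the left. -/
noncomputable def back (K : List ℕ → List ℕ → Bool) (n : ℕ) : List ℕ → List ℕ → Bool :=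
  Nat.rec (motive := fun _ => List ℕ → List ℕ → Bool) K
    (fun _ ih L R => List.rec (motive := fun _ => Bool) false (fun x t _ => ih t (x :: R)) L) n

/-- Move the cursor to the right. -/
noncomputable def fwd (K : List ℕ → List ℕ → Bool) (n : ℕ) : List ℕ → List ℕ → Bool :=
  Nat.rec (motive := fun _ => List ℕ → List ℕ → Bool) K
    (fun _ ih L R => List.rec (motive := fun _ => Bool) false (fun x t _ => ih (x :: L) t) R) n

/-- Run moves with a cursor; `p` is the length of the reversed prefix `L`. -/
noncomputable def runZ (ms : List ℕ) : List ℕ → ℕ → List ℕ → Bool :=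
  List.rec (motive := fun _ => List ℕ → ℕ → List ℕ → Bool) (fun L _ R => L.isEmpty && R.isEmpty)
    (fun m _ ih L p R => withNat m fun m' => withNat (m' / 4) fun q =>
      back (fun L₁ R₁ => fwd (fun L₂ R₂ => match headF (m' % 4) R₂ with
        | none => false
        | some R₃ => ih L₂ q R₃) (q - p) L₁ R₁) (p - q) L R) ms

theorem back_sound {K : List ℕ → List ℕ → Bool} : ∀ (n : ℕ) (L R : List ℕ), back K n L R = true →
    ∃ L' R', L'.reverse ++ R' = L.reverse ++ R ∧ L'.length + n = L.length ∧ K L' R' = true
  | 0, L, R, h => ⟨L, R, rfl, rfl, h⟩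
  | n + 1, [], R, h => by simp [back] at h
  | n + 1, x :: t, R, h => by
    obtain ⟨L', R', e1, e2, e3⟩ := back_sound n t (x :: R) h
    exact ⟨L', R', by simpa using e1, by simp only [List.length_cons]; omega, e3⟩

theorem fwd_sound {K : List ℕ → List ℕ → Bool} : ∀ (n : ℕ) (L R : List ℕ), fwd K n L R = true →
    ∃ L' R', L'.reverse ++ R' = L.reverse ++ R ∧ L'.length = L.length + n ∧ K L' R' = true
  | 0, L, R, h => ⟨L, R, rfl, rfl, h⟩
  | n + 1, L, [], h => by simp [fwd] at h
  | n + 1, L, x :: t, h => by
    obtain ⟨L', R', e1, e2, e3⟩ := fwd_sound n (x :: L) t h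
    exact ⟨L', R', by simpa using e1, by simp only [List.length_cons] at e2; omega, e3⟩

theorem runZ_sound : ∀ (ms L R : List ℕ), runZ ms L L.length R = true →
    moves lab9 ms (L.reverse ++ R) = some []
  | [], L, R, h => by
    change (L.isEmpty && R.isEmpty) = true at h
    rcases L with _ | _ <;> rcases R with _ | _ <;> simp [moves] at h ⊢
  | m :: ms, L, R, h => by
    change withNat m (fun m' => withNat (m' / 4) fun q =>
      back (fun L₁ R₁ => fwd (fun L₂ R₂ => match headF (m' % 4) R₂ with
        | none => false
        | some R₃ => runZ ms L₂ q R₃) (q - L.length) L₁ R₁) (L.length - q) L R) = true at h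
    rw [withNat_eq, withNat_eq] at h
    obtain ⟨L₁, R₁, e₁, n₁, h₁⟩ := back_sound _ _ _ h
    obtain ⟨L₂, R₂, e₂, n₂, h₂⟩ := fwd_sound _ _ _ h₁
    have hlen : L₂.length = m / 4 := by omega
    rcases hh : headF (m % 4) R₂ with _ | R₃
    · simp [hh] at h₂
    simp only [hh] at h₂
    rw [show (m / 4) = L₂.length from hlen.symm] at h₂
    have hm : moveF (m / 4) (m % 4) (L.reverse ++ R) = some (L₂.reverse ++ R₃) := by
      rw [← e₁, ← e₂, ← hlen, show L₂.length = L₂.reverse.length by simp, moveF_append, hh]
      rfl
    simp [moves, moveF_sound _ _ _ _ hm]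
    exact runZ_sound ms L₂ R₃ h₂

/-- The test that moves remove a word. -/
noncomputable def erases (ms w : List ℕ) : Bool := runZ ms [] 0 w

theorem erases_sound {ms w : List ℕ} (h : erases ms w = true) : moves lab9 ms w = some [] :=
  runZ_sound ms [] w h

end CfsgLib.Trans3.FiConf
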