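import Cfsg.Agent.Lib.Trans3.FiConf.Radical
import Cfsg.Agent.Lib.Trans3.FiConf.MovesFast

/-! Kernel checks of the rewriting data. -/

set_option autoImplicit false
set_option maxRecDepth 100000

namespace CfsgLib.Trans3.FiConf

open CfsgLib.InvChar.Coset CfsgLib.Trans3.Spider

theorem tw_eq : ∀ j : Fin 6, Data.tw.getD j.val [] = Data.tconj.getD j.val [] ++ [2] ++
    Data.theta ++ (Data.tconj.getD j.val []).reverse := by
  decide +kernel

theorem comm_test : ∀ i j : Fin 6, erases (Data.mvComm.getD (6 * i.val + j.val) [])
    (Data.tw.getD i.val [] ++ Data.tw.getD j.val [] ++ (Data.tw.getD i.val []).reverse ++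
      (Data.tw.getD j.val []).reverse) = true := by
  decide +kernel

theorem comm_ok : ∀ i j : Fin 6, moves lab9 (Data.mvComm.getD (6 * i.val + j.val) [])
    (Data.tw.getD i.val [] ++ Data.tw.getD j.val [] ++ (Data.tw.getD i.val []).reverse ++
      (Data.tw.getD j.val []).reverse) = some [] :=
  fun i j => erases_sound (comm_test i j)

theorem act_test : ∀ i < 6, ∀ j : Fin 6, erases (Data.mvAct.getD (6 * i + j.val) [])
    ([six.getD i 0] ++ Data.tw.getD j.val [] ++ [six.getD i 0] ++
      (powWord fun k => ((Data.mat.getD i []).getD j.val []).getD k.val 0).reverse) = true := by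
  decide +kernel

theorem act_ok : ∀ i < 6, ∀ j : Fin 6, actOK i j = true := fun i hi j =>
  decide_eq_true (erases_sound (act_test i hi j))

theorem sylGens_six : ∀ k < 2, ∀ x ∈ Data.sylGens.getD k [], x ∈ six := by
  decide +kernel

theorem sylPath_eq : ∀ k < 81, Data.sylWords.getD k [] =
    (Data.sylPath.getD k []).flatMap (fun g => Data.sylGens.getD g []) := by
  decide +kernel

theorem sylPath_lt : ∀ k < 81, ∀ g ∈ Data.sylPath.getD k [], g < 2 := by
  decide +kernel

theorem spider_test : erases Data.mvSp
    (spW ++ (powWord ![-3, -3, -1, 1, 1, 2]).reverse) = true := by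
  decide +kernel

theorem spider_ok : moves lab9 Data.mvSp
    (spW ++ (powWord ![-3, -3, -1, 1, 1, 2]).reverse) = some [] :=
  erases_sound spider_test

theorem spider_swap_test : erases Data.mvSp2
    (spW.map swapArms ++ (powWord ![-6, -3, -5, -1, -1, 1]).reverse) = true := by
  decide +kernel

theorem spider_swap_ok : moves lab9 Data.mvSp2
    (spW.map swapArms ++ (powWord ![-6, -3, -5, -1, -1, 1]).reverse) = some [] :=
  erases_sound spider_swap_test

end CfsgLib.Trans3.FiConf
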