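import Cfsg.Agent.Lib.Trans3.FiConf.Adj24

/-!
Any two centreless groups of type M(24) are isomorphic as groups generated by transpositions.
-/

set_option autoImplicit false
set_option linter.unusedSectionVars false
set_option maxRecDepth 100000

namespace CfsgLib.Trans3.FiConf

open CfsgLib.InvChar.Coset CfsgLib.Trans3.Fi CfsgLib.Trans3.Spider

theorem exists_marked {G : Type*} [Group G] [Finite G] {D : Set G}
    (hD : Cfsg.IsThreeTranspositionGroup D) (hP : Cfsg.IsPrimitiveUnderConj D)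
    (h : Cfsg.IsOfTypeM24 G D) : Nonempty (Marked D) := by
  obtain ⟨l, hl, -⟩ := (nice_m24 hD hP h).pair
  obtain ⟨k, p, j, s, hc⟩ := exists_cfg24 hD hP h hl
  obtain ⟨ι, hι⟩ := exists_iota hD hP h hc
  exact ⟨⟨hD, hP, h, l, k, p, j, s, hc, ι, hι⟩⟩

section

variable {G₁ G₂ : Type*} [Group G₁] [Finite G₁] [Group G₂] [Finite G₂] {D₁ : Set G₁} {D₂ : Set G₂}
variable {A : Marked D₁} {B : Marked D₂}

/-- The correspondence respects conjugation of members. -/
theorem Rel.conj {x z : G₁} {x' z' : G₂} (hx : Rel A B x x') (hz : Rel A B z z') :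
    Rel A B (x * z * x) (x' * z' * x') := by
  by_cases hc : Commute x z
  · rw [hc.eq, mul_assoc, Trans3.sq_one A.hD.1 hx.mem, mul_one, ((hx.comm hz).1 hc).eq, mul_assoc,
      Trans3.sq_one B.hD.1 hx.symm.mem, mul_one]
    exact hz
  have hc' : ¬ Commute x' z' := fun e => hc ((hx.comm hz).2 e)
  have hw : x * z * x ∈ D₁ := self_conj_mem A.hD hx.mem hz.mem
  obtain ⟨w', hw'⟩ := Rel.total A B hw
  have hxe := Trans3.sq_one A.hD.1 hx.mem
  have ne1 : x * z * x ≠ x := fun e => hc (by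
    have h2 : z = x := by
      calc z = (x * x) * z * (x * x) := by rw [hxe, one_mul, mul_one]
        _ = x * (x * z * x) * x := by group
        _ = x := by rw [e, hxe, one_mul]
    rw [h2])
  have ne2 : x * z * x ≠ z := fun e => hc (by
    show x * z = z * x
    calc x * z = x * z * (x * x) := by rw [hxe, mul_one]
      _ = (x * z * x) * x := by group
      _ = z * x := by rw [e])
  have hall : ∀ c ∈ D₂, Commute c x' → Commute c z' → Commute c w' := by
    intro c hc2 cx cz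
    obtain ⟨c₀, hc₀⟩ := Rel.total B A hc2
    have c1 := (hc₀.symm.comm hx).2 cx
    have c3 := (hc₀.symm.comm hz).2 cz
    exact (hc₀.symm.comm hw').1 ((c1.mul_right c3).mul_right c1)
  rcases (lvl_m24 B.hD B.hP B.h).hyper x' z' w' hx.symm.mem hz.symm.mem hw'.symm.mem hc' hall with
    e | e | e
  · exact absurd (hw'.symm.unique (e ▸ hx.symm)) ne1
  · exact absurd (hw'.symm.unique (e ▸ hz.symm)) ne2
  · exact e ▸ hw'

/-- The isomorphism. -/
theorem exists_iso (A : Marked D₁) (B : Marked D₂) (hZ₁ : Subgroup.center G₁ = ⊥)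
    (hZ₂ : Subgroup.center G₂ = ⊥) : ∃ e : G₁ ≃* G₂, e '' D₁ = D₂ := by
  obtain ⟨K, eK⟩ : ∃ K : Subgroup (G₁ × G₂), K = Subgroup.closure {q | Rel A B q.1 q.2} := ⟨_, rfl⟩
  have hgen : ∀ {q : G₁ × G₂}, Rel A B q.1 q.2 → q ∈ K := fun hq => eK ▸ Subgroup.subset_closure hq
  have hK : ∀ q ∈ K, ∀ (x : G₁) (y : G₂),
      Rel A B x y ↔ Rel A B (q.1 * x * q.1⁻¹) (q.2 * y * q.2⁻¹) := by
    intro q hq
    rw [eK] at hq
    induction hq using Subgroup.closure_induction with
    | mem q hq =>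
      intro x y
      have h1 : q.1⁻¹ = q.1 := inv_eq A.hD.1 hq.mem
      have h2 : q.2⁻¹ = q.2 := inv_eq B.hD.1 hq.symm.mem
      have s1 := Trans3.sq_one A.hD.1 hq.mem
      have s2 := Trans3.sq_one B.hD.1 hq.symm.mem
      rw [h1, h2]
      refine ⟨hq.conj, fun h => ?_⟩
      have := hq.conj h
      rwa [show q.1 * (q.1 * x * q.1) * q.1 = q.1 * q.1 * x * (q.1 * q.1) by group,
        show q.2 * (q.2 * y * q.2) * q.2 = q.2 * q.2 * y * (q.2 * q.2) by group,
        s1, s2, one_mul, mul_one, one_mul, mul_one] at this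
    | one => intro x y; simp
    | mul a b _ _ ha hb =>
      intro x y
      rw [hb x y, ha, Prod.fst_mul, Prod.snd_mul]
      simp only [mul_inv_rev, mul_assoc]
    | inv a _ ha =>
      intro x y
      rw [ha (a⁻¹.1 * x * a⁻¹.1⁻¹) (a⁻¹.2 * y * a⁻¹.2⁻¹), Prod.fst_inv, Prod.snd_inv,
        show a.1 * (a.1⁻¹ * x * a.1⁻¹⁻¹) * a.1⁻¹ = x by group,
        show a.2 * (a.2⁻¹ * y * a.2⁻¹⁻¹) * a.2⁻¹ = y by group]
  have triv₂ : ∀ q ∈ K, q.1 = 1 → q.2 = 1 := by
    intro q hq h1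
    have hc : q.2 ∈ Subgroup.center G₂ := by
      rw [Subgroup.mem_center_iff]
      intro g
      have hg : g ∈ Subgroup.closure D₂ := B.hD.2.2 ▸ Subgroup.mem_top g
      induction hg using Subgroup.closure_induction with
      | mem y hy =>
        obtain ⟨x, hx⟩ := Rel.total B A hy
        have := (hK q hq x y).1 hx.symm
        rw [h1, one_mul, inv_one, mul_one] at this
        exact (commute_of_conj_eq (this.unique hx.symm)).symm.eq
      | one => simp
      | mul a b _ _ ha hb => rw [mul_assoc, hb, ← mul_assoc, ha, mul_assoc]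
      | inv a _ ha => exact (Commute.inv_left ha).eq
    rwa [hZ₂, Subgroup.mem_bot] at hc
  have triv₁ : ∀ q ∈ K, q.2 = 1 → q.1 = 1 := by
    intro q hq h2
    have hc : q.1 ∈ Subgroup.center G₁ := by
      rw [Subgroup.mem_center_iff]
      intro g
      have hg : g ∈ Subgroup.closure D₁ := A.hD.2.2 ▸ Subgroup.mem_top g
      induction hg using Subgroup.closure_induction with
      | mem x hx' =>
        obtain ⟨y, hy⟩ := Rel.total A B hx'
        have := (hK q hq x y).1 hy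
        rw [h2, one_mul, inv_one, mul_one] at this
        exact (commute_of_conj_eq (this.symm.unique hy.symm)).symm.eq
      | one => simp
      | mul a b _ _ ha hb => rw [mul_assoc, hb, ← mul_assoc, ha, mul_assoc]
      | inv a _ ha => exact (Commute.inv_left ha).eq
    rwa [hZ₁, Subgroup.mem_bot] at hc
  let p₁ : ↥K →* G₁ := (MonoidHom.fst G₁ G₂).comp K.subtype
  let p₂ : ↥K →* G₂ := (MonoidHom.snd G₁ G₂).comp K.subtype
  have i1 : Function.Injective p₁ := (injective_iff_map_eq_one p₁).2 fun q hq =>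
    Subtype.ext (Prod.ext hq (triv₂ q.1 q.2 hq))
  have i2 : Function.Injective p₂ := (injective_iff_map_eq_one p₂).2 fun q hq =>
    Subtype.ext (Prod.ext (triv₁ q.1 q.2 hq) hq)
  have s1 : Function.Surjective p₁ := by
    rw [← MonoidHom.range_eq_top, eq_top_iff, ← A.hD.2.2, Subgroup.closure_le]
    intro x hx
    obtain ⟨y, hy⟩ := Rel.total A B hx
    exact ⟨⟨(x, y), hgen hy⟩, rfl⟩
  have s2 : Function.Surjective p₂ := by
    rw [← MonoidHom.range_eq_top, eq_top_iff, ← B.hD.2.2, Subgroup.closure_le]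
    intro y hy
    obtain ⟨x, hx⟩ := Rel.total B A hy
    exact ⟨⟨(x, y), hgen hx.symm⟩, rfl⟩
  refine ⟨(MulEquiv.ofBijective p₁ ⟨i1, s1⟩).symm.trans (MulEquiv.ofBijective p₂ ⟨i2, s2⟩), ?_⟩
  have key : ∀ {x : G₁} {y : G₂}, Rel A B x y →
      ((MulEquiv.ofBijective p₁ ⟨i1, s1⟩).symm.trans (MulEquiv.ofBijective p₂ ⟨i2, s2⟩)) x = y := by
    intro x y hxy
    have e : (MulEquiv.ofBijective p₁ ⟨i1, s1⟩).symm x = ⟨(x, y), hgen hxy⟩ := by
      rw [MulEquiv.symm_apply_eq]; rfl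
    rw [MulEquiv.trans_apply, e]; rfl
  refine Set.Subset.antisymm ?_ fun y hy => ?_
  · rintro _ ⟨x, hx, rfl⟩
    obtain ⟨y, hy⟩ := Rel.total A B hx
    rw [key hy]; exact hy.symm.mem
  · obtain ⟨x, hx⟩ := Rel.total B A hy
    exact ⟨x, hx.symm.mem, key hx.symm⟩

end

/-- Groups of type M(24) are isomorphic. -/
theorem m24_iso {G₁ G₂ : Type*} [Group G₁] [Finite G₁] [Group G₂] [Finite G₂] {D₁ : Set G₁}
    {D₂ : Set G₂} (hD₁ : Cfsg.IsThreeTranspositionGroup D₁) (hP₁ : Cfsg.IsPrimitiveUnderConj D₁)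
    (h₁ : Cfsg.IsOfTypeM24 G₁ D₁) (hZ₁ : Subgroup.center G₁ = ⊥)
    (hD₂ : Cfsg.IsThreeTranspositionGroup D₂) (hP₂ : Cfsg.IsPrimitiveUnderConj D₂)
    (h₂ : Cfsg.IsOfTypeM24 G₂ D₂) (hZ₂ : Subgroup.center G₂ = ⊥) :
    ∃ e : G₁ ≃* G₂, e '' D₁ = D₂ :=
  (exists_marked hD₁ hP₁ h₁).elim fun A => (exists_marked hD₂ hP₂ h₂).elim fun B =>
    exists_iso A B hZ₁ hZ₂

end CfsgLib.Trans3.FiConf
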