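import Mathlib.Data.Nat.Notation

/-! A Sylow `3`-subgroup of `W(E₆)` as words. -/

set_option autoImplicit false

namespace CfsgLib.Trans3.FiConf.Data

/-- generators -/
def sylGens : List (List ℕ) := [[1, 0], [7, 8, 0, 7, 5, 6, 0, 5]]

/-- elements -/
def sylWords : List (List ℕ) := [[], [1, 0], [7, 8, 0, 7, 5, 6, 0, 5], [1, 0, 1, 0], [1, 0, 7, 8, 0, 7, 5, 6, 0, 5], [7, 8, 0, 7, 5, 6, 0, 5, 1, 0], [7, 8, 0, 7, 5, 6, 0, 5, 7, 8, 0, 7, 5, 6, 0, 5], [1, 0, 1, 0, 7, 8, 0, 7, 5, 6, 0, 5], [1, 0, 7, 8, 0, 7, 5, 6, 0, 5, 1, 0], [1, 0, 7, 8, 0, 7, 5, 6, 0, 5, 7, 8, 0, 7, 5, 6, 0, 5], [7, 8, 0, 7, 5, 6, 0, 5, 1, 0, 1, 0], [7, 8, 0, 7, 5, 6, 0, 5, 1, 0, 7, 8, 0,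 7, 5, 6, 0, 5], [7, 8, 0, 7, 5, 6, 0, 5, 7, 8, 0, 7, 5, 6, 0, 5, 1, 0], [1, 0, 1, 0, 7, 8, 0, 7, 5, 6, 0, 5, 1, 0], [1, 0, 1, 0, 7, 8, 0, 7, 5, 6, 0, 5, 7, 8, 0, 7, 5, 6, 0, 5], [1, 0, 7, 8, 0, 7, 5, 6, 0, 5, 1, 0, 1, 0], [1, 0, 7, 8, 0, 7, 5, 6, 0, 5, 1, 0, 7, 8, 0, 7, 5, 6, 0, 5], [1, 0, 7, 8, 0, 7, 5, 6, 0, 5, 7, 8, 0, 7, 5, 6, 0, 5, 1, 0], [7, 8, 0, 7, 5, 6, 0, 5, 1, 0, 1, 0, 7, 8, 0, 7, 5, 6, 0, 5], [7, 8, 0, 7, 5, 6, 0, 5, 1, 0, 7, 8, 0, 7, 5, 6, 0, 5, 1, 0], [7, 8, 0, 7, 5, 6, 0, 5, 1, 0, 7, 8, 0, 7, 5, 6, 0, 5, 7, 8, 0, 7, 5, 6, 0, 5], [7, 8, 0, 7, 5, 6, 0, 5, 7, 8, 0, 7, 5, 6, 0, 5, 1, 0, 1, 0], [7, 8, 0, 7, 5, 6, 0, 5, 7, 8, 0, 7, 5, 6, 0, 5,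 1, 0, 7, 8, 0, 7, 5, 6, 0, 5], [1, 0, 1, 0, 7, 8, 0, 7, 5, 6, 0, 5, 1, 0, 1, 0], [1, 0, 1, 0, 7, 8, 0, 7, 5, 6, 0, 5, 1, 0, 7, 8, 0, 7, 5, 6, 0, 5], [1, 0, 1, 0, 7, 8, 0, 7, 5, 6, 0, 5, 7, 8, 0, 7, 5, 6, 0, 5, 1, 0], [1, 0, 7, 8, 0, 7, 5, 6, 0, 5, 1, 0, 1, 0, 7, 8, 0, 7, 5, 6, 0, 5], [1, 0, 7, 8, 0, 7, 5, 6, 0, 5, 1, 0, 7, 8, 0, 7, 5, 6, 0, 5, 1, 0], [1, 0, 7, 8, 0, 7, 5, 6, 0, 5, 1, 0, 7, 8, 0, 7, 5, 6, 0, 5, 7, 8, 0, 7, 5, 6, 0, 5], [1, 0, 7, 8, 0, 7, 5, 6, 0, 5, 7, 8, 0, 7, 5, 6, 0, 5, 1, 0, 1, 0], [1, 0, 7, 8, 0, 7, 5, 6, 0, 5, 7, 8, 0, 7, 5, 6, 0, 5, 1, 0, 7, 8, 0, 7, 5, 6, 0, 5], [7, 8, 0, 7, 5, 6, 0, 5, 1, 0, 1, 0, 7, 8, 0, 7, 5, 6, 0, 5, 1, 0],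 [7, 8, 0, 7, 5, 6, 0, 5, 1, 0, 1, 0, 7, 8, 0, 7, 5, 6, 0, 5, 7, 8, 0, 7, 5, 6, 0, 5], [7, 8, 0, 7, 5, 6, 0, 5, 1, 0, 7, 8, 0, 7, 5, 6, 0, 5, 1, 0, 1, 0], [7, 8, 0, 7, 5, 6, 0, 5, 1, 0, 7, 8, 0, 7, 5, 6, 0, 5, 1, 0, 7, 8, 0, 7, 5, 6, 0, 5], [7, 8, 0, 7, 5, 6, 0, 5, 7, 8, 0, 7, 5, 6, 0, 5, 1, 0, 1, 0, 7, 8, 0, 7, 5, 6, 0, 5], [7, 8, 0, 7, 5, 6, 0, 5, 7, 8, 0, 7, 5, 6, 0, 5, 1, 0, 7, 8, 0, 7, 5, 6, 0, 5, 7, 8, 0, 7, 5, 6, 0, 5], [1, 0, 1, 0, 7, 8, 0, 7, 5, 6, 0, 5, 1, 0, 1, 0, 7, 8, 0, 7, 5, 6, 0, 5], [1, 0, 1, 0, 7, 8, 0, 7, 5, 6, 0, 5, 1, 0, 7, 8, 0, 7, 5, 6, 0, 5, 1, 0], [1, 0, 1, 0, 7, 8, 0, 7, 5, 6, 0, 5, 1, 0, 7, 8, 0, 7, 5, 6, 0, 5, 7, 8, 0, 7, 5, 6,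 0, 5], [1, 0, 1, 0, 7, 8, 0, 7, 5, 6, 0, 5, 7, 8, 0, 7, 5, 6, 0, 5, 1, 0, 1, 0], [1, 0, 1, 0, 7, 8, 0, 7, 5, 6, 0, 5, 7, 8, 0, 7, 5, 6, 0, 5, 1, 0, 7, 8, 0, 7, 5, 6, 0, 5], [1, 0, 7, 8, 0, 7, 5, 6, 0, 5, 1, 0, 1, 0, 7, 8, 0, 7, 5, 6, 0, 5, 1, 0], [1, 0, 7, 8, 0, 7, 5, 6, 0, 5, 1, 0, 1, 0, 7, 8, 0, 7, 5, 6, 0, 5, 7, 8, 0, 7, 5, 6, 0, 5], [1, 0, 7, 8, 0, 7, 5, 6, 0, 5, 1, 0, 7, 8, 0, 7, 5, 6, 0, 5, 1, 0, 1, 0], [1, 0, 7, 8, 0, 7, 5, 6, 0, 5, 1, 0, 7, 8, 0, 7, 5, 6, 0, 5, 1, 0, 7, 8, 0, 7, 5, 6, 0, 5], [1, 0, 7, 8, 0, 7, 5, 6, 0, 5, 7, 8, 0, 7, 5, 6, 0, 5, 1, 0, 1, 0, 7, 8, 0, 7, 5, 6, 0, 5], [1, 0, 7, 8, 0, 7, 5, 6, 0, 5, 7, 8, 0, 7, 5, 6, 0, 5, 1, 0, 7,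 8, 0, 7, 5, 6, 0, 5, 7, 8, 0, 7, 5, 6, 0, 5], [7, 8, 0, 7, 5, 6, 0, 5, 1, 0, 1, 0, 7, 8, 0, 7, 5, 6, 0, 5, 1, 0, 1, 0], [7, 8, 0, 7, 5, 6, 0, 5, 1, 0, 1, 0, 7, 8, 0, 7, 5, 6, 0, 5, 1, 0, 7, 8, 0, 7, 5, 6, 0, 5], [7, 8, 0, 7, 5, 6, 0, 5, 1, 0, 7, 8, 0, 7, 5, 6, 0, 5, 1, 0, 1, 0, 7, 8, 0, 7, 5, 6, 0, 5], [7, 8, 0, 7, 5, 6, 0, 5, 1, 0, 7, 8, 0, 7, 5, 6, 0, 5, 1, 0, 7, 8, 0, 7, 5, 6, 0, 5, 7, 8, 0, 7, 5, 6, 0, 5], [7, 8, 0, 7, 5, 6, 0, 5, 7, 8, 0, 7, 5, 6, 0, 5, 1, 0, 1, 0, 7, 8, 0, 7, 5, 6, 0, 5, 7, 8, 0, 7, 5, 6, 0, 5], [1, 0, 1, 0, 7, 8, 0, 7, 5, 6, 0, 5, 1, 0, 1, 0, 7, 8, 0, 7, 5, 6, 0, 5, 1, 0], [1, 0, 1, 0, 7, 8, 0, 7, 5, 6, 0, 5, 1, 0, 1, 0, 7, 8, 0,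 7, 5, 6, 0, 5, 7, 8, 0, 7, 5, 6, 0, 5], [1, 0, 1, 0, 7, 8, 0, 7, 5, 6, 0, 5, 1, 0, 7, 8, 0, 7, 5, 6, 0, 5, 1, 0, 1, 0], [1, 0, 1, 0, 7, 8, 0, 7, 5, 6, 0, 5, 1, 0, 7, 8, 0, 7, 5, 6, 0, 5, 1, 0, 7, 8, 0, 7, 5, 6, 0, 5], [1, 0, 1, 0, 7, 8, 0, 7, 5, 6, 0, 5, 7, 8, 0, 7, 5, 6, 0, 5, 1, 0, 1, 0, 7, 8, 0, 7, 5, 6, 0, 5], [1, 0, 1, 0, 7, 8, 0, 7, 5, 6, 0, 5, 7, 8, 0, 7, 5, 6, 0, 5, 1, 0, 7, 8, 0, 7, 5, 6, 0, 5, 7, 8, 0, 7, 5, 6, 0, 5], [1, 0, 7, 8, 0, 7, 5, 6, 0, 5, 1, 0, 1, 0, 7, 8, 0, 7, 5, 6, 0, 5, 1, 0, 1, 0], [1, 0, 7, 8, 0, 7, 5, 6, 0, 5, 1, 0, 1, 0, 7, 8, 0, 7, 5, 6, 0, 5, 1, 0, 7, 8, 0, 7, 5, 6, 0, 5], [1, 0, 7, 8, 0, 7, 5, 6, 0, 5, 1, 0, 7, 8, 0, 7, 5,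 6, 0, 5, 1, 0, 1, 0, 7, 8, 0, 7, 5, 6, 0, 5], [1, 0, 7, 8, 0, 7, 5, 6, 0, 5, 1, 0, 7, 8, 0, 7, 5, 6, 0, 5, 1, 0, 7, 8, 0, 7, 5, 6, 0, 5, 7, 8, 0, 7, 5, 6, 0, 5], [1, 0, 7, 8, 0, 7, 5, 6, 0, 5, 7, 8, 0, 7, 5, 6, 0, 5, 1, 0, 1, 0, 7, 8, 0, 7, 5, 6, 0, 5, 7, 8, 0, 7, 5, 6, 0, 5], [7, 8, 0, 7, 5, 6, 0, 5, 1, 0, 1, 0, 7, 8, 0, 7, 5, 6, 0, 5, 1, 0, 1, 0, 7, 8, 0, 7, 5, 6, 0, 5], [7, 8, 0, 7, 5, 6, 0, 5, 1, 0, 1, 0, 7, 8, 0, 7, 5, 6, 0, 5, 1, 0, 7, 8, 0, 7, 5, 6, 0, 5, 7, 8, 0, 7, 5, 6, 0, 5], [7, 8, 0, 7, 5, 6, 0, 5, 1, 0, 7, 8, 0, 7, 5, 6, 0, 5, 1, 0, 1, 0, 7, 8, 0, 7, 5, 6, 0, 5, 7, 8, 0, 7, 5, 6, 0, 5], [1, 0, 1, 0, 7, 8, 0, 7, 5, 6, 0, 5, 1, 0, 1, 0, 7, 8,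 0, 7, 5, 6, 0, 5, 1, 0, 1, 0], [1, 0, 1, 0, 7, 8, 0, 7, 5, 6, 0, 5, 1, 0, 1, 0, 7, 8, 0, 7, 5, 6, 0, 5, 1, 0, 7, 8, 0, 7, 5, 6, 0, 5], [1, 0, 1, 0, 7, 8, 0, 7, 5, 6, 0, 5, 1, 0, 7, 8, 0, 7, 5, 6, 0, 5, 1, 0, 1, 0, 7, 8, 0, 7, 5, 6, 0, 5], [1, 0, 1, 0, 7, 8, 0, 7, 5, 6, 0, 5, 1, 0, 7, 8, 0, 7, 5, 6, 0, 5, 1, 0, 7, 8, 0, 7, 5, 6, 0, 5, 7, 8, 0, 7, 5, 6, 0, 5], [1, 0, 1, 0, 7, 8, 0, 7, 5, 6, 0, 5, 7, 8, 0, 7, 5, 6, 0, 5, 1, 0, 1, 0, 7, 8, 0, 7, 5, 6, 0, 5, 7, 8, 0, 7, 5, 6, 0, 5], [1, 0, 7, 8, 0, 7, 5, 6, 0, 5, 1, 0, 1, 0, 7, 8, 0, 7, 5, 6, 0, 5, 1, 0, 1, 0, 7, 8, 0, 7, 5, 6, 0, 5], [1, 0, 7, 8, 0, 7, 5, 6, 0, 5, 1, 0, 1, 0, 7, 8, 0, 7, 5, 6, 0, 5, 1, 0, 7,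 8, 0, 7, 5, 6, 0, 5, 7, 8, 0, 7, 5, 6, 0, 5], [1, 0, 7, 8, 0, 7, 5, 6, 0, 5, 1, 0, 7, 8, 0, 7, 5, 6, 0, 5, 1, 0, 1, 0, 7, 8, 0, 7, 5, 6, 0, 5, 7, 8, 0, 7, 5, 6, 0, 5], [7, 8, 0, 7, 5, 6, 0, 5, 1, 0, 1, 0, 7, 8, 0, 7, 5, 6, 0, 5, 1, 0, 1, 0, 7, 8, 0, 7, 5, 6, 0, 5, 7, 8, 0, 7, 5, 6, 0, 5], [1, 0, 1, 0, 7, 8, 0, 7, 5, 6, 0, 5, 1, 0, 1, 0, 7, 8, 0, 7, 5, 6, 0, 5, 1, 0, 1, 0, 7, 8, 0, 7, 5, 6, 0, 5], [1, 0, 1, 0, 7, 8, 0, 7, 5, 6, 0, 5, 1, 0, 1, 0, 7, 8, 0, 7, 5, 6, 0, 5, 1, 0, 7, 8, 0, 7, 5, 6, 0, 5, 7, 8, 0, 7, 5, 6, 0, 5], [1, 0, 1, 0, 7, 8, 0, 7, 5, 6, 0, 5, 1, 0, 7, 8, 0, 7, 5, 6, 0, 5, 1, 0, 1, 0, 7, 8, 0, 7, 5, 6, 0, 5, 7, 8, 0, 7, 5, 6, 0, 5], [1, 0,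 7, 8, 0, 7, 5, 6, 0, 5, 1, 0, 1, 0, 7, 8, 0, 7, 5, 6, 0, 5, 1, 0, 1, 0, 7, 8, 0, 7, 5, 6, 0, 5, 7, 8, 0, 7, 5, 6, 0, 5], [1, 0, 1, 0, 7, 8, 0, 7, 5, 6, 0, 5, 1, 0, 1, 0, 7, 8, 0, 7, 5, 6, 0, 5, 1, 0, 1, 0, 7, 8, 0, 7, 5, 6, 0, 5, 7, 8, 0, 7, 5, 6, 0, 5]]

/-- the elements as products of the generators -/
def sylPath : List (List ℕ) := [[], [0], [1], [0, 0], [0, 1], [1, 0], [1, 1], [0, 0, 1], [0, 1, 0], [0, 1, 1], [1, 0, 0], [1, 0, 1], [1, 1, 0], [0, 0, 1, 0], [0, 0, 1, 1], [0, 1, 0, 0], [0, 1, 0, 1], [0, 1, 1, 0], [1, 0, 0, 1], [1, 0, 1, 0], [1, 0, 1, 1], [1, 1, 0, 0], [1, 1, 0, 1], [0, 0, 1, 0, 0], [0, 0, 1, 0, 1], [0, 0, 1, 1, 0], [0, 1, 0, 0, 1], [0,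 1, 0, 1, 0], [0, 1, 0, 1, 1], [0, 1, 1, 0, 0], [0, 1, 1, 0, 1], [1, 0, 0, 1, 0], [1, 0, 0, 1, 1], [1, 0, 1, 0, 0], [1, 0, 1, 0, 1], [1, 1, 0, 0, 1], [1, 1, 0, 1, 1], [0, 0, 1, 0, 0, 1], [0, 0, 1, 0, 1, 0], [0, 0, 1, 0, 1, 1], [0, 0, 1, 1, 0, 0], [0, 0, 1, 1, 0, 1], [0, 1, 0, 0, 1, 0], [0, 1, 0, 0, 1, 1], [0, 1, 0, 1, 0, 0], [0, 1, 0, 1, 0, 1], [0, 1, 1, 0, 0, 1], [0, 1, 1, 0, 1, 1], [1, 0, 0, 1, 0, 0], [1, 0, 0, 1, 0, 1], [1, 0, 1, 0, 0, 1], [1, 0, 1, 0, 1, 1], [1, 1, 0, 0, 1, 1], [0, 0, 1, 0, 0, 1, 0], [0, 0, 1, 0, 0, 1, 1], [0, 0, 1, 0, 1, 0, 0], [0, 0, 1, 0, 1, 0, 1], [0, 0, 1, 1, 0, 0, 1], [0, 0, 1, 1, 0, 1, 1], [0, 1, 0, 0, 1, 0, 0], [0, 1, 0, 0, 1,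 0, 1], [0, 1, 0, 1, 0, 0, 1], [0, 1, 0, 1, 0, 1, 1], [0, 1, 1, 0, 0, 1, 1], [1, 0, 0, 1, 0, 0, 1], [1, 0, 0, 1, 0, 1, 1], [1, 0, 1, 0, 0, 1, 1], [0, 0, 1, 0, 0, 1, 0, 0], [0, 0, 1, 0, 0, 1, 0, 1], [0, 0, 1, 0, 1, 0, 0, 1], [0, 0, 1, 0, 1, 0, 1, 1], [0, 0, 1, 1, 0, 0, 1, 1], [0, 1, 0, 0, 1, 0, 0, 1], [0, 1, 0, 0, 1, 0, 1, 1], [0, 1, 0, 1, 0, 0, 1, 1], [1, 0, 0, 1, 0, 0, 1, 1], [0, 0, 1, 0, 0, 1, 0, 0, 1], [0, 0, 1, 0, 0, 1, 0, 1, 1], [0, 0, 1, 0, 1, 0, 0, 1, 1], [0, 1, 0, 0, 1, 0, 0, 1, 1], [0, 0, 1, 0, 0, 1, 0, 0, 1, 1]]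

/-- right multiplication by the generators -/
def sylStep : List (List ℕ) := [[1, 2], [3, 4], [5, 6], [0, 7], [8, 9], [10, 11], [12, 0], [13, 14], [15, 16], [17, 1], [2, 18], [19, 20], [21, 22], [23, 24], [25, 3], [4, 26], [27, 28], [29, 30], [31, 32], [33, 34], [28, 5], [6, 35], [30, 36], [7, 37], [38, 39], [40, 41], [42, 43], [44, 45], [39, 8], [9, 46], [41, 47], [48, 49], [43, 10], [11, 50], [45, 51], [46, 52], [51, 12], [53, 54], [55, 56], [20, 13], [14, 57], [22, 58], [59, 60], [54, 15], [16, 61], [56, 62], [57, 63], [62, 17], [18, 64], [60, 65], [61, 66], [65, 19], [66, 21], [67, 68], [32, 23], [24, 69], [34, 70], [35, 71], [70, 25], [26, 72], [68,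 73], [69, 74], [73, 27], [74, 29], [72, 75], [36, 31], [75, 33], [37, 76], [49, 77], [50, 78], [77, 38], [78, 40], [76, 79], [47, 42], [79, 44], [52, 48], [64, 80], [58, 53], [80, 55], [63, 59], [71, 67]]

end CfsgLib.Trans3.FiConf.Data
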