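import Cfsg.Agent.Lib.Trans3.FiConf.Central
import Cfsg.Agent.Lib.Trans3.FiConf.Sylow

/-!
# The translations of the affine subdiagram of type `Ẽ₆`

If `b θ` has order three and `3¹⁰` does not divide the order of the group, the translations generate a
group on which the radical vector is trivial, and so both spider relations hold.
-/

set_option autoImplicit false
set_option maxRecDepth 100000

namespace CfsgLib.Trans3.FiConf

open CfsgLib.InvChar.Coset CfsgLib.Trans3.Spider

/-- The vectors of exponents. -/
abbrev V6 := Fin 6 → ZMod 3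

/-- The six reflections. -/
def six : List ℕ := [0, 1, 5, 6, 7, 8]

/-- The action of the `i`-th of the six reflections on exponents. -/
def actI (i : ℕ) (v : V6) : V6 := fun k =>
  ∑ j : Fin 6, v j * ((((Data.mat.getD i []).getD j.val []).getD k.val 0 : ℤ) : ZMod 3)

/-- The action of a letter. -/
def actX (x : ℕ) (v : V6) : V6 := actI (six.idxOf x) v

/-- The action of a word. -/
def actW : List ℕ → V6 → V6
  | [], v => v
  | x :: w, v => actX x (actW w v)

/-- The unit vectors. -/
def unitV (j : Fin 6) : V6 := Pi.single j 1

/-- The radical vector. -/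
def rad : V6 := ![0, 0, 1, 2, 2, 1]

/-- A word with given integral exponents of the translations. -/
def powWord (n : Fin 6 → ℤ) : List ℕ :=
  (List.finRange 6).flatMap fun j =>
    rpt (n j).natAbs (if 0 ≤ n j then Data.tw.getD j.val [] else (Data.tw.getD j.val []).reverse)

/-- Test of an action certificate. -/
def actOK (i : ℕ) (j : Fin 6) : Bool :=
  decide (moves lab9 (Data.mvAct.getD (6 * i + j.val) [])
    ([six.getD i 0] ++ Data.tw.getD j.val [] ++ [six.getD i 0] ++
      (powWord fun k => ((Data.mat.getD i []).getD j.val []).getD k.val 0).reverse) = some [])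

theorem actI_add (i : ℕ) (v w : V6) : actI i (v + w) = actI i v + actI i w := by
  funext k; simp [actI, add_mul, Finset.sum_add_distrib]

theorem actI_zero (i : ℕ) : actI i 0 = 0 := by
  funext k; simp [actI]

theorem actI_unit (i : ℕ) (j k : Fin 6) :
    actI i (unitV j) k = ((((Data.mat.getD i []).getD j.val []).getD k.val 0 : ℤ) : ZMod 3) := by
  unfold actI unitV
  rw [Finset.sum_eq_single j (fun l _ hl => by simp [Pi.single_eq_of_ne hl])
    (fun h => absurd (Finset.mem_univ j) h), Pi.single_eq_same, one_mul]

/-- Continue with the evaluated argument. -/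
def forceN {α : Type} (n : ℕ) (f : ℕ → α) : α :=
  match n with
  | 0 => f 0
  | m + 1 => f (m + 1)

theorem forceN_eq {α : Type} (n : ℕ) (f : ℕ → α) : forceN n f = f n := by
  cases n <;> rfl

/-- Digit `j` to base four. -/
def dig (c j : ℕ) : ℕ := c / 4 ^ j % 4

/-- The only column of the `i`-th matrix that differs from the identity. -/
def col : List (List ℕ) :=
  [[2, 1, 1, 0, 1, 0], [1, 2, 0, 0, 0, 0], [1, 0, 2, 1, 0, 0], [0, 0, 1, 2, 0, 0],
    [1, 0, 0, 0, 2, 1], [0, 0, 0, 0, 1, 2]]

/-- The new digit. -/
def wsum (i c : ℕ) : ℕ :=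
  (dig c 0 * (col.getD i []).getD 0 0 + dig c 1 * (col.getD i []).getD 1 0 +
    dig c 2 * (col.getD i []).getD 2 0 + dig c 3 * (col.getD i []).getD 3 0 +
    dig c 4 * (col.getD i []).getD 4 0 + dig c 5 * (col.getD i []).getD 5 0) % 3

/-- The action on codes. -/
def stepC (i c : ℕ) : ℕ := c - dig c i * 4 ^ i + wsum i c * 4 ^ i

/-- The action of a word on codes. -/
def actC : List ℕ → ℕ → ℕ
  | [], c => c
  | x :: w, c => forceN (actC w c) fun d => stepC (six.idxOf x) d

/-- The vector of a code. -/
def toV (c : ℕ) : V6 := fun k => (dig c k.val : ZMod 3)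

theorem dig_stepC {i k : ℕ} (hi : i < 6) (hk : k < 6) (c : ℕ) :
    dig (stepC i c) k = if k = i then wsum i c else dig c k := by
  have hw : wsum i c < 3 := Nat.mod_lt _ (by norm_num)
  unfold stepC
  generalize wsum i c = a at hw ⊢
  unfold dig
  interval_cases i <;> interval_cases k <;> simp <;> omega

theorem col_eq : ∀ i < 6, ∀ j k : Fin 6,
    ((((Data.mat.getD i []).getD j.val []).getD k.val 0 : ℤ) : ZMod 3) =
      if k.val = i then (((col.getD i []).getD j.val 0 : ℕ) : ZMod 3) else if j = k then 1 else 0 := by
  decide +kernel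

theorem actI_apply {i : ℕ} (hi : i < 6) (v : V6) (k : Fin 6) : actI i v k =
    if k.val = i then ∑ j : Fin 6, v j * (((col.getD i []).getD j.val 0 : ℕ) : ZMod 3) else v k := by
  simp only [actI, col_eq i hi]
  split_ifs with h
  · rfl
  · simp

theorem toV_stepC {i : ℕ} (hi : i < 6) (c : ℕ) : toV (stepC i c) = actI i (toV c) := by
  funext k
  rw [actI_apply hi]
  show (dig (stepC i c) k.val : ZMod 3) = _
  rw [dig_stepC hi k.isLt]
  split_ifs with h
  · simp only [wsum, ZMod.natCast_mod, Fin.sum_univ_six, toV]
    push_cast
    rfl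
  · rfl

theorem toV_actC : ∀ w : List ℕ, (∀ x ∈ w, six.idxOf x < 6) → ∀ c, toV (actC w c) = actW w (toV c)
  | [], _, c => rfl
  | x :: w, hw, c => by
    rw [actC, forceN_eq, toV_stepC (hw x (List.mem_cons_self ..)), actW, actX,
      toV_actC w (fun y hy => hw y (List.mem_cons_of_mem _ hy)) c]

theorem toV_unit : ∀ j : Fin 6, toV (4 ^ j.val) = unitV j := by
  decide +kernel

/-- All letters are among the six. -/
def lettersOK (w : List ℕ) : Bool := w.all fun x => Nat.blt (six.idxOf x) 6

theorem actW_code {w : List ℕ} (hw : lettersOK w = true) (j : Fin 6) :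
    actW w (unitV j) = toV (actC w (4 ^ j.val)) := by
  rw [← toV_unit j, toV_actC]
  intro x hx
  exact Nat.le_of_ble_eq_true (List.all_eq_true.1 hw x hx)

theorem sylWords_letters : ∀ k < 81, lettersOK (Data.sylWords.getD k []) = true := by
  decide +kernel

theorem sylGens_letters : ∀ g < 2, lettersOK (Data.sylGens.getD g []) = true := by
  decide +kernel

/-- The test of one step. -/
def stepTest (k g : ℕ) : Bool :=
  Nat.blt ((Data.sylStep.getD k []).getD g 99) 81 && (List.range 6).all fun j =>
    Nat.beq (actC (Data.sylWords.getD k [] ++ Data.sylGens.getD g []) (4 ^ j))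
      (actC (Data.sylWords.getD ((Data.sylStep.getD k []).getD g 99) []) (4 ^ j))

theorem stepTest_ok : ∀ k < 81, ∀ g < 2, stepTest k g = true := by
  decide +kernel

theorem sylStep_ok : ∀ k < 81, ∀ g < 2, (Data.sylStep.getD k []).getD g 99 < 81 ∧ ∀ j : Fin 6,
    actW (Data.sylWords.getD k [] ++ Data.sylGens.getD g []) (unitV j) =
      actW (Data.sylWords.getD ((Data.sylStep.getD k []).getD g 99) []) (unitV j) := by
  intro k hk g hg
  have h := stepTest_ok k hk g hg
  simp only [stepTest, Bool.and_eq_true, List.all_eq_true, List.mem_range] at h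
  have hl : (Data.sylStep.getD k []).getD g 99 < 81 := Nat.le_of_ble_eq_true h.1
  refine ⟨hl, fun j => ?_⟩
  have hw : lettersOK (Data.sylWords.getD k [] ++ Data.sylGens.getD g []) = true := by
    simpa [lettersOK, List.all_append] using And.intro (sylWords_letters k hk) (sylGens_letters g hg)
  rw [actW_code hw, actW_code (sylWords_letters _ hl), Nat.eq_of_beq_eq_true (h.2 j.val j.isLt)]

theorem rad_eqs (a b c d e f : ZMod 3) (h0 : a + b + c + e = 0) (h1 : a + b = 0) (h2 : a + c + d = 0)
    (h3 : c + d = 0) (h5 : e + f = 0) : a = 0 ∧ b = 0 ∧ d = -c ∧ e = -c ∧ f = c :=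
  ⟨by linear_combination h2 - h3, by linear_combination h1 - h2 + h3, by linear_combination h3,
    by linear_combination h0 - h1, by linear_combination h5 - h0 + h1⟩

theorem rad_cases (v : V6) : v = 0 ∨ v = rad ∨ v = rad + rad ∨ ∃ i < 6, ∃ j : Fin 6,
    actI i v - v = unitV j ∨ actI i v - v = -unitV j := by
  by_cases hfix : ∀ i : Fin 6, actI i.val v i = v i
  · have h0 := hfix 0; have h1 := hfix 1; have h2 := hfix 2
    have h3 := hfix 3; have h4 := hfix 4; have h5 := hfix 5
    simp [actI_apply, col, Fin.sum_univ_six] at h0 h1 h2 h3 h4 h5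
    obtain ⟨ea, eb, ed, ee, ef⟩ := rad_eqs (v 0) (v 1) (v 2) (v 3) (v 4) (v 5) (by grind) (by grind)
      (by grind) (by grind) (by grind)
    have hv : v = ![0, 0, v 2, -v 2, -v 2, v 2] := by
      funext k
      fin_cases k <;> simp [ea, eb, ed, ee, ef]
    have hall : ∀ c : ZMod 3, (![0, 0, c, -c, -c, c] : V6) = 0 ∨ (![0, 0, c, -c, -c, c] : V6) = rad ∨
        (![0, 0, c, -c, -c, c] : V6) = rad + rad := by decide +kernel
    rw [hv]
    rcases hall (v 2) with e | e | e
    · exact Or.inl e
    · exact Or.inr (Or.inl e)
    · exact Or.inr (Or.inr (Or.inl e))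
  · push Not at hfix
    obtain ⟨i, hi⟩ := hfix
    refine Or.inr (Or.inr (Or.inr ⟨i.val, i.isLt, i, ?_⟩))
    have hs : actI i.val v - v = Pi.single i (actI i.val v i - v i) := by
      funext k
      rcases eq_or_ne k i with rfl | hk
      · simp
      · rw [Pi.single_eq_of_ne hk, Pi.sub_apply, actI_apply i.isLt,
          if_neg (fun e => hk (Fin.ext e)), sub_self]
    have hd : ∀ x : ZMod 3, x ≠ 0 → x = 1 ∨ x = -1 := by decide +kernel
    rcases hd _ (sub_ne_zero.2 hi) with e | e
    · exact Or.inl (by rw [hs, e]; rfl)
    · exact Or.inr (by rw [hs, e, Pi.single_neg]; rfl)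

/-- The normal form of a code. -/
def normC (c : ℕ) : ℕ :=
  dig c 0 % 3 + dig c 1 % 3 * 4 + dig c 2 % 3 * 16 + dig c 3 % 3 * 64 + dig c 4 % 3 * 256 +
    dig c 5 % 3 * 1024

theorem normC_congr {a b : ℕ} (h : toV a = toV b) : normC a = normC b := by
  have e : ∀ k : Fin 6, dig a k.val % 3 = dig b k.val % 3 := fun k =>
    (ZMod.natCast_eq_natCast_iff' _ _ _).1 (congrFun h k)
  simp [normC, show dig a 0 % 3 = _ from e 0, show dig a 1 % 3 = _ from e 1,
    show dig a 2 % 3 = _ from e 2, show dig a 3 % 3 = _ from e 3,
    show dig a 4 % 3 = _ from e 4, show dig a 5 % 3 = _ from e 5]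

/-- The key of a word. -/
def keyN (w : List ℕ) : ℕ :=
  (List.range 6).foldl (fun r j => forceN r fun r' => r' * 4096 + normC (actC w (4 ^ j))) 0

/-- The keys of the words. -/
def keyLit : List ℕ := [
  1154048505100108800, 11529497965229003776, 74225701380149018625, 4614501937500394496,
  74225701929904853002, 2851192913244212060161, 1180692406351287689280, 74225701861185359876,
  2851192912969334161418, 1180692406695036100672, 1796947970070375890945, 1180692567498450557353,
  3128164384937047314496, 2851192912900614668292, 1180692406420057526336, 1796947970620131725322,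
  1180692567017565198761, 3128164385074637246528, 1180692576294553134614, 3128164277872109193641,
  1154160008517293056, 413509628222016987200, 1154094203557800601, 1796947970551412232196,
  1180692567567220345257, 3128164384799658672192, 1180692575813667825174, 3128164278215857555881,
  11529609262487708672, 413509628565765398592, 11529542839052962457, 3128164273474056312342,
  1154052928221910016, 413509578262959905193, 1154135406934297241, 1154234941044687206,
  74225515797181796353, 1180692576363322971670, 3128164277940878993833, 4614613234759148544,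
  413509628290786824256, 4614547635958074009, 3128164273817804674582, 11529502388350755840,
  413509577782074546601, 11529584867063192217, 11529683576539861350, 74225515522303860746,
  413509587059049899542, 1154085432523295385, 1154065038192054630, 2851193008036705730561,
  74225560631498149889, 3128164273542826100246, 4614506360622195712, 413509578331729693097,
  4614588839334582937, 4614688373444972902, 74225515453584416772, 413509586578164590102,
  11529534068018469529, 11529514498320900454, 2851193007761827844106, 74225561181253935114,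
  1154226170014372198, 1796947797681547415553, 2851192983601776951297, 413509587127819736598,
  4614538864923581081, 4614518470592340326, 2851193007899266781188, 74225561112534491140,
  11529674805509497190, 1796947797406669479946, 2851192983326899064842, 1796947829321724235777,
  4614679602414657894, 1796947797337950035972, 2851192983258179571716, 1796947829871480021002,
  1796947829802760577028]

theorem keys_ok : ∀ k < 81, (Nat.beq (keyN (Data.sylWords.getD k [])) (keyLit.getD k 0) &&
    Nat.beq (keyLit.idxOf (keyLit.getD k 0)) k) = true := by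
  decide +kernel

theorem syl_inj : ∀ k < 81, ∀ l < 81,
    (∀ j : Fin 6, actW (Data.sylWords.getD k []) (unitV j) = actW (Data.sylWords.getD l []) (unitV j)) →
      k = l := by
  intro k hk l hl h
  have hkey : keyN (Data.sylWords.getD k []) = keyN (Data.sylWords.getD l []) := by
    have e : ∀ j : Fin 6, normC (actC (Data.sylWords.getD k []) (4 ^ j.val)) =
        normC (actC (Data.sylWords.getD l []) (4 ^ j.val)) := fun j => normC_congr <| by
      rw [← actW_code (sylWords_letters k hk), ← actW_code (sylWords_letters l hl), h j]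
    have e0 := e 0; have e1 := e 1; have e2 := e 2
    have e3 := e 3; have e4 := e 4; have e5 := e 5
    norm_num at e0 e1 e2 e3 e4 e5
    simp [keyN, List.range_succ, forceN_eq, e0, e1, e2, e3, e4, e5]
  have hk' := keys_ok k hk
  have hl' := keys_ok l hl
  simp only [Bool.and_eq_true] at hk' hl'
  rw [Nat.eq_of_beq_eq_true hk'.1, Nat.eq_of_beq_eq_true hl'.1] at hkey
  rw [← Nat.eq_of_beq_eq_true hk'.2, ← Nat.eq_of_beq_eq_true hl'.2, hkey]

end CfsgLib.Trans3.FiConf
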