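import Cfsg.Agent.Lib.Trans3.FiConf.U6Path

/-!
In `PSU₆(2)`: a member orthogonal to the four outer nodes of a path of five and not to the middle one
is one of two, and it commutes with one of the two extensions of the path.
-/

set_option autoImplicit false
set_option linter.unusedSectionVars false

namespace CfsgLib.Trans3.FiConf

open Matrix CfsgLib.MaxSub CfsgLib.Classical CfsgLib.Trans3.TvSU CfsgLib.Trans3.Fi

section Model

variable {F : Type*} [Field F] [Fintype F] (hF : Fintype.card F = 2 ^ 2)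
variable {Y : Type*} [Group Y] {D : Set Y} (f : ↥(Cfsg.SU 6 F 2) →* Y)
  (hf : Function.Surjective f) (hk : f.ker = Subgroup.center ↥(Cfsg.SU 6 F 2))
  (hD : Cfsg.IsThreeTranspositionGroup D)
include hF hf hk hD

theorem exists_pt_one {X : Y} (hX : X ∈ D) {v : Fin 6 → F} (hv : v ≠ 0) (hvv : hh v v = 0)
    (hn : ¬ Commute X (pt hF f v)) :
    ∃ x, x ≠ 0 ∧ hh x x = 0 ∧ hh v x = 1 ∧ X = pt hF f x := by
  obtain ⟨x, hx, hxx, rfl⟩ := exists_pt hF f hf hk hD hX
  rw [pt_commute hF f hk hx hv hxx hvv] at hn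
  refine ⟨(hh x v)⁻¹ • x, smul_ne_zero (inv_ne_zero hn) hx, ?_, hh_symm_one hF ?_,
    (pt_smul hF f hxx (inv_ne_zero hn)).symm⟩
  · rw [hh_smul_left hF, hh_smul_right hF, hxx, mul_zero, mul_zero]
  · rw [hh_smul_left hF, inv_mul_cancel₀ hn]

omit hf hk hD in
theorem sq_eq_self {x : F} (hx : x ≠ 0) (h : x ^ 2 = x) : x = 1 :=
  (fixed hF h).resolve_left hx

theorem three_outer {d e t h i x y z : Y} (hd : d ∈ D) (he : e ∈ D) (ht : t ∈ D) (hh' : h ∈ D)
    (hi : i ∈ D) (hx : x ∈ D) (hy : y ∈ D) (hz : z ∈ D) (te : ¬ Commute t e) (ed : ¬ Commute e d)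
    (dh : ¬ Commute d h) (hi' : ¬ Commute h i) (td : Commute t d) (th : Commute t h)
    (ti : Commute t i) (eh : Commute e h) (ei : Commute e i) (di : Commute d i)
    (xe : Commute x e) (xt : Commute x t) (xh : Commute x h) (xi : Commute x i) (xd : ¬ Commute x d)
    (ye : Commute y e) (yt : Commute y t) (yh : Commute y h) (yi : Commute y i) (yd : ¬ Commute y d)
    (ze : Commute z e) (zt : Commute z t) (zh : Commute z h) (zi : Commute z i) (zd : ¬ Commute z d)
    (hxy : x ≠ y) (hxz : x ≠ z) (hyz : y ≠ z) : False := by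
  obtain ⟨vd, d0, dd, rfl⟩ := exists_pt hF f hf hk hD hd
  obtain ⟨ve, e0, ee, rfl⟩ := exists_pt hF f hf hk hD he
  obtain ⟨vt, t0, tt, rfl⟩ := exists_pt hF f hf hk hD ht
  obtain ⟨vh, h0, h0h, rfl⟩ := exists_pt hF f hf hk hD hh'
  obtain ⟨vi, i0, ii, rfl⟩ := exists_pt hF f hf hk hD hi
  obtain ⟨vx, x0, xx, dx, rfl⟩ := exists_pt_one hF f hf hk hD hx d0 dd xd
  obtain ⟨vy, y0, yy, dy, rfl⟩ := exists_pt_one hF f hf hk hD hy d0 dd yd
  obtain ⟨vz, z0, zz, dz, rfl⟩ := exists_pt_one hF f hf hk hD hz d0 dd zd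
  rw [pt_commute hF f hk t0 e0 tt ee] at te
  rw [pt_commute hF f hk e0 d0 ee dd] at ed
  rw [pt_commute hF f hk d0 h0 dd h0h] at dh
  rw [pt_commute hF f hk h0 i0 h0h ii] at hi'
  rw [pt_commute hF f hk t0 d0 tt dd] at td
  rw [pt_commute hF f hk t0 h0 tt h0h] at th
  rw [pt_commute hF f hk t0 i0 tt ii] at ti
  rw [pt_commute hF f hk e0 h0 ee h0h] at eh
  rw [pt_commute hF f hk e0 i0 ee ii] at ei
  rw [pt_commute hF f hk d0 i0 dd ii] at di
  rw [pt_commute hF f hk x0 e0 xx ee] at xe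
  rw [pt_commute hF f hk x0 t0 xx tt] at xt
  rw [pt_commute hF f hk x0 h0 xx h0h] at xh
  rw [pt_commute hF f hk x0 i0 xx ii] at xi
  rw [pt_commute hF f hk y0 e0 yy ee] at ye
  rw [pt_commute hF f hk y0 t0 yy tt] at yt
  rw [pt_commute hF f hk y0 h0 yy h0h] at yh
  rw [pt_commute hF f hk y0 i0 yy ii] at yi
  rw [pt_commute hF f hk z0 e0 zz ee] at ze
  rw [pt_commute hF f hk z0 t0 zz tt] at zt
  rw [pt_commute hF f hk z0 h0 zz h0h] at zh
  rw [pt_commute hF f hk z0 i0 zz ii] at zi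
  have s0 := @hh_symm_zero F _ _ hF
  let v : Fin 6 → Fin 6 → F := ![vt, ve, vh, vi, vx, vy]
  have hsum : ∀ (k : Fin 6 → F) (w : Fin 6 → F), hh w (∑ j, k j • v j) =
      k 0 ^ 2 * hh w vt + k 1 ^ 2 * hh w ve + k 2 ^ 2 * hh w vh + k 3 ^ 2 * hh w vi +
        k 4 ^ 2 * hh w vx + k 5 ^ 2 * hh w vy := by
    intro k w
    simp only [Fin.sum_univ_six, hh_add_right hF, hh_smul_right hF, v]
    rfl
  -- coefficients from the pairings with the four outer nodes
  have four : ∀ k : Fin 6 → F, hh vt (∑ j, k j • v j) = 0 → hh vi (∑ j, k j • v j) = 0 →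
      k 1 = 0 ∧ k 2 = 0 := by
    intro k e1 e2
    rw [hsum] at e1 e2
    simp only [tt, th, ti, s0 xt, s0 yt, ii, s0 ti, s0 ei, s0 xi, s0 yi, mul_zero, add_zero,
      zero_add, mul_eq_zero, pow_eq_zero_iff two_ne_zero, te, mt s0 hi', or_false] at e1 e2
    exact ⟨e1, e2⟩
  have four' : ∀ k : Fin 6 → F, hh ve (∑ j, k j • v j) = 0 → hh vh (∑ j, k j • v j) = 0 →
      k 0 = 0 ∧ k 3 = 0 := by
    intro k e1 e2
    rw [hsum] at e1 e2
    simp only [ee, eh, ei, s0 xe, s0 ye, h0h, s0 th, s0 eh, s0 xh, s0 yh, mul_zero, add_zero,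
      zero_add, mul_eq_zero, pow_eq_zero_iff two_ne_zero, hi', mt s0 te, or_false] at e1 e2
    exact ⟨e1, e2⟩
  have hxy' : ∀ γ : F, vx ≠ γ • vy := by
    intro γ e
    by_cases hγ : γ = 0
    · exact x0 (by rw [e, hγ, zero_smul])
    · exact hxy (by rw [e, pt_smul hF f yy hγ])
  have hli : LinearIndependent F v := by
    rw [Fintype.linearIndependent_iff]
    intro k hk'
    obtain ⟨k1, k2⟩ := four k (by rw [hk', hh_zero_right hF]) (by rw [hk', hh_zero_right hF])
    obtain ⟨k0, k3⟩ := four' k (by rw [hk', hh_zero_right hF]) (by rw [hk', hh_zero_right hF])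
    simp only [Fin.sum_univ_six, v, k0, k1, k2, k3, zero_smul, zero_add] at hk'
    change k 4 • vx + k 5 • vy = 0 at hk'
    have k4 : k 4 = 0 := by
      by_contra h4
      refine hxy' ((k 4)⁻¹ * k 5) ?_
      have := congrArg ((k 4)⁻¹ • ·) (vec_eq_of_add hF _ _ hk')
      simpa [smul_smul, h4] using this
    have k5 : k 5 = 0 := by
      rw [k4, zero_smul, zero_add] at hk'
      exact (smul_eq_zero.1 hk').resolve_right y0
    intro j; fin_cases j
    exacts [k0, k1, k2, k3, k4, k5]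
  have hexp : ∀ w, ∃ k : Fin 6 → F, ∑ j, k j • v j = w := fun w =>
    Submodule.mem_span_range_iff_exists_fun F |>.1
      ((hli.span_eq_top_of_card_eq_finrank (by simp)) ▸ Submodule.mem_top)
  obtain ⟨k, hk'⟩ := hexp vd
  obtain ⟨k1, k2⟩ := four k (by rw [hk']; exact td) (by rw [hk']; exact s0 di)
  have ex := hsum k vx
  have ey := hsum k vy
  have ed' := hsum k vd
  rw [hk'] at ex ey ed'
  simp only [hh_symm_one hF dx, hh_symm_one hF dy, dd, s0 td, di, dx, dy, xe, xt, xh, xi, ye, yt,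
    yh, yi, xx, yy, k1, k2, zero_pow two_ne_zero, zero_mul, mul_zero, mul_one, add_zero, zero_add]
    at ex ey ed'
  have hk45 : k 4 ^ 2 = k 5 ^ 2 := by linear_combination -ed' - add_self hF (k 5 ^ 2)
  have m1 : hh vx vy = 1 := by
    have hm : hh vy vx = hh vx vy :=
      mul_left_cancel₀ (a := k 4 ^ 2) (fun e => one_ne_zero (ey.trans (by rw [e, zero_mul])))
        (ey.symm.trans (ex.trans (by rw [hk45])))
    refine sq_eq_self hF (fun e => one_ne_zero (ex.trans (by rw [e, mul_zero]))) ?_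
    rw [hh_conj hF]; exact hm
  obtain ⟨l, hl⟩ := hexp vz
  obtain ⟨l1, l2⟩ := four l (by rw [hl]; exact s0 zt) (by rw [hl]; exact s0 zi)
  obtain ⟨l0, l3⟩ := four' l (by rw [hl]; exact s0 ze) (by rw [hl]; exact s0 zh)
  have zx := hsum l vx
  have zy := hsum l vy
  have zd' := hsum l vd
  have zz' := hsum l vz
  rw [hl] at zx zy zd' zz'
  simp only [xx, yy, m1, hh_symm_one hF m1, dx, dy, dz, l0, l1, l2, l3, zero_pow two_ne_zero,
    zero_mul, mul_zero, mul_one, add_zero, zero_add] at zx zy zd' zz'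
  rw [← hh_conj hF vx vz, zx, ← hh_conj hF vy vz, zy, zz, pow_four hF, pow_four hF] at zz'
  have hl5 : l 5 = 1 + l 4 := by
    have h1 : 1 = (l 4 + l 5) ^ 2 :=
      zd'.trans (by linear_combination -(l 4 * l 5) * add_self hF (1 : F))
    have h2 : l 4 + l 5 = 1 := by
      have := congrArg (· ^ 2) h1
      simpa [pow_four hF] using this.symm
    linear_combination h2 - add_self hF (l 4)
  have hl4 : l 4 ^ 2 = l 4 := by
    rw [hl5] at zz'
    linear_combination -zz' - (l 4 ^ 3 + l 4 ^ 2 + l 4) * add_self hF (1 : F)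
  simp only [Fin.sum_univ_six, v, l0, l1, l2, l3, zero_smul, zero_add] at hl
  change l 4 • vx + l 5 • vy = vz at hl
  rcases fixed hF hl4 with e | e
  · rw [hl5, e, zero_smul, zero_add, add_zero, one_smul] at hl
    exact hyz (by rw [hl])
  · rw [hl5, e, one_smul, add_self hF, zero_smul, add_zero] at hl
    exact hxz (by rw [hl])

theorem end_choice {g g' d e t h i u : Y} (hg : g ∈ D) (hg' : g' ∈ D) (hd : d ∈ D) (he : e ∈ D)
    (ht : t ∈ D) (hh' : h ∈ D) (hi : i ∈ D) (hu : u ∈ D) (gt : ¬ Commute g t) (te : ¬ Commute t e)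
    (ed : ¬ Commute e d) (dh : ¬ Commute d h) (hi' : ¬ Commute h i) (td : Commute t d)
    (th : Commute t h) (ti : Commute t i) (eh : Commute e h) (ei : Commute e i) (di : Commute d i)
    (ge : Commute g e) (gd : Commute g d) (gh : Commute g h) (gi : Commute g i)
    (g'i : ¬ Commute g' i) (g't : Commute g' t) (g'e : Commute g' e) (g'd : Commute g' d)
    (g'h : Commute g' h) (gg' : ¬ Commute g g') (ue : Commute u e) (ut : Commute u t)
    (uh : Commute u h) (ui : Commute u i) (und : ¬ Commute u d) :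
    Commute u g ∨ Commute u g' := by
  obtain ⟨vd, d0, dd, rfl⟩ := exists_pt hF f hf hk hD hd
  obtain ⟨ve, e0, ee, de, rfl⟩ := exists_pt_one hF f hf hk hD he d0 dd ed
  obtain ⟨vh, h0, h0h, dh', rfl⟩ := exists_pt_one hF f hf hk hD hh' d0 dd fun e => dh e.symm
  obtain ⟨vt, t0, tt, et, rfl⟩ := exists_pt_one hF f hf hk hD ht e0 ee te
  obtain ⟨vi, i0, ii, hi1, rfl⟩ := exists_pt_one hF f hf hk hD hi h0 h0h fun e => hi' e.symm
  obtain ⟨vg, g0, gv, tg, rfl⟩ := exists_pt_one hF f hf hk hD hg t0 tt gt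
  obtain ⟨vk, q0, qq, iq, rfl⟩ := exists_pt_one hF f hf hk hD hg' i0 ii g'i
  obtain ⟨vu, u0, uu, rfl⟩ := exists_pt hF f hf hk hD hu
  rw [pt_commute hF f hk t0 d0 tt dd] at td
  rw [pt_commute hF f hk t0 h0 tt h0h] at th
  rw [pt_commute hF f hk t0 i0 tt ii] at ti
  rw [pt_commute hF f hk e0 h0 ee h0h] at eh
  rw [pt_commute hF f hk e0 i0 ee ii] at ei
  rw [pt_commute hF f hk d0 i0 dd ii] at di
  rw [pt_commute hF f hk g0 e0 gv ee] at ge
  rw [pt_commute hF f hk g0 d0 gv dd] at gd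
  rw [pt_commute hF f hk g0 h0 gv h0h] at gh
  rw [pt_commute hF f hk g0 i0 gv ii] at gi
  rw [pt_commute hF f hk q0 t0 qq tt] at g't
  rw [pt_commute hF f hk q0 e0 qq ee] at g'e
  rw [pt_commute hF f hk q0 d0 qq dd] at g'd
  rw [pt_commute hF f hk q0 h0 qq h0h] at g'h
  rw [pt_commute hF f hk g0 q0 gv qq] at gg'
  rw [pt_commute hF f hk u0 e0 uu ee] at ue
  rw [pt_commute hF f hk u0 t0 uu tt] at ut
  rw [pt_commute hF f hk u0 h0 uu h0h] at uh
  rw [pt_commute hF f hk u0 i0 uu ii] at ui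
  rw [pt_commute hF f hk u0 d0 uu dd] at und
  rw [pt_commute hF f hk u0 g0 uu gv, pt_commute hF f hk u0 q0 uu qq]
  have s0 := @hh_symm_zero F _ _ hF
  have s1 := @hh_symm_one F _ _ hF
  let v : Fin 6 → Fin 6 → F := ![vg, vt, ve, vd, vh, vi]
  have hsum : ∀ (k : Fin 6 → F) (w : Fin 6 → F), hh w (∑ j, k j • v j) =
      k 0 ^ 2 * hh w vg + k 1 ^ 2 * hh w vt + k 2 ^ 2 * hh w ve + k 3 ^ 2 * hh w vd +
        k 4 ^ 2 * hh w vh + k 5 ^ 2 * hh w vi := by
    intro k w
    simp only [Fin.sum_univ_six, hh_add_right hF, hh_smul_right hF, v]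
    rfl
  -- the pairings of a combination with the six vectors
  have val : ∀ k : Fin 6 → F, ∀ w, ∑ j, k j • v j = w →
      hh vg w = k 1 ^ 2 ∧ hh vt w = k 0 ^ 2 + k 2 ^ 2 ∧ hh ve w = k 1 ^ 2 + k 3 ^ 2 ∧
        hh vd w = k 2 ^ 2 + k 4 ^ 2 ∧ hh vh w = k 3 ^ 2 + k 5 ^ 2 ∧ hh vi w = k 4 ^ 2 := by
    intro k w hw
    rw [← hw]
    simp only [hsum, gv, tt, ee, dd, h0h, ii, ge, gd, gh, gi, s0 ge, s0 gd, s0 gh, s0 gi, td, th, ti,
      s0 td, s0 th, s0 ti, eh, ei, s0 eh, s0 ei, di, s0 di, tg, s1 tg, et, s1 et, de, s1 de, dh',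
      s1 dh', hi1, s1 hi1, mul_zero, mul_one, add_zero, zero_add, and_self]
  have hli : LinearIndependent F v := by
    rw [Fintype.linearIndependent_iff]
    intro k hk'
    obtain ⟨a1, a2, a3, a4, a5, a6⟩ := val k 0 hk'
    simp only [hh_zero_right hF] at a1 a2 a3 a4 a5 a6
    have k1 := pow_eq_zero_iff two_ne_zero |>.1 a1.symm
    have k4 := pow_eq_zero_iff two_ne_zero |>.1 a6.symm
    simp only [k1, k4, zero_pow two_ne_zero, zero_add, add_zero] at a3 a4
    have k3 := pow_eq_zero_iff two_ne_zero |>.1 a3.symm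
    have k2 := pow_eq_zero_iff two_ne_zero |>.1 a4.symm
    simp only [k2, k3, zero_pow two_ne_zero, zero_add, add_zero] at a2 a5
    have k0 := pow_eq_zero_iff two_ne_zero |>.1 a2.symm
    have k5 := pow_eq_zero_iff two_ne_zero |>.1 a5.symm
    intro j; fin_cases j
    exacts [k0, k1, k2, k3, k4, k5]
  have hexp : ∀ w, ∃ k : Fin 6 → F, ∑ j, k j • v j = w := fun w =>
    Submodule.mem_span_range_iff_exists_fun F |>.1
      ((hli.span_eq_top_of_card_eq_finrank (by simp)) ▸ Submodule.mem_top)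
  have eqs : ∀ {a b : F}, 0 = a ^ 2 + b ^ 2 → a = b := by
    intro a b e
    have h1 : (a + b) ^ 2 = 0 := by linear_combination -e + a * b * add_self hF (1 : F)
    exact (sub_eq_zero.1 (by
      linear_combination (pow_eq_zero_iff two_ne_zero |>.1 h1) - add_self hF b))
  obtain ⟨k, hk'⟩ := hexp vu
  obtain ⟨a1, a2, a3, -, a5, a6⟩ := val k vu hk'
  simp only [s0 ut, s0 ue, s0 uh, s0 ui] at a2 a3 a5 a6
  have k4 := pow_eq_zero_iff two_ne_zero |>.1 a6.symm
  obtain ⟨l, hl⟩ := hexp vk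
  obtain ⟨b1, b2, b3, b4, b5, b6⟩ := val l vk hl
  simp only [s0 g't, s0 g'e, s0 g'd, s0 g'h, iq] at b2 b3 b4 b5 b6
  have l4 : l 4 ^ 2 = 1 := b6.symm
  have k20 := eqs a2
  have k31 := eqs a3
  have k35 := eqs a5
  have l02 := eqs b2
  have l13 := eqs b3
  have l24 := eqs b4
  have l35 := eqs b5
  by_cases hA : k 1 = 0
  · left
    rw [← hh_conj hF vg vu, a1, hA]
    simp
  right
  -- isotropy of `u` and of `g'`
  have iu := hsum k vu
  rw [hk', uu] at iu
  have ud : hh vu vd = k 0 + k 4 := by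
    rw [← hh_conj hF vd vu, (val k vu hk').2.2.2.1, ← k20]
    linear_combination pow_four hF (k 0) + pow_four hF (k 4) +
      (k 0 ^ 2 * k 4 ^ 2) * add_self hF (1 : F)
  have ug : hh vu vg = k 1 := by rw [← hh_conj hF vg vu, a1, pow_four hF]
  simp only [ut, ue, uh, ui, ud, ug, k4, mul_zero, zero_pow two_ne_zero, zero_mul, add_zero,
    zero_add, ← k31] at iu
  have k01 : k 0 = k 1 := by
    by_cases h0 : k 0 = 0
    · exact absurd (by rw [ud, h0, k4, add_zero]) und
    · have h1 : k 0 * k 1 * (k 0 + k 1) = 0 := by linear_combination -iu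
      simp only [mul_eq_zero, h0, hA, false_or] at h1
      linear_combination h1 - add_self hF (k 1)
  have ik := hsum l vk
  rw [hl, qq] at ik
  have kg : hh vk vg = l 1 := by rw [← hh_conj hF vg vk, b1, pow_four hF]
  simp only [g't, g'e, g'd, g'h, kg, s1 iq, mul_zero, mul_one, add_zero, zero_add, ← l13,
    ← l35] at ik
  have hl1 : l 1 ≠ 0 := by
    intro e
    exact gg' (by rw [b1, e, zero_pow two_ne_zero])
  have hl0 : l 0 = l 4 := l02.trans l24
  have l14 : l 1 = 1 := by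
    have h4 : l 4 = 1 := by
      have := congrArg (· ^ 2) l4
      simpa [pow_four hF] using this
    rw [hl0, h4, one_pow, one_mul] at ik
    have h1 : l 1 * (l 1 + 1) = 0 := by linear_combination -ik
    simp only [mul_eq_zero, hl1, false_or] at h1
    linear_combination h1 - add_self hF (1 : F)
  have uk := hsum l vu
  rw [hl] at uk
  simp only [ut, ue, uh, ui, ud, ug, k4, mul_zero, zero_pow two_ne_zero, zero_mul, add_zero,
    zero_add, k01, hl0, ← l13, l14, one_pow, one_mul, l4] at uk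
  rw [uk, add_self hF]

end Model

section Wrap

variable {G : Type*} [Group G] {D : Set G} (hU : IsU6 G) (hD : Cfsg.IsThreeTranspositionGroup D)
include hU hD

theorem u6_three_outer {d e t h i x y z : G} (hd : d ∈ D) (he : e ∈ D) (ht : t ∈ D) (hh' : h ∈ D)
    (hi : i ∈ D) (hx : x ∈ D) (hy : y ∈ D) (hz : z ∈ D) (te : ¬ Commute t e) (ed : ¬ Commute e d)
    (dh : ¬ Commute d h) (hi' : ¬ Commute h i) (td : Commute t d) (th : Commute t h)
    (ti : Commute t i) (eh : Commute e h) (ei : Commute e i) (di : Commute d i)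
    (xe : Commute x e) (xt : Commute x t) (xh : Commute x h) (xi : Commute x i) (xd : ¬ Commute x d)
    (ye : Commute y e) (yt : Commute y t) (yh : Commute y h) (yi : Commute y i) (yd : ¬ Commute y d)
    (ze : Commute z e) (zt : Commute z t) (zh : Commute z h) (zi : Commute z i) (zd : ¬ Commute z d)
    (hxy : x ≠ y) (hxz : x ≠ z) (hyz : y ≠ z) : False := by
  obtain ⟨F, _, _, f, hF, hf, hk⟩ := exists_model hU hD
  exact three_outer hF f hf hk hD hd he ht hh' hi hx hy hz te ed dh hi' td th ti eh ei di xe xt xh xi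
    xd ye yt yh yi yd ze zt zh zi zd hxy hxz hyz

theorem u6_end_choice {g g' d e t h i u : G} (hg : g ∈ D) (hg' : g' ∈ D) (hd : d ∈ D) (he : e ∈ D)
    (ht : t ∈ D) (hh' : h ∈ D) (hi : i ∈ D) (hu : u ∈ D) (gt : ¬ Commute g t) (te : ¬ Commute t e)
    (ed : ¬ Commute e d) (dh : ¬ Commute d h) (hi' : ¬ Commute h i) (td : Commute t d)
    (th : Commute t h) (ti : Commute t i) (eh : Commute e h) (ei : Commute e i) (di : Commute d i)
    (ge : Commute g e) (gd : Commute g d) (gh : Commute g h) (gi : Commute g i)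
    (g'i : ¬ Commute g' i) (g't : Commute g' t) (g'e : Commute g' e) (g'd : Commute g' d)
    (g'h : Commute g' h) (gg' : ¬ Commute g g') (ue : Commute u e) (ut : Commute u t)
    (uh : Commute u h) (ui : Commute u i) (und : ¬ Commute u d) :
    Commute u g ∨ Commute u g' := by
  obtain ⟨F, _, _, f, hF, hf, hk⟩ := exists_model hU hD
  exact end_choice hF f hf hk hD hg hg' hd he ht hh' hi hu gt te ed dh hi' td th ti eh ei di ge gd gh
    gi g'i g't g'e g'd g'h gg' ue ut uh ui und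

end Wrap

end CfsgLib.Trans3.FiConf
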