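import Cfsg.Agent.Lib.Trans3.Fi.U6Config

/-!
In `PSU₆(2)`: paths of four transvections among the common partners of a non-commuting pair, and the
vector dual to the middle node of a path of six.
-/

set_option autoImplicit false
set_option linter.unusedSectionVars false

namespace CfsgLib.Trans3.FiConf

open Matrix CfsgLib.MaxSub CfsgLib.Classical CfsgLib.Trans3.TvSU CfsgLib.Trans3.Fi

section Model

variable {F : Type*} [Field F] [Fintype F] (hF : Fintype.card F = 2 ^ 2)
variable {Y : Type*} [Group Y] {D : Set Y} (f : ↥(Cfsg.SU 6 F 2) →* Y)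
  (hf : Function.Surjective f) (hk : f.ker = Subgroup.center ↥(Cfsg.SU 6 F 2))
  (hD : Cfsg.IsThreeTranspositionGroup D)
include hF hf hk hD

theorem extend_pair {a c p r : Y} (ha : a ∈ D) (hc : c ∈ D) (hp : p ∈ D) (hr : r ∈ D)
    (hac : ¬ Commute a c) (hap : Commute a p) (hcp : Commute c p) (har : Commute a r)
    (hcr : Commute c r) (hpr : Commute p r) (hne : p ≠ r) :
    ∃ q ∈ D, ∃ s ∈ D, Commute a q ∧ Commute c q ∧ Commute a s ∧ Commute c s ∧
      ¬ Commute p q ∧ ¬ Commute q r ∧ ¬ Commute r s ∧ Commute p s ∧ Commute q s := by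
  obtain ⟨va, a0, aa, rfl⟩ := exists_pt hF f hf hk hD ha
  obtain ⟨vc, c0, cc, rfl⟩ := exists_pt hF f hf hk hD hc
  obtain ⟨vp, p0, pp, rfl⟩ := exists_pt hF f hf hk hD hp
  obtain ⟨vr, r0, rr, rfl⟩ := exists_pt hF f hf hk hD hr
  rw [pt_commute hF f hk a0 c0 aa cc] at hac
  rw [pt_commute hF f hk a0 p0 aa pp] at hap
  rw [pt_commute hF f hk c0 p0 cc pp] at hcp
  rw [pt_commute hF f hk a0 r0 aa rr] at har
  rw [pt_commute hF f hk c0 r0 cc rr] at hcr
  rw [pt_commute hF f hk p0 r0 pp rr] at hpr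
  have hac' : hh vc va ≠ 0 := fun e => hac (hh_symm_zero hF e)
  have key : ∀ {x : Fin 6 → F}, hh va x = 0 → hh vc x = 0 → ∀ {α β γ : F},
      x = α • va + β • vc + γ • vp → x = γ • vp := by
    intro x e1 e2 α β γ e
    have h1 : β ^ 2 * hh va vc = 0 := by
      simpa only [e, hh_add_right hF, hh_smul_right hF, aa, hap, mul_zero, zero_add, add_zero]
        using e1
    have h2 : α ^ 2 * hh vc va = 0 := by
      simpa only [e, hh_add_right hF, hh_smul_right hF, cc, hcp, mul_zero, add_zero] using e2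
    simp only [mul_eq_zero, hac, hac', or_false, pow_eq_zero_iff (two_ne_zero)] at h1 h2
    rw [e, h1, h2, zero_smul, zero_smul, zero_add, zero_add]
  have hrp : ∀ γ : F, vr ≠ γ • vp := by
    intro γ e
    by_cases hγ : γ = 0
    · exact r0 (by rw [e, hγ, zero_smul])
    · exact hne (by rw [e, pt_smul hF f pp hγ])
  have notr : vr ∉ Submodule.span F ({va, vc, vp} : Set (Fin 6 → F)) := by
    intro hm
    obtain ⟨α, β, γ, e⟩ := Submodule.mem_span_triple.1 hm
    exact hrp γ (key har hcr e.symm)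
  have notp : vp ∉ Submodule.span F ({va, vc, vr} : Set (Fin 6 → F)) := by
    intro hm
    obtain ⟨α, β, γ, e⟩ := Submodule.mem_span_triple.1 hm
    have h1 : β ^ 2 * hh va vc = 0 := by
      simpa only [← e, hh_add_right hF, hh_smul_right hF, aa, har, mul_zero, zero_add, add_zero]
        using hap
    have h2 : α ^ 2 * hh vc va = 0 := by
      simpa only [← e, hh_add_right hF, hh_smul_right hF, cc, hcr, mul_zero, add_zero] using hcp
    simp only [mul_eq_zero, hac, hac', or_false, pow_eq_zero_iff (two_ne_zero)] at h1 h2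
    rw [h1, h2, zero_smul, zero_smul, zero_add, zero_add] at e
    by_cases hγ : γ = 0
    · exact p0 (by rw [← e, hγ, zero_smul])
    · exact hne (by rw [← e, pt_smul hF f rr hγ])
  obtain ⟨x, hx, hxr⟩ := exists_hh hF notr
  obtain ⟨y, hy, hyp⟩ := exists_hh hF notp
  have xa : hh x va = 0 := hx va (Submodule.subset_span (by simp))
  have xc : hh x vc = 0 := hx vc (Submodule.subset_span (by simp))
  have xp : hh x vp = 0 := hx vp (Submodule.subset_span (by simp))
  have ya : hh y va = 0 := hy va (Submodule.subset_span (by simp))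
  have yc : hh y vc = 0 := hy vc (Submodule.subset_span (by simp))
  have yr : hh y vr = 0 := hy vr (Submodule.subset_span (by simp))
  obtain ⟨l, qq, hpq⟩ := exists_pair hF (u := vp) (x := x + y) pp (by
    rw [hh_add_right hF, hh_symm_zero hF xp, hh_symm_one hF hyp, zero_add])
  obtain ⟨vq, eq⟩ : ∃ v, v = x + y + l • vp := ⟨_, rfl⟩
  rw [← eq] at qq hpq
  have qa : hh vq va = 0 := by
    rw [eq, hh_add_left hF, hh_add_left hF, hh_smul_left hF, xa, ya, hh_symm_zero hF hap]; simp
  have qc : hh vq vc = 0 := by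
    rw [eq, hh_add_left hF, hh_add_left hF, hh_smul_left hF, xc, yc, hh_symm_zero hF hcp]; simp
  have qr : hh vq vr = 1 := by
    rw [eq, hh_add_left hF, hh_add_left hF, hh_smul_left hF, hxr, yr, hpr]; simp
  have q0 : vq ≠ 0 := fun e => zero_ne_one ((hh_zero_left hF vr).symm.trans (e ▸ qr))
  have notr' : vr ∉ Submodule.span F ({va, vc, vp, vq} : Set (Fin 6 → F)) := by
    intro hm
    rw [Submodule.mem_span_insert] at hm
    obtain ⟨α, z, hz, e⟩ := hm
    obtain ⟨β, γ, δ, rfl⟩ := Submodule.mem_span_triple.1 hz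
    have h3 : δ ^ 2 * hh vp vq = 0 := by
      simpa only [e, hh_add_right hF, hh_smul_right hF, pp, hh_symm_zero hF hap,
        hh_symm_zero hF hcp, mul_zero, zero_add, add_zero] using hpr
    rw [hpq, mul_one, pow_eq_zero_iff (two_ne_zero)] at h3
    exact hrp γ (key har hcr (α := α) (β := β) (γ := γ) (by rw [e, h3]; module))
  obtain ⟨z, hz, hzr⟩ := exists_hh hF notr'
  have za : hh z va = 0 := hz va (Submodule.subset_span (by simp))
  have zc : hh z vc = 0 := hz vc (Submodule.subset_span (by simp))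
  have zp : hh z vp = 0 := hz vp (Submodule.subset_span (by simp))
  have zq : hh z vq = 0 := hz vq (Submodule.subset_span (by simp))
  have hu : hh (vp + vr) (vp + vr) = 0 := by
    simp only [hh_add_left hF, hh_add_right hF, pp, rr, hpr, hh_symm_zero hF hpr, add_zero]
  obtain ⟨m, ss, hus⟩ := exists_pair hF (u := vp + vr) (x := z) hu (by
    rw [hh_add_left hF, hh_symm_zero hF zp, hh_symm_one hF hzr, zero_add])
  obtain ⟨vs, es⟩ : ∃ v, v = z + m • (vp + vr) := ⟨_, rfl⟩
  rw [← es] at ss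
  have sa : hh vs va = 0 := by
    rw [es, hh_add_left hF, hh_smul_left hF, hh_add_left hF, za, hh_symm_zero hF hap,
      hh_symm_zero hF har]; simp
  have sc : hh vs vc = 0 := by
    rw [es, hh_add_left hF, hh_smul_left hF, hh_add_left hF, zc, hh_symm_zero hF hcp,
      hh_symm_zero hF hcr]; simp
  have sp : hh vs vp = 0 := by
    rw [es, hh_add_left hF, hh_smul_left hF, hh_add_left hF, zp, pp, hh_symm_zero hF hpr]; simp
  have sq : hh vs vq = 0 := by
    rw [es, hh_add_left hF, hh_smul_left hF, hh_add_left hF, zq, hpq, hh_symm_one hF qr,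
      add_self hF, mul_zero, add_zero]
  have sr : hh vs vr = 1 := by
    rw [es, hh_add_left hF, hh_smul_left hF, hh_add_left hF, hzr, hpr, rr]; simp
  have s0 : vs ≠ 0 := fun e => zero_ne_one ((hh_zero_left hF vr).symm.trans (e ▸ sr))
  refine ⟨_, pt_mem hF f hf hk hD q0 qq, _, pt_mem hF f hf hk hD s0 ss,
    (pt_commute hF f hk a0 q0 aa qq).2 (hh_symm_zero hF qa),
    (pt_commute hF f hk c0 q0 cc qq).2 (hh_symm_zero hF qc),
    (pt_commute hF f hk a0 s0 aa ss).2 (hh_symm_zero hF sa),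
    (pt_commute hF f hk c0 s0 cc ss).2 (hh_symm_zero hF sc), ?_, ?_, ?_,
    (pt_commute hF f hk p0 s0 pp ss).2 (hh_symm_zero hF sp),
    (pt_commute hF f hk q0 s0 qq ss).2 (hh_symm_zero hF sq)⟩
  · rw [pt_commute hF f hk p0 q0 pp qq, hpq]; exact one_ne_zero
  · rw [pt_commute hF f hk q0 r0 qq rr, qr]; exact one_ne_zero
  · rw [pt_commute hF f hk r0 s0 rr ss, hh_symm_one hF sr]; exact one_ne_zero

theorem dual_node {d e t g h i : Y} (hd : d ∈ D) (he : e ∈ D) (ht : t ∈ D) (hg : g ∈ D) (hh' : h ∈ D)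
    (hi : i ∈ D) (gt : ¬ Commute g t) (te : ¬ Commute t e) (ed : ¬ Commute e d) (dh : ¬ Commute d h)
    (hi' : ¬ Commute h i) (ge : Commute g e) (gd : Commute g d) (gh : Commute g h) (gi : Commute g i)
    (td : Commute t d) (th : Commute t h) (ti : Commute t i) (eh : Commute e h) (ei : Commute e i)
    (di : Commute d i) :
    ∃ u ∈ D, ¬ Commute u d ∧ Commute u e ∧ Commute u t ∧ Commute u g ∧ Commute u h ∧
      Commute u i := by
  obtain ⟨vd, d0, dd, rfl⟩ := exists_pt hF f hf hk hD hd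
  obtain ⟨ve, e0, ee, rfl⟩ := exists_pt hF f hf hk hD he
  obtain ⟨vt, t0, tt, rfl⟩ := exists_pt hF f hf hk hD ht
  obtain ⟨vg, g0, gg, rfl⟩ := exists_pt hF f hf hk hD hg
  obtain ⟨vh, h0, h0h, rfl⟩ := exists_pt hF f hf hk hD hh'
  obtain ⟨vi, i0, ii, rfl⟩ := exists_pt hF f hf hk hD hi
  rw [pt_commute hF f hk g0 t0 gg tt] at gt
  rw [pt_commute hF f hk t0 e0 tt ee] at te
  rw [pt_commute hF f hk e0 d0 ee dd] at ed
  rw [pt_commute hF f hk d0 h0 dd h0h] at dh
  rw [pt_commute hF f hk h0 i0 h0h ii] at hi'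
  rw [pt_commute hF f hk g0 e0 gg ee] at ge
  rw [pt_commute hF f hk g0 d0 gg dd] at gd
  rw [pt_commute hF f hk g0 h0 gg h0h] at gh
  rw [pt_commute hF f hk g0 i0 gg ii] at gi
  rw [pt_commute hF f hk t0 d0 tt dd] at td
  rw [pt_commute hF f hk t0 h0 tt h0h] at th
  rw [pt_commute hF f hk t0 i0 tt ii] at ti
  rw [pt_commute hF f hk e0 h0 ee h0h] at eh
  rw [pt_commute hF f hk e0 i0 ee ii] at ei
  rw [pt_commute hF f hk d0 i0 dd ii] at di
  let v : Fin 6 → Fin 6 → F := ![vg, vt, ve, vd, vh, vi]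
  have hsum : ∀ (k : Fin 6 → F) (y : Fin 6 → F), hh y (∑ j, k j • v j) =
      k 0 ^ 2 * hh y vg + k 1 ^ 2 * hh y vt + k 2 ^ 2 * hh y ve + k 3 ^ 2 * hh y vd +
        k 4 ^ 2 * hh y vh + k 5 ^ 2 * hh y vi := by
    intro k y
    simp only [Fin.sum_univ_six, hh_add_right hF, hh_smul_right hF, v]
    rfl
  have elim : ∀ k : Fin 6 → F, (∀ j, j ≠ 3 → hh (v j) (∑ l, k l • v l) = 0) →
      k 1 = 0 ∧ k 4 = 0 ∧ k 3 = 0 := by
    intro k hk'
    have e0 := hk' 0 (by decide)
    have e5 := hk' 5 (by decide)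
    have e2 := hk' 2 (by decide)
    rw [hsum] at e0 e5 e2
    simp only [v, show (![vg, vt, ve, vd, vh, vi] : Fin 6 → Fin 6 → F) 0 = vg from rfl,
      show (![vg, vt, ve, vd, vh, vi] : Fin 6 → Fin 6 → F) 5 = vi from rfl,
      show (![vg, vt, ve, vd, vh, vi] : Fin 6 → Fin 6 → F) 2 = ve from rfl] at e0 e5 e2
    simp only [gg, ge, gd, gh, gi, ii, hh_symm_zero hF gi, hh_symm_zero hF ti, hh_symm_zero hF ei,
      hh_symm_zero hF di, ee, eh, ei, hh_symm_zero hF ge, mul_zero, add_zero, zero_add,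
      mul_eq_zero, pow_eq_zero_iff (two_ne_zero), gt, mt (hh_symm_zero hF) hi',
      or_false] at e0 e5 e2
    refine ⟨e0, e5, ?_⟩
    rw [e0] at e2
    simpa [ed] using e2
  have hli : LinearIndependent F v := by
    rw [Fintype.linearIndependent_iff]
    intro k hk'
    obtain ⟨k1, k4, k3⟩ := elim k fun j _ => by rw [hk', hh_zero_right hF]
    have e3 := congrArg (hh vd) hk'
    have e1 := congrArg (hh vt) hk'
    have e4 := congrArg (hh vh) hk'
    rw [hsum, hh_zero_right hF] at e3 e1 e4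
    simp only [dd, tt, h0h, hh_symm_zero hF gd, hh_symm_zero hF gh, hh_symm_zero hF td,
      hh_symm_zero hF th, hh_symm_zero hF eh, di, td, th, ti, k1, k3, k4, zero_pow two_ne_zero,
      mul_zero, zero_mul, add_zero, zero_add, mul_eq_zero, pow_eq_zero_iff (two_ne_zero), hi',
      mt (hh_symm_zero hF) ed, mt (hh_symm_zero hF) gt, or_false] at e3 e1 e4
    rw [e3] at e1
    simp [mt (hh_symm_zero hF) gt] at e1
    intro j; fin_cases j
    exacts [e1, k1, e3, k3, k4, e4]
  have hnot : vd ∉ Submodule.span F (v '' {j | j ≠ 3}) := by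
    intro hm
    have := hli.notMem_span_image (s := {j | j ≠ 3}) (x := 3) (by simp)
    exact this hm
  obtain ⟨u, hu, hud⟩ := exists_hh hF hnot
  have hu' : ∀ j, j ≠ 3 → hh u (v j) = 0 := fun j hj =>
    hu _ (Submodule.subset_span ⟨j, hj, rfl⟩)
  have hspan : u ∈ Submodule.span F (Set.range v) :=
    (hli.span_eq_top_of_card_eq_finrank (by simp)) ▸ Submodule.mem_top
  obtain ⟨k, hk'⟩ := Submodule.mem_span_range_iff_exists_fun F |>.1 hspan
  obtain ⟨-, -, k3⟩ := elim k fun j hj => by rw [hk']; exact hh_symm_zero hF (hu' j hj)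
  have uu : hh u u = 0 := by
    have h1 := hsum k u
    rw [hk', k3] at h1
    simpa [show hh u vg = 0 from hu' 0 (by decide), show hh u vt = 0 from hu' 1 (by decide),
      show hh u ve = 0 from hu' 2 (by decide), show hh u vh = 0 from hu' 4 (by decide),
      show hh u vi = 0 from hu' 5 (by decide)] using h1
  have u0 : u ≠ 0 := fun e => zero_ne_one ((hh_zero_left hF vd).symm.trans (e ▸ hud))
  exact ⟨_, pt_mem hF f hf hk hD u0 uu,
    fun e => zero_ne_one (((pt_commute hF f hk u0 d0 uu dd).1 e).symm.trans hud),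
    (pt_commute hF f hk u0 e0 uu ee).2 (hu' 2 (by decide)),
    (pt_commute hF f hk u0 t0 uu tt).2 (hu' 1 (by decide)),
    (pt_commute hF f hk u0 g0 uu gg).2 (hu' 0 (by decide)),
    (pt_commute hF f hk u0 h0 uu h0h).2 (hu' 4 (by decide)),
    (pt_commute hF f hk u0 i0 uu ii).2 (hu' 5 (by decide))⟩

end Model

section Wrap

variable {G : Type*} [Group G] {D : Set G} (hU : IsU6 G) (hD : Cfsg.IsThreeTranspositionGroup D)
include hU hD

theorem u6_extend_pair {a c p r : G} (ha : a ∈ D) (hc : c ∈ D) (hp : p ∈ D) (hr : r ∈ D)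
    (hac : ¬ Commute a c) (hap : Commute a p) (hcp : Commute c p) (har : Commute a r)
    (hcr : Commute c r) (hpr : Commute p r) (hne : p ≠ r) :
    ∃ q ∈ D, ∃ s ∈ D, Commute a q ∧ Commute c q ∧ Commute a s ∧ Commute c s ∧
      ¬ Commute p q ∧ ¬ Commute q r ∧ ¬ Commute r s ∧ Commute p s ∧ Commute q s := by
  obtain ⟨F, _, _, f, hF, hf, hk⟩ := exists_model hU hD
  exact extend_pair hF f hf hk hD ha hc hp hr hac hap hcp har hcr hpr hne

theorem u6_dual_node {d e t g h i : G} (hd : d ∈ D) (he : e ∈ D) (ht : t ∈ D) (hg : g ∈ D)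
    (hh' : h ∈ D) (hi : i ∈ D) (gt : ¬ Commute g t) (te : ¬ Commute t e) (ed : ¬ Commute e d)
    (dh : ¬ Commute d h) (hi' : ¬ Commute h i) (ge : Commute g e) (gd : Commute g d)
    (gh : Commute g h) (gi : Commute g i) (td : Commute t d) (th : Commute t h) (ti : Commute t i)
    (eh : Commute e h) (ei : Commute e i) (di : Commute d i) :
    ∃ u ∈ D, ¬ Commute u d ∧ Commute u e ∧ Commute u t ∧ Commute u g ∧ Commute u h ∧
      Commute u i := by
  obtain ⟨F, _, _, f, hF, hf, hk⟩ := exists_model hU hD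
  exact dual_node hF f hf hk hD hd he ht hg hh' hi gt te ed dh hi' ge gd gh gi td th ti eh ei di

end Wrap

end CfsgLib.Trans3.FiConf
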